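import Mathlib

/-! # Zassenhaus cluster (S0690, S3359, ...): shared definitions

Core object: a finite group `G` with a *free* complex matrix representation `ρ` (no non-identity
element has a non-zero fixed vector).  Everything in `Cfsg/Agent/Lib/Zass/*` is phrased with an
explicit `ρ : G →* GL (Fin n) ℂ`; subgroups use `ρ.comp B.subtype`. -/

set_option autoImplicit false

namespace Cfsg.Agent.ZassL

universe u

/-- `ρ` is free: a non-identity element fixes no non-zero vector. -/
def IsFree {G : Type u} [Group G] {n : ℕ}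
    (ρ : G →* Matrix.GeneralLinearGroup (Fin n) ℂ) : Prop :=
  ∀ g : G, g ≠ 1 → ∀ v : Fin n → ℂ,
    ((ρ g : Matrix.GeneralLinearGroup (Fin n) ℂ) : Matrix (Fin n) (Fin n) ℂ).mulVec v = v → v = 0

/-- `G` has a free complex representation of positive degree. -/
def HasFreeRep (G : Type u) [Group G] : Prop :=
  ∃ (n : ℕ) (ρ : G →* Matrix.GeneralLinearGroup (Fin n) ℂ), 0 < n ∧ IsFree ρ

/-- the matrix of `ρ g` -/
abbrev mat {G : Type u} [Group G] {n : ℕ}
    (ρ : G →* Matrix.GeneralLinearGroup (Fin n) ℂ) (g : G) : Matrix (Fin n) (Fin n) ℂ :=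
  ((ρ g : Matrix.GeneralLinearGroup (Fin n) ℂ) : Matrix (Fin n) (Fin n) ℂ)

/-- `QSet x`: the subgroups of order `8` normalized but not centralized by `x`
(for `x` of order `3` in a group with a free representation these are quaternion groups on
which `x` acts as an automorphism of order `3`). -/
def QSet {G : Type u} [Group G] (x : G) : Set (Subgroup G) :=
  {Q | Nat.card Q = 8 ∧ (∀ q ∈ Q, x * q * x⁻¹ ∈ Q) ∧ ∃ q ∈ Q, x * q ≠ q * x}

/-- the allowed orders of a product of two elements of order `3` -/
def ord33 : Finset ℕ := {1, 3, 4, 5, 6, 10}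

end Cfsg.Agent.ZassL
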