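import Mathlib
import Cfsg.Agent.Lib.Zass.Defs

/-!
# Zassenhaus cluster, slice ZD (part A): general Sylow helpers and groups of order 24

`small_24`: a group of order `24` with a central involution and a non-normal subgroup `⟨x⟩` of
order `3` has a normal Sylow `2`-subgroup `Q ∈ QSet x` with `Q ⊔ ⟨x⟩ = ⊤`.
-/

set_option autoImplicit false
set_option linter.unusedSectionVars false
set_option linter.style.haveILetI false

namespace Cfsg.Agent.ZassL

open Subgroup

theorem factorization_eq_of {n p k : ℕ} (hp : p.Prime) (hn : n ≠ 0) (h1 : p ^ k ∣ n)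
    (h2 : ¬ p ^ (k + 1) ∣ n) : n.factorization p = k := by
  have a1 : k ≤ n.factorization p := (hp.pow_dvd_iff_le_factorization hn).1 h1
  have a2 : ¬ (k + 1 ≤ n.factorization p) :=
    fun h => h2 ((hp.pow_dvd_iff_le_factorization hn).2 h)
  omega

section gen
variable {G : Type*} [Group G] [Finite G]

/-- the Sylow `p`-subgroup generated by an element of order `p`, when `p ^ 2 ∤ |G|` -/
noncomputable def sylowOfOrder {p : ℕ} [Fact p.Prime] (x : G) (hx : orderOf x = p)
    (h2 : ¬ p ^ 2 ∣ Nat.card G) : Sylow p G :=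
  Sylow.ofCard (zpowers x) (by
    have h1 : p ^ 1 ∣ Nat.card G := by rw [pow_one, ← hx]; exact orderOf_dvd_natCard x
    rw [Nat.card_zpowers, hx, factorization_eq_of Fact.out Nat.card_pos.ne' h1 h2, pow_one])

@[simp] theorem coe_sylowOfOrder {p : ℕ} [Fact p.Prime] (x : G) (hx : orderOf x = p)
    (h2 : ¬ p ^ 2 ∣ Nat.card G) : ((sylowOfOrder x hx h2 : Sylow p G) : Subgroup G) = zpowers x :=
  rfl

/-- `x` lies in the centralizer of `zpowers x` -/
theorem self_mem_centralizer_zpowers (x : G) : x ∈ centralizer ((zpowers x : Subgroup G) : Set G) := by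
  rw [mem_centralizer_iff]
  intro h hh
  obtain ⟨k, rfl⟩ := mem_zpowers_iff.1 hh
  exact (Commute.zpow_left (Commute.refl x) k).eq

theorem center_le_centralizer' (S : Set G) : center G ≤ centralizer S := by
  intro g hg
  rw [mem_centralizer_iff]
  intro h _
  exact (mem_center_iff.1 hg h)

/-- an element commuting with `x` centralizes `zpowers x` -/
theorem mem_centralizer_zpowers_of_commute {x g : G} (h : x * g = g * x) :
    g ∈ centralizer ((zpowers x : Subgroup G) : Set G) := by
  rw [mem_centralizer_iff]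
  intro y hy
  obtain ⟨k, rfl⟩ := mem_zpowers_iff.1 hy
  have hc : Commute x g := h
  exact (hc.zpow_left k).eq

/-- membership in a normal subgroup of index prime to the order of the element -/
theorem mem_of_normal_of_coprime_index {N : Subgroup G} [N.Normal] {g : G}
    (h : (orderOf g).Coprime N.index) : g ∈ N := by
  rw [← QuotientGroup.eq_one_iff]
  have h1 : orderOf (g : G ⧸ N) ∣ orderOf g :=
    orderOf_dvd_of_pow_eq_one (by rw [← QuotientGroup.mk_pow, pow_orderOf_eq_one]; rfl)
  have h2 : orderOf (g : G ⧸ N) ∣ N.index := by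
    rw [Subgroup.index_eq_card]; exact orderOf_dvd_natCard _
  have h3 : orderOf (g : G ⧸ N) = 1 := Nat.eq_one_of_dvd_coprimes h h1 h2
  exact orderOf_eq_one_iff.1 h3

end gen

/-- groups of order `24` -/
theorem small_24 {B : Type*} [Group B] [Finite B] (hcard : Nat.card B = 24) {z x : B}
    (hz : orderOf z = 2) (hzc : z ∈ center B) (hx : orderOf x = 3)
    (hxn : ¬ (zpowers x).Normal) :
    Nat.card (Sylow 3 B) = 4 ∧
    Nat.card (centralizer ((zpowers x : Subgroup B) : Set B)) = 6 ∧
    ∃ Q : Subgroup B, Q.Normal ∧ Q ∈ QSet x ∧ Q ⊔ zpowers x = ⊤ := by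
  haveI : Fact (Nat.Prime 3) := ⟨by norm_num⟩
  have h9 : ¬ 3 ^ 2 ∣ Nat.card B := by rw [hcard]; norm_num
  set P : Sylow 3 B := sylowOfOrder x hx h9 with hPdef
  have hP : (P : Subgroup B) = zpowers x := rfl
  set C := centralizer ((zpowers x : Subgroup B) : Set B) with hCdef
  set N := normalizer ((zpowers x : Subgroup B) : Set B) with hNdef
  have hCN : C ≤ N := centralizer_le_normalizer _
  have hxC : x ∈ C := self_mem_centralizer_zpowers x
  have hzC : z ∈ C := center_le_centralizer' _ hzc
  have h6C : 6 ∣ Nat.card C := by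
    have h2 : 2 ∣ Nat.card C := hz ▸ Subgroup.orderOf_dvd_natCard C hzC
    have h3 : 3 ∣ Nat.card C := hx ▸ Subgroup.orderOf_dvd_natCard C hxC
    exact Nat.Coprime.mul_dvd_of_dvd_of_dvd (by norm_num) h2 h3
  have hCdN : Nat.card C ∣ Nat.card N := Subgroup.card_dvd_of_le hCN
  have h6N : 6 ∣ Nat.card N := h6C.trans hCdN
  have hmul : Nat.card N * N.index = 24 := by rw [Subgroup.card_mul_index, hcard]
  have hidx : Nat.card (Sylow 3 B) = N.index := P.card_eq_index_normalizer
  have hmod : N.index % 3 = 1 := by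
    have := card_sylow_modEq_one 3 B
    rw [hidx] at this
    exact this
  have hne1 : N.index ≠ 1 := by
    intro h
    apply hxn
    have : N = ⊤ := Subgroup.index_eq_one.1 h
    exact normalizer_eq_top_iff.1 this
  obtain ⟨m, hm⟩ := h6N
  have hm4 : m * N.index = 4 := by
    rw [hm] at hmul
    have : 6 * (m * N.index) = 6 * 4 := by rw [← mul_assoc]; exact hmul
    exact Nat.eq_of_mul_eq_mul_left (by norm_num) this
  have hidx4 : N.index = 4 := by
    have hd : N.index ∣ 4 := ⟨m, by rw [← hm4, mul_comm]⟩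
    have hle : N.index ≤ 4 := Nat.le_of_dvd (by norm_num) hd
    have hpos : 0 < N.index := Nat.pos_of_ne_zero (by intro h; rw [h, mul_zero] at hm4; omega)
    interval_cases h : N.index <;> omega
  have hN6 : Nat.card N = 6 := by
    rw [hidx4] at hmul
    omega
  have hC6 : Nat.card C = 6 := by
    have h1 : Nat.card C ≤ 6 := hN6 ▸ Nat.le_of_dvd Nat.card_pos hCdN
    have h2 : 6 ≤ Nat.card C := Nat.le_of_dvd Nat.card_pos h6C
    omega
  have hNC : N ≤ C := by
    have : C = N := Subgroup.eq_of_le_of_card_ge hCN (by rw [hN6, hC6])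
    rw [this]
  have hNC' : normalizer ((P : Subgroup B) : Set B) ≤ centralizer ((P : Subgroup B) : Set B) := hNC
  have hK := MonoidHom.ker_transferSylow_isComplement' P hNC'
  set K := (MonoidHom.transferSylow P hNC').ker with hKdef
  have hK8 : Nat.card K = 8 := by
    have h1 := hK.card_mul_card
    have h2 : Nat.card (P : Subgroup B) = 3 := by rw [hP, Nat.card_zpowers, hx]
    rw [h2, hcard] at h1
    omega
  refine ⟨by rw [hidx, hidx4], hC6, K, MonoidHom.normal_ker _, ⟨hK8, ?_, ?_⟩, ?_⟩
  · intro q hq
    have hn : K.Normal := MonoidHom.normal_ker _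
    exact hn.conj_mem q hq x
  · by_contra hcon
    push Not at hcon
    have hle : K ≤ C := by
      intro q hq
      exact mem_centralizer_zpowers_of_commute (hcon q hq)
    have := Subgroup.card_dvd_of_le hle
    rw [hK8, hC6] at this
    omega
  · exact hK.sup_eq_top
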