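import Mathlib
import Cfsg.Agent.Lib.Zass.SmallA

/-!
# Zassenhaus cluster, slice ZD (part B): groups of order 48
-/

set_option autoImplicit false
set_option linter.unusedSectionVars false
set_option linter.style.haveILetI false

namespace Cfsg.Agent.ZassL

open Subgroup

section gen
variable {G : Type*} [Group G] [Finite G]

/-- a normal Sylow subgroup of a normal subgroup is normal in the whole group -/
theorem map_normal_of_sylow {p : ℕ} [Fact p.Prime] (K : Subgroup G) [K.Normal] (Q : Subgroup K)
    (hQ : Q.Normal) (hc : Nat.card Q = p ^ (Nat.card K).factorization p) :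
    (Q.map K.subtype).Normal := by
  let S : Sylow p K := Sylow.ofCard Q hc
  have hS : (S : Subgroup K).Normal := hQ
  have hchar : (S : Subgroup K).Characteristic := S.characteristic_of_normal hS
  have hchar' : Q.Characteristic := hchar
  exact ConjAct.normal_of_characteristic_of_normal

/-- if `⟨x⟩` (of prime order `p`, `p ^ 2 ∤ |K|`) is normal in the normal subgroup `K`,
it is normal in the whole group -/
theorem zpowers_normal_of_normal_sub {p : ℕ} [Fact p.Prime] (K : Subgroup G) [K.Normal] {x : G}
    (hxK : x ∈ K) (hx : orderOf x = p) (h2 : ¬ p ^ 2 ∣ Nat.card K)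
    (hn : (zpowers (⟨x, hxK⟩ : K)).Normal) : (zpowers x).Normal := by
  have hx' : orderOf (⟨x, hxK⟩ : K) = p := by rw [Subgroup.orderOf_mk]; exact hx
  have h1 : p ^ 1 ∣ Nat.card K := by rw [pow_one, ← hx']; exact orderOf_dvd_natCard _
  have hc : Nat.card (zpowers (⟨x, hxK⟩ : K)) = p ^ (Nat.card K).factorization p := by
    rw [Nat.card_zpowers, hx', factorization_eq_of Fact.out Nat.card_pos.ne' h1 h2, pow_one]
  have := map_normal_of_sylow K (zpowers (⟨x, hxK⟩ : K)) hn hc
  rw [MonoidHom.map_zpowers] at this
  exact this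

/-- a central involution: the unique involution is central -/
theorem unique_involution_mem_center {z : G} (hz : orderOf z = 2)
    (huniq : ∀ t : G, orderOf t = 2 → t = z) : z ∈ center G := by
  rw [mem_center_iff]
  intro g
  have h1 : orderOf (g * z * g⁻¹) = 2 := by
    have := (MulAut.conj g).orderOf_eq z
    rw [MulAut.conj_apply] at this
    rw [this, hz]
  have h2 := huniq _ h1
  calc g * z = g * z * g⁻¹ * g := by group
    _ = z * g := by rw [h2]

end gen

/-- groups of order `48` -/
theorem small_48 {B : Type*} [Group B] [Finite B] (hcard : Nat.card B = 48) {z x : B}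
    (hz : orderOf z = 2) (huniq : ∀ t : B, orderOf t = 2 → t = z)
    (hcen : Nat.card (center B) = 2) (hx : orderOf x = 3) (hxn : ¬ (zpowers x).Normal) :
    ∃ Q : Subgroup B, Q.Normal ∧ Q ∈ QSet x ∧ (Q ⊔ zpowers x).index = 2 ∧
      ∀ y : B, orderOf y = 3 → y ∈ Q ⊔ zpowers x := by
  classical
  haveI : Fact (Nat.Prime 3) := ⟨by norm_num⟩
  haveI : Fact (Nat.Prime 2) := ⟨by norm_num⟩
  have hzc : z ∈ center B := unique_involution_mem_center hz huniq
  have h9 : ¬ 3 ^ 2 ∣ Nat.card B := by rw [hcard]; norm_num
  set P : Sylow 3 B := sylowOfOrder x hx h9 with hPdef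
  have hP : (P : Subgroup B) = zpowers x := rfl
  set C := centralizer ((zpowers x : Subgroup B) : Set B) with hCdef
  set N := normalizer ((zpowers x : Subgroup B) : Set B) with hNdef
  have hCN : C ≤ N := centralizer_le_normalizer _
  have hxC : x ∈ C := self_mem_centralizer_zpowers x
  have hzC : z ∈ C := center_le_centralizer' _ hzc
  have h6C : 6 ∣ Nat.card C := by
    have h2 : 2 ∣ Nat.card C := hz ▸ Subgroup.orderOf_dvd_natCard C hzC
    have h3 : 3 ∣ Nat.card C := hx ▸ Subgroup.orderOf_dvd_natCard C hxC
    exact Nat.Coprime.mul_dvd_of_dvd_of_dvd (by norm_num) h2 h3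
  have hCdN : Nat.card C ∣ Nat.card N := Subgroup.card_dvd_of_le hCN
  have h6N : 6 ∣ Nat.card N := h6C.trans hCdN
  have hmul : Nat.card N * N.index = 48 := by rw [Subgroup.card_mul_index, hcard]
  have hidx : Nat.card (Sylow 3 B) = N.index := P.card_eq_index_normalizer
  have hmod : N.index % 3 = 1 := by
    have := card_sylow_modEq_one 3 B
    rw [hidx] at this
    exact this
  have hne1 : N.index ≠ 1 := by
    intro h
    apply hxn
    have : N = ⊤ := Subgroup.index_eq_one.1 h
    exact normalizer_eq_top_iff.1 this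
  obtain ⟨m, hm⟩ := h6N
  have hm8 : m * N.index = 8 := by
    rw [hm] at hmul
    have : 6 * (m * N.index) = 6 * 8 := by rw [← mul_assoc]; exact hmul
    exact Nat.eq_of_mul_eq_mul_left (by norm_num) this
  have hidx4 : N.index = 4 := by
    have hd : N.index ∣ 8 := ⟨m, by rw [← hm8, mul_comm]⟩
    have hle : N.index ≤ 8 := Nat.le_of_dvd (by norm_num) hd
    have hpos : 0 < N.index := Nat.pos_of_ne_zero (by intro h; rw [h, mul_zero] at hm8; omega)
    interval_cases h : N.index <;> omega
  have hN12 : Nat.card N = 12 := by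
    rw [hidx4] at hmul
    omega
  have hn3 : Nat.card (Sylow 3 B) = 4 := by rw [hidx, hidx4]
  -- the action on the four Sylow 3-subgroups
  haveI : Fintype (Sylow 3 B) := Fintype.ofFinite _
  set φ : B →* Equiv.Perm (Sylow 3 B) := MulAction.toPermHom B (Sylow 3 B) with hφ
  have hkerN : φ.ker ≤ N := by
    intro g hg
    have h1 : φ g = 1 := hg
    have h2 : g • P = P := by
      have := congrArg (fun σ : Equiv.Perm (Sylow 3 B) => σ P) h1
      simpa [hφ] using this
    exact Sylow.smul_eq_iff_mem_normalizer.1 h2
  have hzker : z ∈ φ.ker := by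
    rw [MonoidHom.mem_ker]
    ext P'
    have h1 : z ∈ normalizer ((P' : Subgroup B) : Set B) :=
      (center_le_centralizer' _ hzc |> fun h => (centralizer_le_normalizer _) h)
    have h2 : z • P' = P' := Sylow.smul_eq_iff_mem_normalizer.2 h1
    simp [hφ, h2]
  have h3ker : ¬ 3 ∣ Nat.card φ.ker := by
    intro h3
    obtain ⟨y, hy⟩ := exists_prime_orderOf_dvd_card' 3 h3
    have hy' : orderOf (y : B) = 3 := by rw [Subgroup.orderOf_coe]; exact hy
    have hall : ∀ P' : Sylow 3 B, (P' : Subgroup B) = zpowers (y : B) := by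
      intro P'
      have h1 : φ (y : B) = 1 := y.2
      have h2 : (y : B) • P' = P' := by
        have := congrArg (fun σ : Equiv.Perm (Sylow 3 B) => σ P') h1
        simpa [hφ] using this
      have hyn := Sylow.smul_eq_iff_mem_normalizer.1 h2
      have hpg : IsPGroup 3 (zpowers (y : B)) :=
        IsPGroup.of_card (n := 1) (by rw [Nat.card_zpowers, hy', pow_one])
      have h4 := hpg.inf_normalizer_sylow P'
      have h5 : (y : B) ∈ zpowers (y : B) ⊓ (P' : Subgroup B) := by
        rw [← h4]; exact ⟨mem_zpowers _, hyn⟩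
      have h6 : zpowers (y : B) ≤ (P' : Subgroup B) := zpowers_le.2 h5.2
      have h7 : Nat.card (P' : Subgroup B) = 3 := by
        have := P'.card_eq_multiplicity
        rw [this, hcard]
        have : (48 : ℕ).factorization 3 = 1 :=
          factorization_eq_of (by norm_num) (by norm_num) (by norm_num) (by norm_num)
        rw [this, pow_one]
      exact (Subgroup.eq_of_le_of_card_ge h6 (by rw [h7, Nat.card_zpowers, hy'])).symm
    have hsub : Subsingleton (Sylow 3 B) :=
      ⟨fun P₁ P₂ => Sylow.ext (by rw [hall P₁, hall P₂])⟩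
    have : Nat.card (Sylow 3 B) = 1 := Nat.card_unique
    omega
  have hker4 : Nat.card φ.ker ∣ 4 := by
    have h1 : Nat.card φ.ker ∣ 3 * 4 := by
      have := Subgroup.card_dvd_of_le hkerN
      rwa [hN12] at this
    have h2 : (Nat.card φ.ker).Coprime 3 := by
      rw [Nat.coprime_comm]
      exact (Nat.Prime.coprime_iff_not_dvd (by norm_num)).2 h3ker
    exact h2.dvd_of_dvd_mul_left h1
  have hker2 : 2 ∣ Nat.card φ.ker := hz ▸ Subgroup.orderOf_dvd_natCard _ hzker
  have hkerne4 : Nat.card φ.ker ≠ 4 := by
    intro hk4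
    -- an element `t` of order 4 in the kernel
    have hex : ∃ t ∈ φ.ker, t ≠ 1 ∧ t ≠ z := by
      by_contra hcon
      push Not at hcon
      have hsub : (φ.ker : Set B) ⊆ {1, z} := by
        intro t ht
        by_cases h1 : t = 1
        · left; exact h1
        · right; exact hcon t ht h1
      have hle : Nat.card φ.ker ≤ 2 := by
        have h1 : Set.ncard (φ.ker : Set B) ≤ Set.ncard ({1, z} : Set B) :=
          Set.ncard_le_ncard hsub (Set.toFinite _)
        have h2 : Set.ncard ({1, z} : Set B) ≤ 2 := by
          have := Set.ncard_insert_le (1 : B) ({z} : Set B)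
          rw [Set.ncard_singleton] at this
          exact this
        have h3 : Set.ncard (φ.ker : Set B) = Nat.card φ.ker := by
          rw [← Nat.card_coe_set_eq]; rfl
        omega
      omega
    obtain ⟨t, htk, ht1, htz⟩ := hex
    have hot : orderOf t = 4 := by
      have h1 : orderOf t ∣ 4 := hk4 ▸ Subgroup.orderOf_dvd_natCard _ htk
      have h2 : orderOf t ≠ 1 := fun h => ht1 (orderOf_eq_one_iff.1 h)
      have h3 : orderOf t ≠ 2 := fun h => htz (huniq t h)
      have h4 : orderOf t ≤ 4 := Nat.le_of_dvd (by norm_num) h1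
      have h5 : 0 < orderOf t := orderOf_pos t
      interval_cases h : orderOf t <;> omega
    have hT : zpowers t = φ.ker :=
      Subgroup.eq_of_le_of_card_ge (zpowers_le.2 htk) (by rw [Nat.card_zpowers, hot, hk4])
    haveI hTn : (zpowers t).Normal := hT ▸ MonoidHom.normal_ker φ
    -- the conjugation action on `zpowers t`
    set f : B →* MulAut (zpowers t) := MulAut.conjNormal with hf
    have hfk : f.ker = centralizer ((zpowers t : Subgroup B) : Set B) := by
      ext g
      rw [MonoidHom.mem_ker, mem_centralizer_iff]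
      constructor
      · intro hg h hh
        have := congrArg (fun σ : MulAut (zpowers t) => ((σ ⟨h, hh⟩ : zpowers t) : B)) hg
        simp only [hf, MulAut.conjNormal_apply, MulAut.one_apply] at this
        calc h * g = g * h * g⁻¹ * g := by rw [this]
          _ = g * h := by group
      · intro hg
        ext ⟨h, hh⟩
        simp only [hf, MulAut.conjNormal_apply, MulAut.one_apply]
        rw [← hg h hh]; group
    have hcardAut : Nat.card (MulAut (zpowers t)) = 2 := by
      rw [IsCyclic.card_mulAut, Nat.card_zpowers, hot]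
      decide
    have hidx2 : f.ker.index ∣ 2 := by
      rw [Subgroup.index_ker, ← hcardAut]
      exact Subgroup.card_subgroup_dvd_card _
    set C₁ := centralizer ((zpowers t : Subgroup B) : Set B) with hC₁
    rw [hfk] at hidx2
    have htC₁ : t ∈ C₁ := self_mem_centralizer_zpowers t
    rcases (Nat.dvd_prime Nat.prime_two).1 hidx2 with h1 | h2
    · -- `t` is central
      have htop : C₁ = ⊤ := Subgroup.index_eq_one.1 h1
      have htc : t ∈ center B := by
        rw [mem_center_iff]
        intro g
        have hg : g ∈ C₁ := htop ▸ mem_top g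
        rw [mem_centralizer_iff] at hg
        exact (hg t (mem_zpowers t)).symm
      have := Subgroup.orderOf_dvd_natCard _ htc
      rw [hot, hcen] at this
      omega
    · -- `C₁` has index 2
      haveI hC₁n : C₁.Normal := Subgroup.normal_of_index_eq_two h2
      have hC₁24 : Nat.card C₁ = 24 := by
        have := Subgroup.card_mul_index C₁
        rw [h2, hcard] at this
        omega
      have hxC₁ : x ∈ C₁ :=
        mem_of_normal_of_coprime_index (by rw [hx, h2]; decide)
      have hzC₁ : z ∈ C₁ := center_le_centralizer' _ hzc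
      have hnn : ¬ (zpowers (⟨x, hxC₁⟩ : C₁)).Normal := by
        intro hn
        exact hxn (zpowers_normal_of_normal_sub C₁ hxC₁ hx (by rw [hC₁24]; norm_num) hn)
      have hzc₁ : (⟨z, hzC₁⟩ : C₁) ∈ center C₁ := by
        rw [mem_center_iff]
        intro g
        exact Subtype.ext (mem_center_iff.1 hzc g)
      obtain ⟨-, hc6, -⟩ := small_24 hC₁24 (z := ⟨z, hzC₁⟩) (x := ⟨x, hxC₁⟩)
        (by rw [Subgroup.orderOf_mk]; exact hz) hzc₁
        (by rw [Subgroup.orderOf_mk]; exact hx) hnn
      have htc₁ : (⟨t, htC₁⟩ : C₁) ∈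
          centralizer ((zpowers (⟨x, hxC₁⟩ : C₁) : Subgroup C₁) : Set C₁) := by
        apply mem_centralizer_zpowers_of_commute
        apply Subtype.ext
        have hx' := hxC₁
        rw [mem_centralizer_iff] at hx'
        exact (hx' t (mem_zpowers t)).symm
      have := Subgroup.orderOf_dvd_natCard _ htc₁
      rw [Subgroup.orderOf_mk, hot, hc6] at this
      omega
  have hker : Nat.card φ.ker = 2 := by
    have h1 : Nat.card φ.ker ≤ 4 := Nat.le_of_dvd (by norm_num) hker4
    have h2 : 0 < Nat.card φ.ker := Nat.card_pos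
    interval_cases h : Nat.card φ.ker <;> omega
  -- `φ` is surjective
  have hrange : Nat.card φ.range = 24 := by
    have h1 := Subgroup.card_mul_index φ.ker
    rw [Subgroup.index_ker, hker, hcard] at h1
    omega
  have hperm : Nat.card (Equiv.Perm (Sylow 3 B)) = 24 := by
    rw [Nat.card_perm, hn3]; rfl
  have hsurj : Function.Surjective φ := by
    rw [← MonoidHom.range_eq_top]
    exact Subgroup.eq_top_of_card_eq _ (by rw [hrange, hperm])
  haveI : Nontrivial (Sylow 3 B) := by
    rw [← Finite.one_lt_card_iff_nontrivial, hn3]; norm_num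
  set ψ : B →* ℤˣ := (Equiv.Perm.sign).comp φ with hψ
  have hψs : Function.Surjective ψ := (Equiv.Perm.sign_surjective _).comp hsurj
  set H := ψ.ker with hH
  haveI hHn : H.Normal := MonoidHom.normal_ker ψ
  have hHidx : H.index = 2 := by
    rw [Subgroup.index_ker, MonoidHom.range_eq_top.2 hψs, Subgroup.card_top,
      Nat.card_eq_fintype_card, Fintype.card_units_int]
  have hH24 : Nat.card H = 24 := by
    have := Subgroup.card_mul_index H
    rw [hHidx, hcard] at this
    omega
  have h3H : ∀ y : B, orderOf y = 3 → y ∈ H := by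
    intro y hy
    exact mem_of_normal_of_coprime_index (by rw [hy, hHidx]; decide)
  have hxH : x ∈ H := h3H x hx
  have hzH : z ∈ H := by
    rw [hH, MonoidHom.mem_ker, hψ, MonoidHom.comp_apply, MonoidHom.mem_ker.1 hzker, map_one]
  have hnn : ¬ (zpowers (⟨x, hxH⟩ : H)).Normal := by
    intro hn
    exact hxn (zpowers_normal_of_normal_sub H hxH hx (by rw [hH24]; norm_num) hn)
  have hzcH : (⟨z, hzH⟩ : H) ∈ center H := by
    rw [mem_center_iff]
    intro g
    exact Subtype.ext (mem_center_iff.1 hzc g)
  obtain ⟨-, -, Q', hQ'n, ⟨hQ'8, hQ'norm, q', hq'Q, hq'⟩, hQ'sup⟩ :=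
    small_24 hH24 (z := ⟨z, hzH⟩) (x := ⟨x, hxH⟩)
      (by rw [Subgroup.orderOf_mk]; exact hz) hzcH
      (by rw [Subgroup.orderOf_mk]; exact hx) hnn
  have hfac : (Nat.card H).factorization 2 = 3 := by
    rw [hH24]
    exact factorization_eq_of (by norm_num) (by norm_num) (by norm_num) (by norm_num)
  have hQn : (Q'.map H.subtype).Normal :=
    map_normal_of_sylow (p := 2) H Q' hQ'n (by rw [hQ'8, hfac]; norm_num)
  have hQ8 : Nat.card (Q'.map H.subtype) = 8 := by
    rw [Subgroup.card_map_of_injective H.subtype_injective, hQ'8]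
  have hsup : Q'.map H.subtype ⊔ zpowers x = H := by
    have h1 : (Q' ⊔ zpowers (⟨x, hxH⟩ : H)).map H.subtype = (⊤ : Subgroup H).map H.subtype := by
      rw [hQ'sup]
    rw [Subgroup.map_sup, MonoidHom.map_zpowers, ← MonoidHom.range_eq_map, H.range_subtype] at h1
    exact h1
  refine ⟨Q'.map H.subtype, hQn, ⟨hQ8, ?_, ?_⟩, ?_, ?_⟩
  · intro q hq
    exact hQn.conj_mem q hq x
  · refine ⟨(q' : B), Subgroup.mem_map.2 ⟨q', hq'Q, rfl⟩, ?_⟩
    intro h
    apply hq'
    exact Subtype.ext h
  · rw [hsup, hHidx]
  · intro y hy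
    rw [hsup]
    exact h3H y hy
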