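import Mathlib
import Cfsg.Agent.Lib.Zass.Defs
import Cfsg.Agent.H2.FStarQuotient

set_option autoImplicit false
set_option linter.style.haveILetI false

/-! # Zassenhaus cluster, slice ZS (part A): the perfect core and free representations of
subgroups -/

namespace Cfsg.Agent.ZassL

universe u

section PCore

variable {G : Type u} [Group G]

/-- the perfect core: the join of all perfect subgroups -/
def pcore (G : Type u) [Group G] : Subgroup G := sSup {L : Subgroup G | ⁅L, L⁆ = L}

theorem ZS_comm_le_self (K : Subgroup G) : ⁅K, K⁆ ≤ K := by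
  rw [Subgroup.commutator_le]
  intro a ha b hb
  exact K.mul_mem (K.mul_mem (K.mul_mem ha hb) (K.inv_mem ha)) (K.inv_mem hb)

theorem le_pcore {L : Subgroup G} (hL : ⁅L, L⁆ = L) : L ≤ pcore G := le_sSup hL

theorem pcore_perfect : ⁅pcore G, pcore G⁆ = pcore G := by
  apply le_antisymm (ZS_comm_le_self _)
  apply sSup_le
  intro L hL
  have hL' : ⁅L, L⁆ = L := hL
  rw [← hL']
  exact Subgroup.commutator_mono (le_pcore hL') (le_pcore hL')

instance pcore_normal : (pcore G).Normal := by
  constructor
  intro x hx g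
  have h1 : ⁅(pcore G).map (MulAut.conj g).toMonoidHom, (pcore G).map (MulAut.conj g).toMonoidHom⁆ =
      (pcore G).map (MulAut.conj g).toMonoidHom := by
    rw [← Subgroup.map_commutator, pcore_perfect]
  have h2 := le_pcore h1
  apply h2
  exact ⟨x, hx, by simp [MulAut.conj_apply]⟩

theorem pcore_ne_bot [Finite G] (hns : ¬ Group.IsSolvable G) : pcore G ≠ ⊥ := by
  have h1 : ¬ Group.IsSolvable (⊤ : Subgroup G) := by
    intro h
    apply hns
    haveI := h
    exact Group.isSolvable_of_surjective (f := (⊤ : Subgroup G).subtype) (by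
      intro g
      exact ⟨⟨g, Subgroup.mem_top g⟩, rfl⟩)
  obtain ⟨D, -, hD, hne⟩ := Cfsg.Agent.H2.FStarQuot.exists_perfect_of_not_isSolvable (⊤ : Subgroup G) h1
  intro h
  apply hne
  rw [eq_bot_iff, ← h]
  exact le_pcore hD

/-- a subgroup with `⁅K, K⁆ = K` is perfect as a group -/
theorem commutator_eq_top_of_perfect {K : Subgroup G} (h : ⁅K, K⁆ = K) : commutator ↥K = ⊤ := by
  have h1 : (commutator ↥K).map K.subtype = ⁅K, K⁆ := by
    rw [commutator_def, Subgroup.map_commutator, ← MonoidHom.range_eq_map, Subgroup.range_subtype]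
  apply Subgroup.map_injective K.subtype_injective
  rw [h1, h, ← MonoidHom.range_eq_map, Subgroup.range_subtype]

end PCore

section Free

variable {G : Type u} [Group G]

theorem ZS_isFree_comp {H : Type u} [Group H] {n : ℕ}
    {ρ : G →* Matrix.GeneralLinearGroup (Fin n) ℂ} (hρ : IsFree ρ) (f : H →* G)
    (hf : Function.Injective f) : IsFree (ρ.comp f) := by
  intro h hh v hv
  apply hρ (f h) _ v hv
  intro h1
  apply hh
  apply hf
  rw [h1, map_one]

theorem ZS_hasFreeRep_subgroup (B : Subgroup G) (h : HasFreeRep G) : HasFreeRep B := by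
  obtain ⟨n, ρ, hn, hρ⟩ := h
  exact ⟨n, ρ.comp B.subtype, hn, ZS_isFree_comp hρ B.subtype B.subtype_injective⟩

theorem ZS_hasFreeRep_of_equiv {H : Type u} [Group H] (e : H ≃* G) (h : HasFreeRep G) :
    HasFreeRep H := by
  obtain ⟨n, ρ, hn, hρ⟩ := h
  exact ⟨n, ρ.comp e.toMonoidHom, hn, ZS_isFree_comp hρ e.toMonoidHom e.injective⟩

end Free

end Cfsg.Agent.ZassL
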