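import Mathlib
import Cfsg.Agent.Lib.Zass.StructA
import Cfsg.Agent.S3378
import Cfsg.Agent.S3669
import Cfsg.Agent.S0494
import Cfsg.Agent.S2119

set_option autoImplicit false
set_option linter.style.haveILetI false
set_option linter.unusedSimpArgs false

/-! # Zassenhaus cluster, slice ZS (part B): abstract facts about a group isomorphic to
`SL(2,5)`: order, centre, an element of order `4`, and `|Aut (S / Z(S))| = 120`. -/

namespace Cfsg.Agent.ZassL

open Matrix

universe u

local notation "SL25" => Matrix.SpecialLinearGroup (Fin 2) (ZMod 5)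

theorem ZS_center_sl25 (A : SL25) (hA : A ∈ Subgroup.center SL25) : A = 1 ∨ A = -1 := by
  obtain ⟨r, hr, hrA⟩ := Matrix.SpecialLinearGroup.mem_center_iff.mp hA
  have h2 : r = 1 ∨ r = -1 := by
    have : ∀ r : ZMod 5, r ^ 2 = 1 → r = 1 ∨ r = -1 := by decide
    apply this
    simpa using hr
  rcases h2 with h | h
  · left
    apply Subtype.ext
    rw [← hrA, h]
    simp
  · right
    apply Subtype.ext
    rw [← hrA, h]
    ext i j
    by_cases hij : i = j <;> simp [hij]

theorem ZS_neg_one_mem_center : (-1 : SL25) ∈ Subgroup.center SL25 := by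
  rw [Subgroup.mem_center_iff]
  intro g
  exact (Commute.neg_one_right g).eq

theorem ZS_card_center_sl25 : Nat.card (Subgroup.center SL25) = 2 := by
  rw [Nat.card_eq_two_iff]
  refine ⟨⟨1, Subgroup.one_mem _⟩, ⟨-1, ZS_neg_one_mem_center⟩, ?_, ?_⟩
  · intro h
    have h1 : (1 : SL25) = -1 := congrArg Subtype.val h
    have h2 := congrArg (fun A : SL25 => (A : Matrix (Fin 2) (Fin 2) (ZMod 5)) 0 0) h1
    simp at h2
    revert h2
    decide
  · ext x
    simp only [Set.mem_insert_iff, Set.mem_singleton_iff, Set.mem_univ, iff_true]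
    rcases ZS_center_sl25 x.1 x.2 with h | h
    · left
      exact Subtype.ext h
    · right
      exact Subtype.ext h

theorem ZS_orderOf_four_sl25 : orderOf (Cfsg.Agent.S3378.mX * Cfsg.Agent.S3378.mY) = 4 := by
  have h : orderOf (Cfsg.Agent.S3378.mX * Cfsg.Agent.S3378.mY) = 2 ^ (1 + 1) := by
    apply orderOf_eq_prime_pow
    · rw [pow_one, Cfsg.Agent.S3378.mXY_pow]
      exact Cfsg.Agent.S3378.mZ_ne
    · rw [pow_succ, pow_one, pow_mul, Cfsg.Agent.S3378.mXY_pow, Cfsg.Agent.S3378.mZ_pow]
  simpa using h

section Abstract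

variable {S : Type u} [Group S] (e : S ≃* SL25)

include e

theorem ZS_card_S : Nat.card S = 120 := by
  rw [Nat.card_congr e.toEquiv, Cfsg.Agent.S3378.card_sl]

theorem ZS_card_center_S : Nat.card (Subgroup.center S) = 2 := by
  rw [Nat.card_congr (Subgroup.centerCongr e).toEquiv, ZS_card_center_sl25]

theorem ZS_exists_orderOf_four : ∃ l : S, orderOf l = 4 := by
  refine ⟨e.symm (Cfsg.Agent.S3378.mX * Cfsg.Agent.S3378.mY), ?_⟩
  rw [MulEquiv.orderOf_eq, ZS_orderOf_four_sl25]

end Abstract

section Aut

variable {S : Type u} [Group S]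

/-- automorphisms act on the central quotient -/
noncomputable def autQuotCenter : MulAut S →* MulAut (S ⧸ Subgroup.center S) where
  toFun α := QuotientGroup.congr (Subgroup.center S) (Subgroup.center S) α
    (Subgroup.characteristic_iff_map_eq.mp inferInstance α)
  map_one' := by
    ext x
    induction x using QuotientGroup.induction_on with
    | H x => rfl
  map_mul' := by
    intro α β
    ext x
    induction x using QuotientGroup.induction_on with
    | H x => rfl

theorem autQuotCenter_mk (α : MulAut S) (x : S) :
    autQuotCenter α (QuotientGroup.mk x) = QuotientGroup.mk (α x) := rfl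

/-- For `S ≅ SL(2,5)` the automorphism group of `S / Z(S)` has order `120`. -/
theorem ZS_card_aut_quot (e : S ≃* SL25) (hS : commutator S = ⊤) :
    Nat.card (MulAut (S ⧸ Subgroup.center S)) = 120 := by
  haveI : Finite S := Finite.of_equiv _ e.symm.toEquiv
  have hcard : Nat.card (S ⧸ Subgroup.center S) = 60 := by
    have h1 := Subgroup.card_mul_index (Subgroup.center S)
    rw [ZS_card_S e, ZS_card_center_S e] at h1
    rw [← Subgroup.index_eq_card]
    omega
  have hperf : commutator (S ⧸ Subgroup.center S) = ⊤ := by
    have h1 : (commutator S).map (QuotientGroup.mk' (Subgroup.center S)) =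
        commutator (S ⧸ Subgroup.center S) := by
      rw [commutator_def, Subgroup.map_commutator, commutator_def]
      have : (⊤ : Subgroup S).map (QuotientGroup.mk' (Subgroup.center S)) = ⊤ := by
        rw [← MonoidHom.range_eq_map, MonoidHom.range_eq_top]
        exact QuotientGroup.mk'_surjective _
      rw [this]
    rw [← h1, hS, ← MonoidHom.range_eq_map, MonoidHom.range_eq_top]
    exact QuotientGroup.mk'_surjective _
  have hns : ¬ Group.IsSolvable (S ⧸ Subgroup.center S) := by
    intro hsol
    haveI := hsol
    haveI : Nontrivial (S ⧸ Subgroup.center S) := by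
      rw [← Finite.one_lt_card_iff_nontrivial, hcard]
      norm_num
    have := Group.IsSolvable.commutator_lt_top_of_nontrivial (S ⧸ Subgroup.center S)
    rw [hperf] at this
    exact lt_irrefl _ this
  haveI := Cfsg.Agent.S3669.simple_of_not_solvable hcard hns
  obtain ⟨f⟩ := Cfsg.Agent.S0494.result (G := S ⧸ Subgroup.center S) hcard
  have h5 := Cfsg.Agent.S2119.result 5 (by norm_num) (by norm_num)
  rw [Nat.card_congr (MulAut.congr f).toEquiv,
    ← Nat.card_congr (Equiv.ofBijective _ h5), Nat.card_eq_fintype_card, Fintype.card_perm,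
    Fintype.card_fin]
  rfl

end Aut

end Cfsg.Agent.ZassL
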