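import Mathlib
import Cfsg.Agent.Lib.Zass.StructB
import Cfsg.Agent.Lib.S3358.U1
import Cfsg.Agent.Lib.S3358.U3

set_option autoImplicit false
set_option linter.style.haveILetI false
set_option linter.unusedSimpArgs false
set_option linter.unusedVariables false

/-! # Zassenhaus cluster, slice ZS (part C): the centralizer of a normal `SL(2,5)` -/

namespace Cfsg.Agent.ZassL

open Matrix Cfsg.Agent.S3358L

universe u

local notation "SL25" => Matrix.SpecialLinearGroup (Fin 2) (ZMod 5)

section Cent

variable {G : Type u} [Group G]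

theorem ZS_mem_center_iff (S : Subgroup G) (g : S) :
    g ∈ Subgroup.center S ↔ (g : G) ∈ Subgroup.centralizer (S : Set G) := by
  rw [Subgroup.mem_center_iff, Subgroup.mem_centralizer_iff]
  constructor
  · intro h s hs
    have := congrArg Subtype.val (h ⟨s, hs⟩)
    simpa using this
  · intro h s
    exact Subtype.ext (h s s.2)

variable (hU : PU G) (S : Subgroup G) (e : S ≃* SL25)

include e in
/-- the central involution `z` of `S`, and `S ∩ C_G(S) = {1, z}` -/
theorem ZS_exists_z : ∃ z : G, z ∈ S ∧ orderOf z = 2 ∧ z ∈ Subgroup.centralizer (S : Set G) ∧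
    ∀ g : G, g ∈ S → g ∈ Subgroup.centralizer (S : Set G) → g = 1 ∨ g = z := by
  have h2 := ZS_card_center_S e
  obtain ⟨x, y, hxy, huniv⟩ := Nat.card_eq_two_iff.mp h2
  have hall : ∀ c : Subgroup.center S, c = x ∨ c = y := by
    intro c
    have : c ∈ ({x, y} : Set (Subgroup.center S)) := huniv ▸ Set.mem_univ c
    simpa using this
  -- the non-identity element
  obtain ⟨w, hw1, hwall⟩ : ∃ w : Subgroup.center S, w ≠ 1 ∧ ∀ c : Subgroup.center S, c = 1 ∨ c = w := by
    rcases hall 1 with h | h
    · refine ⟨y, fun hy => hxy (by rw [← h, hy]), fun c => ?_⟩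
      rcases hall c with hc | hc
      · left; rw [hc, h]
      · right; exact hc
    · refine ⟨x, fun hx => hxy (by rw [hx, h]), fun c => ?_⟩
      rcases hall c with hc | hc
      · right; exact hc
      · left; rw [hc, h]
  have hw2 : w ^ 2 = 1 := by
    rcases hwall (w ^ 2) with h | h
    · exact h
    · exfalso
      apply hw1
      have : w * w = w := by rw [← pow_two]; exact h
      simpa using this
  have hord : orderOf w = 2 := orderOf_eq_prime hw2 hw1
  refine ⟨((w : S) : G), (w : S).2, ?_, ?_, ?_⟩
  · rw [Subgroup.orderOf_coe, Subgroup.orderOf_coe]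
    exact hord
  · exact (ZS_mem_center_iff S (w : S)).mp w.2
  · intro g hgS hgC
    have hmem : (⟨g, hgS⟩ : S) ∈ Subgroup.center S := (ZS_mem_center_iff S ⟨g, hgS⟩).mpr hgC
    rcases hwall ⟨⟨g, hgS⟩, hmem⟩ with h | h
    · left
      have := congrArg (fun c : Subgroup.center S => ((c : S) : G)) h
      simpa using this
    · right
      have := congrArg (fun c : Subgroup.center S => ((c : S) : G)) h
      simpa using this

end Cent

section Cent2

variable {G : Type u} [Group G]

theorem ZS_mem_zpowers_two {z x : G} (hz : orderOf z = 2) (hx : x ∈ Subgroup.zpowers z) :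
    x = 1 ∨ x = z := by
  obtain ⟨k, rfl⟩ := Subgroup.mem_zpowers_iff.mp hx
  rw [← zpow_mod_orderOf, hz]
  have h1 : (k % (2 : ℕ) : ℤ) = 0 ∨ (k % (2 : ℕ) : ℤ) = 1 := by
    have := Int.emod_two_eq_zero_or_one k
    simpa using this
  rcases h1 with h | h
  · left; rw [h, zpow_zero]
  · right; rw [h, zpow_one]

variable (hU : PU G) (S : Subgroup G) (z : G) (hzS : z ∈ S) (hz : orderOf z = 2)
  (hzC : z ∈ Subgroup.centralizer (S : Set G))
  (hall : ∀ g : G, g ∈ S → g ∈ Subgroup.centralizer (S : Set G) → g = 1 ∨ g = z)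

include hU hzS hz in
/-- `z` is the only involution of `C_G(S)`. -/
theorem ZS_invol_cent {t : G} (ht : t ∈ Subgroup.centralizer (S : Set G)) (ht2 : orderOf t = 2) :
    t = z := by
  have hcomm : z * t = t * z := (Subgroup.mem_centralizer_iff.mp ht) z hzS
  have hmem := hU 2 z t Nat.prime_two hz ht2 hcomm
  rcases ZS_mem_zpowers_two hz hmem with h | h
  · exfalso
    rw [h, orderOf_one] at ht2
    norm_num at ht2
  · exact h

include hU hz hzC in
/-- the square of an element of order `4` of `S` is `z`. -/
theorem ZS_sq_of_four {l : G} (hl : l ∈ S) (hl4 : orderOf l = 4) : l ^ 2 = z := by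
  have h2 : orderOf (l ^ 2) = 2 := by
    rw [orderOf_pow' l (by norm_num : (2 : ℕ) ≠ 0), hl4]
    norm_num
  have hcomm : z * l ^ 2 = l ^ 2 * z :=
    ((Subgroup.mem_centralizer_iff.mp hzC) (l ^ 2) (S.pow_mem hl 2)).symm
  have hmem := hU 2 z (l ^ 2) Nat.prime_two hz h2 hcomm
  rcases ZS_mem_zpowers_two hz hmem with h | h
  · exfalso
    rw [h, orderOf_one] at h2
    norm_num at h2
  · exact h

include hU hzS hz hzC hall in
/-- `C_G(S)` has no element of order `4`. -/
theorem ZS_no_four (hl : ∃ l : G, l ∈ S ∧ orderOf l = 4) {c : G}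
    (hc : c ∈ Subgroup.centralizer (S : Set G)) : orderOf c ≠ 4 := by
  intro hc4
  obtain ⟨l, hlS, hl4⟩ := hl
  have hc2o : orderOf (c ^ 2) = 2 := by
    rw [orderOf_pow' c (by norm_num : (2 : ℕ) ≠ 0), hc4]
    norm_num
  have hc2 : c ^ 2 = z :=
    ZS_invol_cent hU S z hzS hz ((Subgroup.centralizer (S : Set G)).pow_mem hc 2) hc2o
  have hl2 : l ^ 2 = z := ZS_sq_of_four hU S z hz hzC hlS hl4
  have hcl : l * c = c * l := (Subgroup.mem_centralizer_iff.mp hc) l hlS
  have hz2 : z * z = 1 := by
    rw [← pow_two, ← hz]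
    exact pow_orderOf_eq_one z
  have hw2 : (c * l) ^ 2 = 1 := by
    rw [(Commute.mul_pow (show Commute c l from hcl.symm) 2), hc2, hl2, hz2]
  have hwS : c * l ∈ S := by
    by_cases hw1 : c * l = 1
    · rw [hw1]; exact S.one_mem
    · have hwo : orderOf (c * l) = 2 := orderOf_eq_prime hw2 hw1
      have hzc : z * c = c * z := (Subgroup.mem_centralizer_iff.mp hc) z hzS
      have hzl : l * z = z * l := (Subgroup.mem_centralizer_iff.mp hzC) l hlS
      have hcomm : z * (c * l) = (c * l) * z := by
        rw [← mul_assoc, hzc, mul_assoc, ← hzl, mul_assoc]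
      have hmem := hU 2 z (c * l) Nat.prime_two hz hwo hcomm
      rcases ZS_mem_zpowers_two hz hmem with h | h
      · exact absurd h hw1
      · rw [h]; exact hzS
  have hcS : c ∈ S := by
    have : c = (c * l) * l⁻¹ := by group
    rw [this]
    exact S.mul_mem hwS (S.inv_mem hlS)
  rcases hall c hcS hc with h | h
  · rw [h, orderOf_one] at hc4
    norm_num at hc4
  · rw [h, hz] at hc4
    norm_num at hc4

include hU hzS hz hzC hall in
/-- `4 ∤ |C_G(S)|`. -/
theorem ZS_not_four_dvd [Finite G] (hl : ∃ l : G, l ∈ S ∧ orderOf l = 4) :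
    ¬ 4 ∣ Nat.card (Subgroup.centralizer (S : Set G)) := by
  classical
  intro h4
  haveI : Fact (Nat.Prime 2) := ⟨Nat.prime_two⟩
  obtain ⟨K, hK⟩ := Sylow.exists_subgroup_card_pow_prime (G := Subgroup.centralizer (S : Set G)) 2
    (n := 2) (by simpa using h4)
  have hkey : ∀ k : K, k = 1 ∨ ((k : Subgroup.centralizer (S : Set G)) : G) = z := by
    intro k
    by_cases hk1 : k = 1
    · left; exact hk1
    · right
      have hdvd : orderOf k ∣ 2 ^ 2 := by
        rw [← hK]
        exact orderOf_dvd_natCard k
      have hoG : orderOf (((k : Subgroup.centralizer (S : Set G)) : G)) = orderOf k := by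
        rw [Subgroup.orderOf_coe, Subgroup.orderOf_coe]
      have hcases : orderOf k = 1 ∨ orderOf k = 2 ∨ orderOf k = 4 := by
        have hle : orderOf k ≤ 4 := Nat.le_of_dvd (by norm_num) hdvd
        have hpos := orderOf_pos k
        interval_cases h : orderOf k
        · left; rfl
        · right; left; rfl
        · exfalso; norm_num at hdvd
        · right; right; rfl
      rcases hcases with h | h | h
      · exact absurd (orderOf_eq_one_iff.mp h) hk1
      · exact ZS_invol_cent hU S z hzS hz (k : Subgroup.centralizer (S : Set G)).2 (hoG.trans h)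
      · exact absurd (hoG.trans h) (ZS_no_four hU S z hzS hz hzC hall hl
          (k : Subgroup.centralizer (S : Set G)).2)
  let f : K → Bool := fun k => decide (k = 1)
  have hf : Function.Injective f := by
    intro a b hab
    simp only [f, decide_eq_decide] at hab
    rcases hkey a with ha | ha
    · exact ha.trans (hab.mp ha).symm
    · rcases hkey b with hb | hb
      · exact (hab.mpr hb).trans hb.symm
      · apply Subtype.ext
        apply Subtype.ext
        rw [ha, hb]
  have hle := Nat.card_le_card_of_injective f hf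
  rw [hK] at hle
  simp at hle

end Cent2

end Cfsg.Agent.ZassL
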