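import Mathlib
import Cfsg.Agent.Lib.Zass.StructC

set_option autoImplicit false
set_option linter.style.haveILetI false
set_option linter.unusedSimpArgs false
set_option linter.unusedVariables false
set_option linter.unusedSectionVars false

/-! # Zassenhaus cluster, slice ZS (part D): the odd complement `M` in `C_G(S)` and the index of
`S · C_G(S)` -/

namespace Cfsg.Agent.ZassL

open Cfsg.Agent.S3358L

universe u

local notation "SL25" => Matrix.SpecialLinearGroup (Fin 2) (ZMod 5)

section Compl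

variable {G : Type u} [Group G] [Finite G]

/-- If `z ∈ C` is a central involution of `C` and `4 ∤ |C|`, then `C = ⟨z⟩ × M` with `|M|` odd. -/
theorem ZS_exists_M (C : Subgroup G) (z : G) (hzC : z ∈ C) (hz : orderOf z = 2)
    (hcent : ∀ c ∈ C, c * z = z * c) (h4 : ¬ 4 ∣ Nat.card C) :
    ∃ M : Subgroup G, M ≤ C ∧ Odd (Nat.card M) ∧ z ∉ M ∧ C ≤ Subgroup.zpowers z ⊔ M := by
  classical
  set zC : C := ⟨z, hzC⟩ with hzCdef
  have hzCo : orderOf zC = 2 := by
    rw [← Subgroup.orderOf_coe]
    exact hz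
  haveI hN : (Subgroup.zpowers zC).Normal := by
    constructor
    intro n hn g
    obtain ⟨k, rfl⟩ := Subgroup.mem_zpowers_iff.mp hn
    have hcomm : g * zC = zC * g := Subtype.ext (hcent g g.2)
    have : g * zC ^ k * g⁻¹ = zC ^ k := by
      have h1 : Commute g (zC ^ k) := (show Commute g zC from hcomm).zpow_right k
      rw [h1.eq, mul_assoc, mul_inv_cancel, mul_one]
    rw [this]
    exact Subgroup.mem_zpowers_iff.mpr ⟨k, rfl⟩
  have hNc : Nat.card (Subgroup.zpowers zC) = 2 := by
    rw [Nat.card_zpowers, hzCo]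
  have hmul := Subgroup.card_mul_index (Subgroup.zpowers zC)
  rw [hNc] at hmul
  have hodd : Odd (Subgroup.zpowers zC).index := by
    rw [← Nat.not_even_iff_odd]
    intro he
    obtain ⟨r, hr⟩ := he
    apply h4
    exact ⟨r, by omega⟩
  have hcop : Nat.Coprime (Nat.card (Subgroup.zpowers zC)) (Subgroup.zpowers zC).index := by
    rw [hNc]
    exact Nat.coprime_two_left.mpr hodd
  obtain ⟨M', hM'⟩ := Subgroup.exists_right_complement'_of_coprime hcop
  refine ⟨M'.map C.subtype, ?_, ?_, ?_, ?_⟩
  · intro g hg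
    obtain ⟨m, -, rfl⟩ := hg
    exact m.2
  · have h1 : Nat.card (M'.map C.subtype) = Nat.card M' :=
      Subgroup.card_map_of_injective C.subtype_injective
    have h2 := hM'.card_mul_card
    rw [hNc] at h2
    have h3 : Nat.card M' = (Subgroup.zpowers zC).index := by omega
    rw [h1, h3]
    exact hodd
  · intro hzM
    obtain ⟨m, hm, hmz⟩ := hzM
    have hmz' : m = zC := Subtype.ext hmz
    have hmem : zC ∈ Subgroup.zpowers zC ⊓ M' := ⟨Subgroup.mem_zpowers zC, hmz' ▸ hm⟩
    rw [hM'.disjoint.eq_bot, Subgroup.mem_bot] at hmem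
    rw [hmem, orderOf_one] at hzCo
    norm_num at hzCo
  · intro c hc
    have hmem : (⟨c, hc⟩ : C) ∈ Subgroup.zpowers zC ⊔ M' := by
      rw [hM'.sup_eq_top]
      exact Subgroup.mem_top _
    have h2 : C.subtype ⟨c, hc⟩ ∈ (Subgroup.zpowers zC ⊔ M').map C.subtype :=
      Subgroup.mem_map_of_mem _ hmem
    rw [Subgroup.map_sup, MonoidHom.map_zpowers] at h2
    exact h2

end Compl

section AutTriv

/-- An automorphism of a perfect group which is trivial modulo the centre is trivial. -/
theorem ZS_aut_trivial_of_central {S : Type u} [Group S] (hS : commutator S = ⊤) (α : MulAut S)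
    (hcen : ∀ t : S, α t * t⁻¹ ∈ Subgroup.center S) : ∀ t : S, α t = t := by
  let K : Subgroup S :=
    { carrier := {t | α t = t}
      one_mem' := map_one α
      mul_mem' := by
        intro a b ha hb
        show α (a * b) = a * b
        rw [map_mul, ha, hb]
      inv_mem' := by
        intro a ha
        show α a⁻¹ = a⁻¹
        rw [map_inv, ha] }
  have key1 : ∀ c x y : S, (∀ g : S, g * c = c * g) → (c * x) * y * (c * x)⁻¹ = x * y * x⁻¹ := by
    intro c x y hc
    have h1 : (c * x) * y * (c * x)⁻¹ = c * (x * y * x⁻¹) * c⁻¹ := by group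
    rw [h1, ← hc (x * y * x⁻¹)]
    group
  have hsub : commutatorSet S ⊆ K := by
    rintro _ ⟨a, b, rfl⟩
    rw [commutatorElement_def]
    show α (a * b * a⁻¹ * b⁻¹) = a * b * a⁻¹ * b⁻¹
    have hca := Subgroup.mem_center_iff.mp (hcen a)
    have hcb := Subgroup.mem_center_iff.mp (hcen b)
    have ea : α a = (α a * a⁻¹) * a := by group
    have eb : α b = (α b * b⁻¹) * b := by group
    rw [map_mul, map_mul, map_mul, map_inv, map_inv]
    set ca := α a * a⁻¹ with hcadef
    set cb := α b * b⁻¹ with hcbdef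
    rw [ea, key1 ca a (α b) hca, eb]
    have h2 : a * (cb * b) * a⁻¹ * (cb * b)⁻¹ = cb * (a * b * a⁻¹ * b⁻¹) * cb⁻¹ := by
      have h3 : a * (cb * b) = cb * (a * b) := by
        rw [← mul_assoc, hcb a, mul_assoc]
      calc a * (cb * b) * a⁻¹ * (cb * b)⁻¹ = cb * (a * b) * a⁻¹ * (cb * b)⁻¹ := by rw [h3]
        _ = cb * (a * b * a⁻¹ * b⁻¹) * cb⁻¹ := by group
    rw [h2, ← hcb (a * b * a⁻¹ * b⁻¹)]
    group
  have hle : commutator S ≤ K := by
    rw [commutator_eq_closure]
    exact (Subgroup.closure_le K).mpr hsub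
  rw [hS] at hle
  intro t
  exact hle (Subgroup.mem_top t)

end AutTriv

section Index

variable {G : Type u} [Group G] [Finite G] (S : Subgroup G) [S.Normal]

/-- the action of `G` on `S / Z(S)` -/
noncomputable def conjQuot : G →* MulAut (S ⧸ Subgroup.center S) :=
  autQuotCenter.comp (MulAut.conjNormal (H := S))

theorem ZS_ker_conjQuot (hS : commutator S = ⊤) :
    (conjQuot S).ker = Subgroup.centralizer (S : Set G) := by
  ext g
  rw [MonoidHom.mem_ker, Subgroup.mem_centralizer_iff]
  constructor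
  · intro hg s hs
    -- the map `t ↦ (g t g⁻¹) t⁻¹` is a homomorphism `S → Z(S)`
    set α : MulAut S := MulAut.conjNormal (H := S) g with hα
    have hcen : ∀ t : S, α t * t⁻¹ ∈ Subgroup.center S := by
      intro t
      have h1 : (conjQuot S g) (QuotientGroup.mk t) = QuotientGroup.mk t := by
        rw [hg]; rfl
      have h2 : (QuotientGroup.mk (α t) : S ⧸ Subgroup.center S) = QuotientGroup.mk t := h1
      rw [QuotientGroup.eq] at h2
      -- h2 : (α t)⁻¹ * t ∈ center
      have h3 : ((α t)⁻¹ * t)⁻¹ ∈ Subgroup.center S := (Subgroup.center S).inv_mem h2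
      have h4 : ((α t)⁻¹ * t)⁻¹ = t⁻¹ * α t := by group
      rw [h4] at h3
      have h5 : α t * t⁻¹ = t⁻¹ * α t := by
        have := Subgroup.mem_center_iff.mp h3 t
        -- t * (t⁻¹ * α t) = (t⁻¹ * α t) * t
        calc α t * t⁻¹ = t * (t⁻¹ * α t) * t⁻¹ := by group
          _ = (t⁻¹ * α t) * t * t⁻¹ := by rw [this]
          _ = t⁻¹ * α t := by group
      rw [h5]
      exact h3
    have h7 : α ⟨s, hs⟩ = ⟨s, hs⟩ := ZS_aut_trivial_of_central hS α hcen ⟨s, hs⟩
    have h8 : g * s * g⁻¹ = s := by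
      have := congrArg Subtype.val h7
      simpa [hα, MulAut.conjNormal_apply] using this
    calc s * g = (g * s * g⁻¹) * g := by rw [h8]
      _ = g * s := by group
  · intro hg
    ext x
    induction x using QuotientGroup.induction_on with
    | H t =>
      show (QuotientGroup.mk ((MulAut.conjNormal (H := S) g) t) : S ⧸ Subgroup.center S) =
        QuotientGroup.mk t
      congr 1
      apply Subtype.ext
      rw [MulAut.conjNormal_apply]
      have := hg t t.2
      calc g * (t : G) * g⁻¹ = (t : G) * g * g⁻¹ := by rw [this]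
        _ = t := by group

include S in
theorem ZS_index (e : S ≃* SL25) (hS : commutator S = ⊤) :
    (S ⊔ Subgroup.centralizer (S : Set G)).index = 1 ∨
      (S ⊔ Subgroup.centralizer (S : Set G)).index = 2 := by
  set C := Subgroup.centralizer (S : Set G) with hC
  haveI : Finite S := inferInstance
  have hker := ZS_ker_conjQuot S hS
  have hCidx : C.index ∣ 120 := by
    rw [hC, ← hker, Subgroup.index_ker, ← ZS_card_aut_quot e hS]
    exact Subgroup.card_subgroup_dvd_card (conjQuot S).range
  have hsub : C.subgroupOf S = Subgroup.center S := by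
    ext g
    rw [Subgroup.mem_subgroupOf, ZS_mem_center_iff]
  have hrel : C.relIndex (S ⊔ C) = 60 := by
    rw [sup_comm, Subgroup.relIndex_sup_left, Subgroup.relIndex, hsub]
    have h1 := Subgroup.card_mul_index (Subgroup.center S)
    rw [ZS_card_S e, ZS_card_center_S e] at h1
    omega
  have hmul := Subgroup.relIndex_mul_index (show C ≤ S ⊔ C from le_sup_right)
  rw [hrel] at hmul
  have hne : (S ⊔ C).index ≠ 0 := Subgroup.index_ne_zero_of_finite
  rw [← hmul] at hCidx
  have h2 : (S ⊔ C).index ∣ 2 := by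
    have : 60 * (S ⊔ C).index ∣ 60 * 2 := by simpa using hCidx
    exact Nat.dvd_of_mul_dvd_mul_left (by norm_num) this
  have h3 := Nat.le_of_dvd (by norm_num) h2
  have h4 : 0 < (S ⊔ C).index := Nat.pos_of_ne_zero hne
  interval_cases h : (S ⊔ C).index
  · left; rfl
  · right; rfl

end Index

section Main

variable {G : Type u} [Group G] [Finite G]

/-- The structure of a `PU`-group around a normal subgroup `S ≅ SL(2,5)`: `C_G(S) = ⟨z⟩ × M` with
`M` a group of order prime to `30` with cyclic Sylow subgroups, and `S · C_G(S) = S × M` has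
index `1` or `2`. -/
theorem ZS_struct_of_normal (hU : PU G) (S : Subgroup G) [S.Normal] (e : S ≃* SL25)
    (hS : commutator S = ⊤) :
    ∃ M : Subgroup G, M ≤ Subgroup.centralizer (S : Set G) ∧ S ⊓ M = ⊥ ∧
      S ⊔ M = S ⊔ Subgroup.centralizer (S : Set G) ∧
      (∀ (p : ℕ) [Fact p.Prime] (P : Sylow p M), IsCyclic P) ∧ (Nat.card M).Coprime 30 ∧
      ((S ⊔ M).index = 1 ∨ (S ⊔ M).index = 2) := by
  classical
  obtain ⟨z, hzS, hz, hzC, hall⟩ := ZS_exists_z S e
  have hl : ∃ l : G, l ∈ S ∧ orderOf l = 4 := by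
    obtain ⟨l, hl⟩ := ZS_exists_orderOf_four e
    exact ⟨(l : G), l.2, by rw [Subgroup.orderOf_coe]; exact hl⟩
  have h4 := ZS_not_four_dvd hU S z hzS hz hzC hall hl
  have hcent : ∀ c ∈ Subgroup.centralizer (S : Set G), c * z = z * c := by
    intro c hc
    exact ((Subgroup.mem_centralizer_iff.mp hc) z hzS).symm
  obtain ⟨M, hMC, hModd, hzM, hCle⟩ := ZS_exists_M (Subgroup.centralizer (S : Set G)) z hzC hz hcent h4
  have hinf : S ⊓ M = ⊥ := by
    rw [eq_bot_iff]
    intro g hg
    rw [Subgroup.mem_bot]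
    rcases hall g hg.1 (hMC hg.2) with h | h
    · exact h
    · exact absurd (h ▸ hg.2) hzM
  have hsup : S ⊔ M = S ⊔ Subgroup.centralizer (S : Set G) := by
    apply le_antisymm
    · exact sup_le le_sup_left (hMC.trans le_sup_right)
    · refine sup_le le_sup_left (hCle.trans (sup_le ?_ le_sup_right))
      exact (Subgroup.zpowers_le.mpr hzS).trans le_sup_left
  have hcardS : Nat.card S = 120 := ZS_card_S e
  have hnd : ∀ p : ℕ, p.Prime → p ∣ 120 → ¬ p ∣ Nat.card M := by
    intro p hp hp120 hpM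
    haveI := Fact.mk hp
    obtain ⟨m, hm⟩ := exists_prime_orderOf_dvd_card' p hpM
    obtain ⟨s, hs⟩ := exists_prime_orderOf_dvd_card' (G := S) p (by rw [hcardS]; exact hp120)
    have hmG : orderOf (m : G) = p := by rw [Subgroup.orderOf_coe]; exact hm
    have hsG : orderOf (s : G) = p := by rw [Subgroup.orderOf_coe]; exact hs
    have hcomm : (s : G) * (m : G) = (m : G) * (s : G) :=
      (Subgroup.mem_centralizer_iff.mp (hMC m.2)) s s.2
    have hmem := hU p (s : G) (m : G) hp hsG hmG hcomm
    have hmS : (m : G) ∈ S := (Subgroup.zpowers_le.mpr s.2) hmem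
    have : (m : G) ∈ S ⊓ M := ⟨hmS, m.2⟩
    rw [hinf, Subgroup.mem_bot] at this
    rw [this, orderOf_one] at hmG
    exact hp.one_lt.ne hmG
  refine ⟨M, hMC, hinf, hsup, ?_, ?_, ?_⟩
  · intro p _ P
    have hUM : PU M := (U3_subgroup M).1 hU
    rcases U1_pgroup hUM p (P : Subgroup M) P.2 with h | ⟨hp2, n, ⟨f⟩⟩
    · exact h
    · exfalso
      have hcardP : Nat.card (P : Subgroup M) = 4 * 2 ^ n := by
        rw [Nat.card_congr f.toEquiv, Nat.card_eq_fintype_card, QuaternionGroup.card]
      have hdvd : Nat.card (P : Subgroup M) ∣ Nat.card M := Subgroup.card_subgroup_dvd_card _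
      rw [hcardP] at hdvd
      have h2 : 2 ∣ Nat.card M := Dvd.dvd.trans ⟨2 * 2 ^ n, by ring⟩ hdvd
      exact (Nat.not_even_iff_odd.mpr hModd) (even_iff_two_dvd.mpr h2)
  · have h2 : Nat.Coprime (Nat.card M) 2 := Nat.coprime_two_right.mpr hModd
    have h3 : Nat.Coprime (Nat.card M) 3 :=
      (Nat.Coprime.symm ((Nat.Prime.coprime_iff_not_dvd Nat.prime_three).mpr
        (hnd 3 Nat.prime_three (by norm_num))))
    have h5 : Nat.Coprime (Nat.card M) 5 :=
      (Nat.Coprime.symm ((Nat.Prime.coprime_iff_not_dvd Nat.prime_five).mpr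
        (hnd 5 Nat.prime_five (by norm_num))))
    have : (30 : ℕ) = 2 * (3 * 5) := by norm_num
    rw [this]
    exact Nat.Coprime.mul_right h2 (Nat.Coprime.mul_right h3 h5)
  · rw [hsup]
    exact ZS_index S e hS

end Main

end Cfsg.Agent.ZassL

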