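import Mathlib
import Cfsg.Agent.Lib.Zass.StructD

set_option autoImplicit false
set_option linter.style.haveILetI false
set_option linter.unusedVariables false
set_option linter.unusedSectionVars false

/-! # Zassenhaus cluster, slice ZE (E5): a perfect `PU`-group with a normal subgroup `≅ SL(2,5)`
is equal to it -/

namespace Cfsg.Agent.ZassL

open Cfsg.Agent.S3358L

universe u

local notation "SL25" => Matrix.SpecialLinearGroup (Fin 2) (ZMod 5)

variable {G : Type u} [Group G] [Finite G]

theorem ZE_perfect_quotient (hperf : commutator G = ⊤) (N : Subgroup G) [N.Normal] :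
    commutator (G ⧸ N) = ⊤ := by
  have h1 : (commutator G).map (QuotientGroup.mk' N) = commutator (G ⧸ N) := by
    rw [commutator_def, Subgroup.map_commutator, commutator_def]
    have : (⊤ : Subgroup G).map (QuotientGroup.mk' N) = ⊤ := by
      rw [← MonoidHom.range_eq_map, MonoidHom.range_eq_top]
      exact QuotientGroup.mk'_surjective _
    rw [this]
  rw [← h1, hperf, ← MonoidHom.range_eq_map, MonoidHom.range_eq_top]
  exact QuotientGroup.mk'_surjective _

/-- (E5) -/
theorem ZE_eq_top_of_normal (hU : PU G) (hperf : commutator G = ⊤) (H : Subgroup G) [H.Normal]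
    (e : H ≃* SL25) (hH : commutator H = ⊤) : H = ⊤ := by
  obtain ⟨M, hMC, hinf, hsup, hcyc, hcop, hidx⟩ := ZS_struct_of_normal hU H e hH
  have htop : H ⊔ M = ⊤ := by
    rcases hidx with h | h
    · exact Subgroup.index_eq_one.mp h
    · have := Cfsg.Agent.S3378.commutator_le_of_index_two (H ⊔ M) h
      rw [hperf] at this
      exact top_le_iff.mp this
  haveI : IsZGroup M := ⟨fun p hp P => by
    haveI := Fact.mk hp
    exact hcyc p P⟩
  have hsurj : Function.Surjective ((QuotientGroup.mk' H).comp M.subtype) := by
    intro q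
    obtain ⟨g, rfl⟩ := QuotientGroup.mk'_surjective H q
    have hg : g ∈ H ⊔ M := htop ▸ Subgroup.mem_top g
    rw [Subgroup.mem_sup_of_normal_left] at hg
    obtain ⟨h, hh, m, hm, rfl⟩ := hg
    refine ⟨⟨m, hm⟩, ?_⟩
    show (QuotientGroup.mk' H) m = (QuotientGroup.mk' H) (h * m)
    have h1 : (QuotientGroup.mk' H) h = 1 := by
      rw [QuotientGroup.mk'_apply, QuotientGroup.eq_one_iff]
      exact hh
    rw [map_mul, h1, one_mul]
  haveI : Group.IsSolvable (G ⧸ H) := Group.isSolvable_of_surjective hsurj
  have hq := ZE_perfect_quotient hperf H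
  by_contra hne
  haveI : Nontrivial (G ⧸ H) := by
    rw [← Finite.one_lt_card_iff_nontrivial, ← Subgroup.index_eq_card]
    have h1 : H.index ≠ 1 := fun h => hne (Subgroup.index_eq_one.mp h)
    have h0 : H.index ≠ 0 := Subgroup.index_ne_zero_of_finite
    omega
  have := Group.IsSolvable.commutator_lt_top_of_nontrivial (G ⧸ H)
  rw [hq] at this
  exact lt_irrefl _ this

end Cfsg.Agent.ZassL
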