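import Mathlib
import Cfsg.Agent.Lib.Zass.E5
import Cfsg.Agent.Lib.S3912.Quat
import Cfsg.Agent.S0106

set_option autoImplicit false
set_option linter.style.haveILetI false
set_option linter.unusedVariables false
set_option linter.unusedSectionVars false

namespace Cfsg.Agent.ZassL

open Cfsg.Agent.S3358L

universe u

variable {G : Type u} [Group G] [Finite G]

/-- a homomorphism from a perfect group to a solvable group is trivial -/
theorem ZE_hom_trivial_of_perfect {G : Type*} [Group G] (hperf : commutator G = ⊤) {A : Type*}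
    [Group A] [Group.IsSolvable A] (f : G →* A) (g : G) : f g = 1 := by
  obtain ⟨n, hn⟩ := Group.IsSolvable.solvable (G := A)
  have h1 : ∀ k, derivedSeries G k = ⊤ := by
    intro k
    induction k with
    | zero => rfl
    | succ k ih => rw [derivedSeries_succ, ih, ← commutator_def, hperf]
  have h2 : (derivedSeries G n).map f ≤ derivedSeries A n := map_derivedSeries_le_derivedSeries f n
  rw [h1, hn] at h2
  have : f g ∈ (⊤ : Subgroup G).map f := Subgroup.mem_map_of_mem f (Subgroup.mem_top g)
  exact Subgroup.mem_bot.mp (h2 this)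

/-- In a nontrivial perfect finite group the Sylow subgroup for the smallest prime divisor is
not cyclic. -/
theorem ZE_minFac_not_cyclic (hperf : commutator G = ⊤) {p : ℕ} [Fact p.Prime]
    (hp : (Nat.card G).minFac = p) (P : Sylow p G) : ¬ IsCyclic (P : Subgroup G) := by
  intro hP
  have hNC : Subgroup.normalizer (P : Set G) ≤ Subgroup.centralizer (P : Set G) :=
    IsCyclic.normalizer_le_centralizer hp hP
  haveI : Group.IsSolvable (P : Subgroup G) := by
    haveI : IsMulCommutative (P : Subgroup G) := IsCyclic.isMulCommutative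
    exact Group.isSolvable_of_comm (isMulCommutative_iff.mp inferInstance)
  have h2 : (MonoidHom.transferSylow P hNC).ker = ⊤ := by
    rw [eq_top_iff]
    intro g _
    exact ZE_hom_trivial_of_perfect hperf _ g
  have h3 : (MonoidHom.transferSylow P hNC).ker.IsComplement' P := IsCyclic.isComplement' hp hP
  rw [h2, Subgroup.isComplement'_top_left] at h3
  have h4 : p ∣ Nat.card G := hp ▸ Nat.minFac_dvd _
  exact P.ne_bot_of_dvd_card h4 h3

/-- a perfect nontrivial `PU`-group has even order and generalized quaternion Sylow 2-subgroups -/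
theorem ZE_sylow_two_quat [Nontrivial G] (hU : PU G) (hperf : commutator G = ⊤) :
    (Nat.card G).minFac = 2 ∧ ∀ P : Sylow 2 G,
      ∃ n : ℕ, Nonempty ((P : Subgroup G) ≃* QuaternionGroup (2 ^ n)) := by
  have hp : (Nat.card G).minFac.Prime := Nat.minFac_prime Finite.one_lt_card.ne'
  haveI := Fact.mk hp
  have h2 : (Nat.card G).minFac = 2 := by
    let P : Sylow (Nat.card G).minFac G := default
    rcases U1_pgroup hU _ (P : Subgroup G) P.2 with h | ⟨h, _⟩
    · exact absurd h (ZE_minFac_not_cyclic hperf rfl P)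
    · exact h
  refine ⟨h2, fun P => ?_⟩
  rcases U1_pgroup hU 2 (P : Subgroup G) P.2 with h | ⟨_, h⟩
  · exact absurd h (ZE_minFac_not_cyclic hperf h2 P)
  · exact h

/-- the (normal) subgroup generated by the elements of order `4` -/
def N4 (G : Type u) [Group G] : Subgroup G := Subgroup.normalClosure {t : G | orderOf t = 4}

instance N4_normal : (N4 G).Normal := Subgroup.normalClosure_normal

theorem ZE_quat_le_N4 (P : Subgroup G) (n : ℕ) (e : P ≃* QuaternionGroup (2 ^ n)) :
    P ≤ N4 G := by
  intro g hg
  obtain ⟨y, z, hy, hz, h⟩ := Cfsg.Agent.Lib.S3912.quat_gen_order_four (2 ^ n) (e ⟨g, hg⟩)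
  have key : ∀ w : QuaternionGroup (2 ^ n), orderOf w = 4 → ((e.symm w : P) : G) ∈ N4 G := by
    intro w hw
    apply Subgroup.subset_normalClosure
    show orderOf ((e.symm w : P) : G) = 4
    rw [Subgroup.orderOf_coe, MulEquiv.orderOf_eq, hw]
  have hg' : g = ((e.symm (e ⟨g, hg⟩) : P) : G) := by simp
  rw [hg']
  rcases h with h | h
  · rw [h]; exact key y hy
  · rw [h, map_mul, Subgroup.coe_mul]
    exact (N4 G).mul_mem (key y hy) (key z hz)

theorem ZE_N4_eq_top [Nontrivial G] (hU : PU G) (hperf : commutator G = ⊤) : N4 G = ⊤ := by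
  by_contra hne
  haveI : Nontrivial (G ⧸ N4 G) := by
    rw [← Finite.one_lt_card_iff_nontrivial, ← Subgroup.index_eq_card]
    have h1 : (N4 G).index ≠ 1 := fun h => hne (Subgroup.index_eq_one.mp h)
    have h0 : (N4 G).index ≠ 0 := Subgroup.index_ne_zero_of_finite
    omega
  have hq := ZE_perfect_quotient hperf (N4 G)
  have hp : (Nat.card (G ⧸ N4 G)).minFac.Prime := Nat.minFac_prime Finite.one_lt_card.ne'
  haveI := Fact.mk hp
  let P' : Sylow (Nat.card (G ⧸ N4 G)).minFac (G ⧸ N4 G) := default
  obtain ⟨P, hP⟩ := Sylow.mapSurjective_surjective (QuotientGroup.mk'_surjective (N4 G))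
    (Nat.card (G ⧸ N4 G)).minFac P'
  have hP' : (P' : Subgroup (G ⧸ N4 G)) = (P : Subgroup G).map (QuotientGroup.mk' (N4 G)) := by
    rw [← hP]; rfl
  apply ZE_minFac_not_cyclic hq rfl P'
  rw [hP']
  rcases U1_pgroup hU _ (P : Subgroup G) P.2 with h | ⟨_, n, ⟨e⟩⟩
  · haveI := h
    exact isCyclic_of_surjective ((QuotientGroup.mk' (N4 G)).subgroupMap (P : Subgroup G))
      (MonoidHom.subgroupMap_surjective _ _)
  · have hle := ZE_quat_le_N4 (P : Subgroup G) n e
    have : (P : Subgroup G).map (QuotientGroup.mk' (N4 G)) = ⊥ := by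
      rw [← le_bot_iff, Subgroup.map_le_iff_le_comap]
      intro g hg
      rw [Subgroup.mem_comap, Subgroup.mem_bot, QuotientGroup.mk'_apply, QuotientGroup.eq_one_iff]
      exact hle hg
    rw [this]
    infer_instance

end Cfsg.Agent.ZassL
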