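import Mathlib
import Cfsg.Agent.Lib.Zass.E2A

set_option autoImplicit false
set_option linter.style.haveILetI false
set_option linter.unusedVariables false
set_option linter.unusedSectionVars false

namespace Cfsg.Agent.ZassL

open Cfsg.Agent.S3358L

universe u

variable {G : Type u} [Group G] [Finite G]

theorem ZE_card_sl23 : Nat.card (Matrix.SpecialLinearGroup (Fin 2) (ZMod 3)) = 24 := by
  rw [Nat.card_eq_fintype_card]
  decide +kernel

theorem ZE_three_dvd [Nontrivial G] (hU : PU G) (hperf : commutator G = ⊤) :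
    3 ∣ Nat.card G := by
  obtain ⟨h2, hq⟩ := ZE_sylow_two_quat hU hperf
  haveI : Fact (Nat.Prime 2) := ⟨Nat.prime_two⟩
  let P : Sylow 2 G := default
  obtain ⟨n, hn⟩ := hq P
  rcases Cfsg.Agent.Lead.QSyl.main P n hn with ⟨P', N, hN, hc⟩ | ⟨H, K, hK, ⟨e⟩⟩
  · exfalso
    haveI := hN
    have hidx : N.index = Nat.card (P' : Subgroup G) := hc.symm.index_eq_card
    obtain ⟨k, hk⟩ := IsPGroup.iff_card.mp P'.2
    have hpg : IsPGroup 2 (G ⧸ N) := by
      apply IsPGroup.of_card (n := k)
      rw [← Subgroup.index_eq_card, hidx, hk]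
    haveI : Group.IsNilpotent (G ⧸ N) := hpg.isNilpotent
    haveI : Group.IsSolvable (G ⧸ N) := inferInstance
    have hq' := ZE_perfect_quotient hperf N
    have htriv : Subsingleton (G ⧸ N) := by
      by_contra hns
      rw [not_subsingleton_iff_nontrivial] at hns
      haveI := hns
      have := Group.IsSolvable.commutator_lt_top_of_nontrivial (G ⧸ N)
      rw [hq'] at this
      exact lt_irrefl _ this
    have h1 : N.index = 1 := by
      rw [Subgroup.index_eq_card]
      exact Nat.card_eq_one_iff_unique.mpr ⟨htriv, ⟨1⟩⟩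
    rw [h1] at hidx
    have h4 : 2 ∣ Nat.card G := h2 ▸ Nat.minFac_dvd _
    exact P'.ne_bot_of_dvd_card h4 (Subgroup.card_eq_one.mp hidx.symm)
  · have h1 : Nat.card (H ⧸ K.subgroupOf H) = 24 := by
      rw [Nat.card_congr e.toEquiv, ZE_card_sl23]
    have h2 : Nat.card (H ⧸ K.subgroupOf H) ∣ Nat.card H := by
      rw [← Subgroup.index_eq_card]
      exact Subgroup.index_dvd_card _
    have h3 : Nat.card H ∣ Nat.card G := Subgroup.card_subgroup_dvd_card H
    rw [h1] at h2
    exact (by norm_num : 3 ∣ 24).trans (h2.trans h3)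

/-- a perfect finite `PU`-group has no central element of order `3` -/
theorem ZE_no_central_three (hU : PU G) (hperf : commutator G = ⊤) (x : G)
    (hx : orderOf x = 3) : x ∉ Subgroup.center G := by
  intro hxc
  haveI : Fact (Nat.Prime 3) := ⟨Nat.prime_three⟩
  have hpz : IsPGroup 3 (Subgroup.zpowers x) := by
    apply IsPGroup.of_card (n := 1)
    rw [Nat.card_zpowers, hx, pow_one]
  obtain ⟨P, hP⟩ := hpz.exists_le_sylow
  have hxP : x ∈ (P : Subgroup G) := hP (Subgroup.mem_zpowers x)
  have hcyc : IsCyclic (P : Subgroup G) := by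
    rcases U1_pgroup hU 3 (P : Subgroup G) P.2 with h | ⟨h, _⟩
    · exact h
    · omega
  letI : CommGroup (P : Subgroup G) := IsCyclic.commGroup
  haveI : Group.IsSolvable (P : Subgroup G) :=
    Group.isSolvable_of_comm (fun a b => mul_comm a b)
  have key : ∀ (k : ℕ) (g₀ : G), g₀⁻¹ * x ^ k * g₀ ∈ (P : Subgroup G) →
      g₀⁻¹ * x ^ k * g₀ = x ^ k := by
    intro k g₀ _
    have : x ^ k ∈ Subgroup.center G := Subgroup.pow_mem _ hxc k
    rw [Subgroup.mem_center_iff] at this
    rw [mul_assoc, ← this g₀, inv_mul_cancel_left]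
  have h1 := MonoidHom.transfer_eq_pow (MonoidHom.id (P : Subgroup G)) x key
  have h2 : MonoidHom.transfer (MonoidHom.id (P : Subgroup G)) x = 1 :=
    ZE_hom_trivial_of_perfect hperf _ x
  rw [h2] at h1
  have h3 : x ^ (P : Subgroup G).index = 1 := by
    have := congrArg (fun y : (P : Subgroup G) => (y : G)) h1
    simpa using this.symm
  have h4 : 3 ∣ (P : Subgroup G).index := by
    have := orderOf_dvd_of_pow_eq_one h3
    rwa [hx] at this
  exact P.not_dvd_index h4

end Cfsg.Agent.ZassL
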