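import Mathlib
import Cfsg.Agent.Lib.Zass.E2B

set_option autoImplicit false
set_option linter.style.haveILetI false
set_option linter.unusedVariables false
set_option linter.unusedSectionVars false

namespace Cfsg.Agent.ZassL

open Cfsg.Agent.S3358L

universe u

variable {G : Type u} [Group G] [Finite G]

/-- if a subgroup contains all elements of order 4 then it contains `N4 G` -/
theorem ZE_N4_le (K : Subgroup G) (hK : ∀ t : G, orderOf t = 4 → t ∈ K) : N4 G ≤ K := by
  unfold N4 Subgroup.normalClosure
  rw [Subgroup.closure_le]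
  intro g hg
  rw [Group.mem_conjugatesOfSet_iff] at hg
  obtain ⟨a, ha, hc⟩ := hg
  rw [isConj_iff] at hc
  obtain ⟨c, rfl⟩ := hc
  apply hK
  show orderOf (c * a * c⁻¹) = 4
  have : orderOf (c * a * c⁻¹) = orderOf a := by
    have h := MulEquiv.orderOf_eq (MulAut.conj c) a
    simpa [MulAut.conj_apply] using h
  rw [this]
  exact ha

/-- a normal cyclic subgroup of a perfect group is central -/
theorem ZE_central_of_normal_zpowers (hperf : commutator G = ⊤) (x : G)
    [hn : (Subgroup.zpowers x).Normal] : x ∈ Subgroup.center G := by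
  haveI : Group.IsSolvable (MulAut (Subgroup.zpowers x)) := by
    have e := IsCyclic.mulAutMulEquiv (Subgroup.zpowers x)
    haveI : Group.IsSolvable (ZMod (Nat.card (Subgroup.zpowers x)))ˣ :=
      Group.isSolvable_of_comm (fun a b => mul_comm a b)
    exact Group.isSolvable_of_isSolvable_injective (f := e.toMonoidHom) e.injective
  rw [Subgroup.mem_center_iff]
  intro g
  have h1 := ZE_hom_trivial_of_perfect hperf (MulAut.conjNormal (H := Subgroup.zpowers x)) g
  have h2 := congrArg (fun φ : MulAut (Subgroup.zpowers x) =>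
    ((φ ⟨x, Subgroup.mem_zpowers x⟩ : Subgroup.zpowers x) : G)) h1
  simp only [MulAut.conjNormal_apply, MulAut.one_apply] at h2
  have h3 : g * x = x * g := by
    calc g * x = g * x * g⁻¹ * g := by group
      _ = x * g := by rw [h2]
  exact h3

/-- (E2) in a nontrivial perfect `PU`-group satisfying (P2), `QSet x` is nonempty for every `x`
of order `3`, and such `x` exist -/
theorem ZE_perfect_has_Q [Nontrivial G] (hU : PU G) (hperf : commutator G = ⊤)
    (hp2 : ∀ x t : G, orderOf x = 3 → orderOf t = 4 →
      t * x * t⁻¹ ∈ Subgroup.zpowers x ∨ (QSet x).Nonempty)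
    (x : G) (hx : orderOf x = 3) : (QSet x).Nonempty := by
  by_contra hne
  have h4 : ∀ t : G, orderOf t = 4 → t ∈ Subgroup.normalizer ((Subgroup.zpowers x : Subgroup G) : Set G) := by
    intro t ht
    have key : ∀ s : G, orderOf s = 4 → ∀ y ∈ Subgroup.zpowers x, s * y * s⁻¹ ∈ Subgroup.zpowers x := by
      intro s hs y hy
      have h := (hp2 x s hx hs).resolve_right hne
      obtain ⟨k, rfl⟩ := Subgroup.mem_zpowers_iff.mp hy
      have : s * x ^ k * s⁻¹ = (s * x * s⁻¹) ^ k := by
        rw [conj_zpow]
      rw [this]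
      exact Subgroup.zpow_mem _ h k
    rw [Subgroup.mem_normalizer_iff]
    intro y
    constructor
    · exact key t ht y
    · intro hy
      have ht' : orderOf t⁻¹ = 4 := by rw [orderOf_inv]; exact ht
      have := key t⁻¹ ht' _ hy
      simpa [mul_assoc] using this
  have htop : Subgroup.normalizer ((Subgroup.zpowers x : Subgroup G) : Set G) = ⊤ := by
    rw [eq_top_iff, ← ZE_N4_eq_top hU hperf]
    exact ZE_N4_le _ h4
  haveI : (Subgroup.zpowers x).Normal := Subgroup.normalizer_eq_top_iff.mp htop
  exact ZE_no_central_three hU hperf x hx (ZE_central_of_normal_zpowers hperf x)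

theorem ZE_exists_three [Nontrivial G] (hU : PU G) (hperf : commutator G = ⊤) :
    ∃ x : G, orderOf x = 3 := by
  haveI : Fact (Nat.Prime 3) := ⟨Nat.prime_three⟩
  exact exists_prime_orderOf_dvd_card' 3 (ZE_three_dvd hU hperf)

end Cfsg.Agent.ZassL
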