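import Mathlib
import Cfsg.Agent.Lib.Zass.E2C

set_option autoImplicit false
set_option linter.style.haveILetI false
set_option linter.unusedVariables false
set_option linter.unusedSectionVars false

namespace Cfsg.Agent.ZassL

open Cfsg.Agent.S3358L

universe u

variable {G : Type u} [Group G] [Finite G]

theorem ZE_inv_of_three {x : G} (hx : orderOf x = 3) : x⁻¹ = x * x := by
  have h3 : x ^ 3 = 1 := by rw [← hx]; exact pow_orderOf_eq_one x
  rw [inv_eq_iff_eq_inv, eq_comm, inv_eq_iff_mul_eq_one, ← h3, pow_succ, pow_two]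

/-- an element of order 3 satisfying the "normalizing" clause of `QSet` lies in the normalizer -/
theorem ZE_mem_normalizer {x : G} (hx : orderOf x = 3) {Q : Subgroup G}
    (hn : ∀ q ∈ Q, x * q * x⁻¹ ∈ Q) : x ∈ Subgroup.normalizer (Q : Set G) := by
  rw [Subgroup.mem_normalizer_iff]
  intro h
  refine ⟨hn h, fun hh => ?_⟩
  have h1 := hn _ (hn _ hh)
  have h2 : x * (x * (x * h * x⁻¹) * x⁻¹) * x⁻¹ = h := by
    have h3 : x ^ 3 = 1 := by rw [← hx]; exact pow_orderOf_eq_one x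
    have : x * (x * (x * h * x⁻¹) * x⁻¹) * x⁻¹ = x ^ 3 * h * (x ^ 3)⁻¹ := by
      rw [pow_succ, pow_two]; group
    rw [this, h3]
    simp
  rwa [h2] at h1

theorem ZE_sup_le_normalizer {x : G} (hx : orderOf x = 3) {Q : Subgroup G}
    (hn : ∀ q ∈ Q, x * q * x⁻¹ ∈ Q) : Q ⊔ Subgroup.zpowers x ≤ Subgroup.normalizer (Q : Set G) := by
  apply sup_le Subgroup.le_normalizer
  rw [Subgroup.zpowers_le]
  exact ZE_mem_normalizer hx hn

theorem ZE_sup_decomp {x : G} (hx : orderOf x = 3) {Q : Subgroup G}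
    (hn : ∀ q ∈ Q, x * q * x⁻¹ ∈ Q) {g : G} (hg : g ∈ Q ⊔ Subgroup.zpowers x) :
    ∃ q ∈ Q, ∃ a ∈ Subgroup.zpowers x, g = q * a := by
  have hle : Subgroup.zpowers x ≤ Subgroup.normalizer (Q : Set G) := by
    rw [Subgroup.zpowers_le]
    exact ZE_mem_normalizer hx hn
  have h := Subgroup.coe_mul_of_right_le_normalizer_left Q (Subgroup.zpowers x) hle
  have hg' : g ∈ ((Q ⊔ Subgroup.zpowers x : Subgroup G) : Set G) := hg
  rw [h] at hg'
  obtain ⟨q, hq, a, ha, rfl⟩ := hg'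
  exact ⟨q, hq, a, ha, rfl⟩

/-- the elements of `zpowers x` for `x` of order 3 -/
theorem ZE_zpowers_three {x : G} (hx : orderOf x = 3) {a : G} (ha : a ∈ Subgroup.zpowers x) :
    a = 1 ∨ a = x ∨ a = x⁻¹ := by
  obtain ⟨k, rfl⟩ := Subgroup.mem_zpowers_iff.mp ha
  rw [← zpow_mod_orderOf, hx]
  have h0 : 0 ≤ k % ((3 : ℕ) : ℤ) := Int.emod_nonneg k (by norm_num)
  have h3 : k % ((3 : ℕ) : ℤ) < 3 := Int.emod_lt_of_pos k (by norm_num)
  have : k % ((3 : ℕ) : ℤ) = 0 ∨ k % ((3 : ℕ) : ℤ) = 1 ∨ k % ((3 : ℕ) : ℤ) = 2 := by omega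
  rcases this with h | h | h
  · left; rw [h, zpow_zero]
  · right; left; rw [h, zpow_one]
  · right; right
    rw [h, ZE_inv_of_three hx]
    exact zpow_two x

/-- `Q ∈ QSet x` is also in `QSet x'` for every `x'` of order 3 in `Q ⊔ ⟨x⟩` -/
theorem ZE_QSet_transfer {x x' : G} (hx : orderOf x = 3) (hx' : orderOf x' = 3)
    {Q : Subgroup G} (hQ : Q ∈ QSet x) (hmem : x' ∈ Q ⊔ Subgroup.zpowers x) : Q ∈ QSet x' := by
  obtain ⟨hcard, hnorm, q₀, hq₀, hne⟩ := hQ
  have hx'N := ZE_sup_le_normalizer hx hnorm hmem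
  refine ⟨hcard, fun q hq => (Subgroup.mem_normalizer_iff.mp hx'N q).mp hq, ?_⟩
  by_contra hcon
  push Not at hcon
  obtain ⟨q, hq, a, ha, rfl⟩ := ZE_sup_decomp hx hnorm hmem
  -- `a r a⁻¹ = q⁻¹ r q` on `Q`
  have h1 : ∀ r ∈ Q, a * r * a⁻¹ = q⁻¹ * r * q := by
    intro r hr
    have := hcon r hr
    have h : a * r * a⁻¹ = q⁻¹ * (q * a * r) * a⁻¹ := by group
    rw [h, this]
    group
  have haN : a ∈ Subgroup.normalizer (Q : Set G) := by
    have : Subgroup.zpowers x ≤ Subgroup.normalizer (Q : Set G) :=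
      le_trans le_sup_right (ZE_sup_le_normalizer hx hnorm)
    exact this ha
  have ha3 : a ^ 3 = 1 := by
    rcases ZE_zpowers_three hx ha with h | h | h
    · rw [h, one_pow]
    · rw [h, ← hx]; exact pow_orderOf_eq_one x
    · rw [h, inv_pow, ← hx, pow_orderOf_eq_one, inv_one]
  have hq8 : q ^ 8 = 1 := by
    have := pow_card_eq_one' (G := Q) (x := ⟨q, hq⟩)
    rw [hcard] at this
    exact congrArg Subtype.val this
  -- iterate
  have h2 : ∀ n : ℕ, ∀ r ∈ Q, a ^ n * r * (a ^ n)⁻¹ = (q ^ n)⁻¹ * r * q ^ n := by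
    intro n
    induction n with
    | zero => intro r hr; simp
    | succ n ih =>
      intro r hr
      have hr' : (q ^ n)⁻¹ * r * q ^ n ∈ Q :=
        Q.mul_mem (Q.mul_mem (Q.inv_mem (Q.pow_mem hq n)) hr) (Q.pow_mem hq n)
      have e1 : a ^ (n + 1) * r * (a ^ (n + 1))⁻¹ = a * (a ^ n * r * (a ^ n)⁻¹) * a⁻¹ := by
        rw [pow_succ']; group
      rw [e1, ih r hr, h1 _ hr', pow_succ]
      group
  have h3 : ∀ r ∈ Q, r = (q ^ 3)⁻¹ * r * q ^ 3 := by
    intro r hr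
    have := h2 3 r hr
    rw [ha3] at this
    simpa using this
  have h9 : ∀ r ∈ Q, r = q⁻¹ * r * q := by
    intro r hr
    have e3 : q ^ 3 * r = r * q ^ 3 := by
      have := h3 r hr
      calc q ^ 3 * r = q ^ 3 * ((q ^ 3)⁻¹ * r * q ^ 3) := by rw [← this]
        _ = r * q ^ 3 := by group
    have e9 : (q ^ 3) ^ 3 * r = r * (q ^ 3) ^ 3 := by
      have hc : Commute (q ^ 3) r := e3
      exact (hc.pow_left 3)
    have hq9 : (q ^ 3) ^ 3 = q := by
      rw [← pow_mul]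
      calc q ^ (3 * 3) = q ^ 8 * q := by rw [← pow_succ]
        _ = q := by rw [hq8, one_mul]
    rw [hq9] at e9
    calc r = q⁻¹ * (q * r) := by group
      _ = q⁻¹ * r * q := by rw [e9]; group
  have hac : ∀ r ∈ Q, a * r = r * a := by
    intro r hr
    have := h1 r hr
    rw [← h9 r hr] at this
    calc a * r = a * r * a⁻¹ * a := by group
      _ = r * a := by rw [this]
  rcases ZE_zpowers_three hx ha with h | h | h
  · -- `x' = q ∈ Q` has order 3
    rw [h, mul_one] at hx'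
    have : orderOf q ∣ 8 := orderOf_dvd_of_pow_eq_one hq8
    rw [hx'] at this
    omega
  · rw [h] at hac
    exact hne (hac q₀ hq₀)
  · rw [h] at hac
    apply hne
    have := hac q₀ hq₀
    calc x * q₀ = x * (q₀ * x⁻¹) * x := by group
      _ = x * (x⁻¹ * q₀) * x := by rw [this]
      _ = q₀ * x := by group

end Cfsg.Agent.ZassL
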