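import Mathlib
import Cfsg.Agent.Lib.Zass.E3A
import Cfsg.Agent.Lib.S3358.QXc1
import Cfsg.Agent.S3378

set_option autoImplicit false
set_option linter.style.haveILetI false
set_option linter.unusedVariables false
set_option linter.unusedSectionVars false

namespace Cfsg.Agent.ZassL

open Cfsg.Agent.S3358L

universe u

variable {G : Type u} [Group G] [Finite G]

/-- conjugation transports `QSet` -/
theorem ZE_QSet_conj {x : G} {Q : Subgroup G} (hQ : Q ∈ QSet x) (g : G) :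
    Q.map (MulAut.conj g).toMonoidHom ∈ QSet (g * x * g⁻¹) := by
  obtain ⟨hcard, hnorm, q₀, hq₀, hne⟩ := hQ
  refine ⟨?_, ?_, ?_⟩
  · rw [Subgroup.card_map_of_injective (MulAut.conj g).injective, hcard]
  · rintro _ ⟨q, hq, rfl⟩
    refine ⟨x * q * x⁻¹, hnorm q hq, ?_⟩
    simp only [MulEquiv.coe_toMonoidHom, MulAut.conj_apply]
    group
  · refine ⟨g * q₀ * g⁻¹, ⟨q₀, hq₀, by simp [MulAut.conj_apply]⟩, ?_⟩
    intro h
    apply hne
    have : g * (x * q₀) * g⁻¹ = g * (q₀ * x) * g⁻¹ := by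
      calc g * (x * q₀) * g⁻¹ = g * x * g⁻¹ * (g * q₀ * g⁻¹) := by group
        _ = g * q₀ * g⁻¹ * (g * x * g⁻¹) := h
        _ = g * (q₀ * x) * g⁻¹ := by group
    exact mul_left_cancel (mul_right_cancel this)

theorem ZE_perm4_solvable : Group.IsSolvable (Equiv.Perm (Fin 4)) := by
  have hc : Nat.card (Equiv.Perm (Fin 4)) = 24 := by
    rw [Nat.card_eq_fintype_card, Fintype.card_perm, Fintype.card_fin]
    rfl
  apply Cfsg.Agent.S3378.solvable_of_card_dvd_120 <;> rw [hc] <;> norm_num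

/-- the automorphism group of a cyclic group or of a quaternion group of order 8 is solvable -/
theorem ZE_mulAut_solvable (hU : PU G) (Q : Subgroup G) (hcard : Nat.card Q = 8) :
    Group.IsSolvable (MulAut Q) := by
  haveI : Fact (Nat.Prime 2) := ⟨Nat.prime_two⟩
  have hp : IsPGroup 2 Q := IsPGroup.of_card (n := 3) (by rw [hcard]; norm_num)
  rcases U1_pgroup hU 2 Q hp with h | ⟨_, n, ⟨e⟩⟩
  · haveI := h
    have e := IsCyclic.mulAutMulEquiv Q
    haveI : Group.IsSolvable (ZMod (Nat.card Q))ˣ :=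
      Group.isSolvable_of_comm (fun a b => mul_comm a b)
    exact Group.isSolvable_of_isSolvable_injective (f := e.toMonoidHom) e.injective
  · have hn : n = 1 := by
      have h1 : Nat.card Q = Nat.card (QuaternionGroup (2 ^ n)) := Nat.card_congr e.toEquiv
      rw [hcard, Nat.card_eq_fintype_card, QuaternionGroup.card] at h1
      have h2 : 2 ^ n = 2 ^ 1 := by omega
      exact Nat.pow_right_injective (le_refl 2) h2
    subst hn
    have e' : Q ≃* QuaternionGroup 2 := e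
    obtain ⟨Φ, hΦ⟩ := QXc1_exists_embedding
    haveI := ZE_perm4_solvable
    let f : MulAut Q →* Equiv.Perm (Fin 4) := Φ.comp (MulAut.congr e').toMonoidHom
    have hf : Function.Injective f := hΦ.comp (MulAut.congr e').injective
    exact Group.isSolvable_of_isSolvable_injective hf

/-- (E3) -/
theorem ZE_exists_two [Nontrivial G] (hU : PU G) (hperf : commutator G = ⊤)
    (hp1 : ∀ x y : G, orderOf x = 3 → orderOf y = 3 →
      y ∈ Subgroup.zpowers x ∨ (∃ Q ∈ QSet x, y ∈ Q ⊔ Subgroup.zpowers x) ∨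
      (Nat.card (Subgroup.closure {x, y}) = 120 ∧ ∃ Q₁ Q₂ : Subgroup G, Q₁ ≠ Q₂ ∧
        Q₁ ∈ QSet x ∧ Q₂ ∈ QSet x ∧ Q₁ ≤ Subgroup.closure {x, y} ∧ Q₂ ≤ Subgroup.closure {x, y}))
    (hp2 : ∀ x t : G, orderOf x = 3 → orderOf t = 4 →
      t * x * t⁻¹ ∈ Subgroup.zpowers x ∨ (QSet x).Nonempty) :
    ∃ x : G, orderOf x = 3 ∧ ∃ Q₁ Q₂ : Subgroup G, Q₁ ≠ Q₂ ∧ Q₁ ∈ QSet x ∧ Q₂ ∈ QSet x := by
  by_contra hcon
  have huniq : ∀ x : G, orderOf x = 3 → ∀ Q₁ Q₂ : Subgroup G, Q₁ ∈ QSet x → Q₂ ∈ QSet x →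
      Q₁ = Q₂ := by
    intro x hx Q₁ Q₂ h1 h2
    by_contra hne
    exact hcon ⟨x, hx, Q₁, Q₂, hne, h1, h2⟩
  obtain ⟨x, hx⟩ := ZE_exists_three hU hperf
  obtain ⟨Q₀, hQ₀⟩ := ZE_perfect_has_Q hU hperf hp2 x hx
  have hnormal : Q₀.Normal := by
    constructor
    intro n hn g
    have hx' : orderOf (g * x * g⁻¹) = 3 := by
      have h := MulEquiv.orderOf_eq (MulAut.conj g) x
      rw [MulAut.conj_apply] at h
      rw [h, hx]
    have h1 : Q₀.map (MulAut.conj g).toMonoidHom ∈ QSet (g * x * g⁻¹) := ZE_QSet_conj hQ₀ g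
    have h2 : Q₀ ∈ QSet (g * x * g⁻¹) := by
      rcases hp1 x (g * x * g⁻¹) hx hx' with h | ⟨Q, hQ, h⟩ | ⟨_, Q₁, Q₂, hne, hq1, hq2, _⟩
      · exact ZE_QSet_transfer hx hx' hQ₀ ((le_sup_right : _ ≤ Q₀ ⊔ Subgroup.zpowers x) h)
      · have : Q = Q₀ := huniq x hx Q Q₀ hQ hQ₀
        subst this
        exact ZE_QSet_transfer hx hx' hQ h
      · exact absurd (huniq x hx Q₁ Q₂ hq1 hq2) hne
    have h3 := huniq _ hx' _ _ h1 h2
    rw [← h3]
    exact ⟨n, hn, by simp [MulAut.conj_apply]⟩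
  haveI := hnormal
  haveI := ZE_mulAut_solvable hU Q₀ hQ₀.1
  obtain ⟨_, _, q₀, hq₀, hne⟩ := hQ₀
  apply hne
  have h1 := ZE_hom_trivial_of_perfect hperf (MulAut.conjNormal (H := Q₀)) x
  have h2 := congrArg (fun φ : MulAut Q₀ => ((φ ⟨q₀, hq₀⟩ : Q₀) : G)) h1
  simp only [MulAut.conjNormal_apply, MulAut.one_apply] at h2
  calc x * q₀ = x * q₀ * x⁻¹ * x := by group
    _ = q₀ * x := by rw [h2]

end Cfsg.Agent.ZassL
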