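import Mathlib
import Cfsg.Agent.Lib.Zass.StructD

set_option autoImplicit false
set_option linter.style.haveILetI false
set_option linter.unusedVariables false
set_option linter.unusedSectionVars false

/-! # Zassenhaus cluster, slice ZS (part E): the structure of non-solvable groups with a free
representation, assuming Theorem Z (perfect free groups are `SL(2,5)`) -/

namespace Cfsg.Agent.ZassL

open Cfsg.Agent.S3358L

universe u

local notation "SL25" => Matrix.SpecialLinearGroup (Fin 2) (ZMod 5)

/-- the statement of Theorem Z in universe `u` -/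
def TheoremZ : Prop :=
  ∀ (R : Type u) [Group R] [Finite R], HasFreeRep R → commutator R = ⊤ → Nontrivial R →
    Nonempty (R ≃* SL25)

variable {G : Type u} [Group G] [Finite G]

/-- Theorem Z ⇒ the conclusion of S3359 for non-solvable groups with a free representation. -/
theorem ZS_structure (hZ : TheoremZ.{u}) (hU : PU G) (hfree : HasFreeRep G)
    (hns : ¬ Group.IsSolvable G) :
    ∃ G₀ : Subgroup G, G₀.Normal ∧ (G₀.index = 1 ∨ G₀.index = 2) ∧
      ∃ S M : Subgroup G, S ⊔ M = G₀ ∧ S ⊓ M = ⊥ ∧ (∀ s ∈ S, ∀ x ∈ M, s * x = x * s) ∧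
        Nonempty (S ≃* SL25) ∧
        (∀ (p : ℕ) [Fact p.Prime] (P : Sylow p M), IsCyclic P) ∧ (Nat.card M).Coprime 30 := by
  have hSperf : commutator (pcore G) = ⊤ := commutator_eq_top_of_perfect pcore_perfect
  haveI : Nontrivial (pcore G) := (Subgroup.nontrivial_iff_ne_bot _).mpr (pcore_ne_bot hns)
  obtain ⟨e⟩ := hZ (pcore G) (ZS_hasFreeRep_subgroup (pcore G) hfree) hSperf inferInstance
  obtain ⟨M, hMC, hinf, hsup, hcyc, hcop, hidx⟩ := ZS_struct_of_normal hU (pcore G) e hSperf
  refine ⟨pcore G ⊔ M, ?_, hidx, pcore G, M, rfl, hinf, ?_, ⟨e⟩, hcyc, hcop⟩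
  · rw [hsup]
    infer_instance
  · intro s hs x hx
    exact (Subgroup.mem_centralizer_iff.mp (hMC hx)) s hs

end Cfsg.Agent.ZassL
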