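import Mathlib
import Cfsg.Agent.Lib.Zass.E3B
import Cfsg.Agent.Lib.Zass.StructE

set_option autoImplicit false
set_option linter.style.haveILetI false
set_option linter.unusedVariables false
set_option linter.unusedSectionVars false

namespace Cfsg.Agent.ZassL

open Cfsg.Agent.S3358L

universe u

local notation "SL25" => Matrix.SpecialLinearGroup (Fin 2) (ZMod 5)

theorem ZE_commutator_eq_top_of_equiv {H K : Type*} [Group H] [Group K] (e : H ≃* K)
    (hK : commutator K = ⊤) : commutator H = ⊤ := by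
  have h1 : (commutator K).map e.symm.toMonoidHom = commutator H := by
    rw [commutator_def, Subgroup.map_commutator, commutator_def]
    have : (⊤ : Subgroup K).map e.symm.toMonoidHom = ⊤ := by
      rw [← MonoidHom.range_eq_map, MonoidHom.range_eq_top]
      exact e.symm.surjective
    rw [this]
  rw [← h1, hK, ← MonoidHom.range_eq_map, MonoidHom.range_eq_top]
  exact e.symm.surjective

/-- the black boxes of the Zassenhaus cluster for one group `G` -/
structure ZAx (G : Type u) [Group G] : Prop where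
  pu : PU G
  p1 : ∀ x y : G, orderOf x = 3 → orderOf y = 3 →
      y ∈ Subgroup.zpowers x ∨ (∃ Q ∈ QSet x, y ∈ Q ⊔ Subgroup.zpowers x) ∨
      (Nat.card (Subgroup.closure {x, y}) = 120 ∧ ∃ Q₁ Q₂ : Subgroup G, Q₁ ≠ Q₂ ∧
        Q₁ ∈ QSet x ∧ Q₂ ∈ QSet x ∧ Q₁ ≤ Subgroup.closure {x, y} ∧ Q₂ ≤ Subgroup.closure {x, y})
  p2 : ∀ x t : G, orderOf x = 3 → orderOf t = 4 →
      t * x * t⁻¹ ∈ Subgroup.zpowers x ∨ (QSet x).Nonempty
  r1 : ∀ x : G, orderOf x = 3 → ∀ Q₁ Q₂ Q₃ : Subgroup G, Q₁ ∈ QSet x → Q₂ ∈ QSet x →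
      Q₃ ∈ QSet x → Q₁ = Q₂ ∨ Q₁ = Q₃ ∨ Q₂ = Q₃
  e1 : ∀ x : G, orderOf x = 3 → ∀ Q₁ Q₂ : Subgroup G, Q₁ ∈ QSet x → Q₂ ∈ QSet x → Q₁ ≠ Q₂ →
      Nat.card ↥(Q₁ ⊔ Q₂ ⊔ Subgroup.zpowers x) = 120 ∧
        Nonempty (↥(Q₁ ⊔ Q₂ ⊔ Subgroup.zpowers x) ≃* SL25)
  f2 : ∀ x : G, orderOf x = 3 → ∀ Q ∈ QSet x, ∃ u : G,
      Q ⊔ Subgroup.zpowers x = Subgroup.closure {x, u * x * u⁻¹}

variable {G : Type u} [Group G] [Finite G]

/-- (E4) -/
theorem ZE_normal_H (hA : ZAx G) {x : G} (hx : orderOf x = 3) {Q₁ Q₂ : Subgroup G}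
    (h₁ : Q₁ ∈ QSet x) (h₂ : Q₂ ∈ QSet x) (hne : Q₁ ≠ Q₂) :
    (Q₁ ⊔ Q₂ ⊔ Subgroup.zpowers x).Normal := by
  obtain ⟨hcard, _⟩ := hA.e1 x hx Q₁ Q₂ h₁ h₂ hne
  set H := Q₁ ⊔ Q₂ ⊔ Subgroup.zpowers x with hH
  have hxH : x ∈ H := (le_sup_right : Subgroup.zpowers x ≤ H) (Subgroup.mem_zpowers x)
  have hQ1H : Q₁ ≤ H := le_trans le_sup_left le_sup_left
  have hQ2H : Q₂ ≤ H := le_trans le_sup_right le_sup_left
  have hzH : Subgroup.zpowers x ≤ H := le_sup_right
  -- `H ≤ normalClosure {x}`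
  have hle : H ≤ Subgroup.normalClosure {x} := by
    have hxN : x ∈ Subgroup.normalClosure ({x} : Set G) :=
      Subgroup.subset_normalClosure (Set.mem_singleton x)
    have key : ∀ Q ∈ QSet x, Q ⊔ Subgroup.zpowers x ≤ Subgroup.normalClosure {x} := by
      intro Q hQ
      obtain ⟨u, hu⟩ := hA.f2 x hx Q hQ
      rw [hu, Subgroup.closure_le]
      intro g hg
      rcases hg with rfl | hg
      · exact hxN
      · rw [Set.mem_singleton_iff] at hg
        rw [hg]
        exact (Subgroup.normalClosure_normal (s := ({x} : Set G))).conj_mem x hxN u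
    have h1 := key Q₁ h₁
    have h2 := key Q₂ h₂
    rw [hH]
    exact sup_le (sup_le (le_trans le_sup_left h1) (le_trans le_sup_left h2))
      (le_trans le_sup_right h1)
  -- every conjugate of `x` lies in `H`
  have hconj : ∀ g : G, g * x * g⁻¹ ∈ H := by
    intro g
    have hx' : orderOf (g * x * g⁻¹) = 3 := by
      have h := MulEquiv.orderOf_eq (MulAut.conj g) x
      rw [MulAut.conj_apply] at h
      rw [h, hx]
    rcases hA.p1 x (g * x * g⁻¹) hx hx' with h | ⟨Q, hQ, h⟩ | ⟨hc, R₁, R₂, hRne, hR1, hR2, hR1le, hR2le⟩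
    · exact hzH h
    · have hQH : Q ≤ H := by
        rcases hA.r1 x hx Q₁ Q₂ Q h₁ h₂ hQ with h' | h' | h'
        · exact absurd h' hne
        · rw [← h']; exact hQ1H
        · rw [← h']; exact hQ2H
      exact (sup_le hQH hzH) h
    · set C := Subgroup.closure {x, g * x * g⁻¹} with hC
      have hmemR : ∀ R ∈ QSet x, R = Q₁ ∨ R = Q₂ := by
        intro R hR
        rcases hA.r1 x hx Q₁ Q₂ R h₁ h₂ hR with h' | h' | h'
        · exact absurd h' hne
        · left; exact h'.symm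
        · right; exact h'.symm
      have hQ12 : Q₁ ≤ C ∧ Q₂ ≤ C := by
        rcases hmemR R₁ hR1 with a | a <;> rcases hmemR R₂ hR2 with b | b
        · exact absurd (a.trans b.symm) hRne
        · exact ⟨a ▸ hR1le, b ▸ hR2le⟩
        · exact ⟨b ▸ hR2le, a ▸ hR1le⟩
        · exact absurd (a.trans b.symm) hRne
      have hxC : x ∈ C := Subgroup.subset_closure (by simp)
      have hHC : H ≤ C := by
        rw [hH]
        exact sup_le (sup_le hQ12.1 hQ12.2) (by rw [Subgroup.zpowers_le]; exact hxC)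
      have heq : H = C := by
        apply Subgroup.eq_of_le_of_card_ge hHC
        rw [hcard, hc]
      rw [heq]
      exact Subgroup.subset_closure (by simp)
  have hge : Subgroup.normalClosure {x} ≤ H := by
    unfold Subgroup.normalClosure
    rw [Subgroup.closure_le]
    intro y hy
    rw [Group.mem_conjugatesOfSet_iff] at hy
    obtain ⟨a, ha, hc⟩ := hy
    rw [Set.mem_singleton_iff] at ha
    subst ha
    rw [isConj_iff] at hc
    obtain ⟨c, rfl⟩ := hc
    exact hconj c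
  have : H = Subgroup.normalClosure {x} := le_antisymm hle hge
  rw [this]
  exact Subgroup.normalClosure_normal

/-- **Theorem Z** from the black boxes -/
theorem ZE_theoremZ (hA : ZAx G) (hperf : commutator G = ⊤) [Nontrivial G] :
    Nonempty (G ≃* SL25) := by
  obtain ⟨x, hx, Q₁, Q₂, hne, h₁, h₂⟩ := ZE_exists_two hA.pu hperf hA.p1 hA.p2
  obtain ⟨hcard, ⟨e⟩⟩ := hA.e1 x hx Q₁ Q₂ h₁ h₂ hne
  haveI := ZE_normal_H hA hx h₁ h₂ hne
  have hH : commutator ↥(Q₁ ⊔ Q₂ ⊔ Subgroup.zpowers x) = ⊤ :=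
    ZE_commutator_eq_top_of_equiv e Cfsg.Agent.S3378.sl_perfect
  have htop := ZE_eq_top_of_normal hA.pu hperf (Q₁ ⊔ Q₂ ⊔ Subgroup.zpowers x) e hH
  exact ⟨(Subgroup.topEquiv.symm.trans (MulEquiv.subgroupCongr htop.symm)).trans e⟩

end Cfsg.Agent.ZassL
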