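import Mathlib
import Cfsg.Agent.Lib.Zass.Defs
import Cfsg.Agent.Lib.S4292.PA
import Cfsg.Agent.Lib.S4292.PB
import Cfsg.Agent.Lib.S4292.PC3
import Cfsg.Agent.Lib.S4292.PD1
import Cfsg.Agent.Lib.S3357.Q1
import Cfsg.Agent.Lib.S3358.Defs
import Cfsg.Agent.Lib.Helper8.FpfPairB

/-! # Zassenhaus cluster, slice ZA: basic facts on free representations (helper8) -/

set_option autoImplicit false

namespace Cfsg.Agent.ZassL

universe u

open Cfsg.Agent.S4292L Cfsg.Agent.S3357L

/-- a Frobenius complement has a free complex representation (from the integral representation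
built for S3357) -/
theorem exists_free_of_isFC {G : Type u} [Group G] [Finite G] (h : IsFC G) : HasFreeRep G := by
  classical
  obtain ⟨q, hq, hqG, hmod⟩ := PA_exists_fpfMod_of_isFC h
  have : Fact q.Prime := ⟨hq⟩
  obtain ⟨d, hd, hmat⟩ := PB_fpfMat_of_fpfMod hmod
  have hlift : ∀ k, 1 ≤ k → HasFpfMat G (ZMod (q ^ k)) d :=
    fun k hk => PC_fpfMat_lift hqG hmat k hk
  have hchar : ∀ D : ℤ, (D : Lam G) = 0 → D = 0 :=
    fun D hD => PD1_intCast_eq_zero hq hd hlift D hD
  obtain ⟨r, σ, hr, hσ⟩ := Q1_exists_int_rep hchar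
  let ρ₀ : G →* Matrix (Fin r) (Fin r) ℂ :=
    ((Int.castRingHom ℂ).mapMatrix :
      Matrix (Fin r) (Fin r) ℤ →+* Matrix (Fin r) (Fin r) ℂ).toMonoidHom.comp σ
  have hρ₀sum : ∀ a : G, a ≠ 1 → ∑ i ∈ Finset.range (orderOf a), ρ₀ (a ^ i) = 0 := by
    intro a ha
    have h1 : ∀ x : G, ρ₀ x = (Int.castRingHom ℂ).mapMatrix (σ x) := fun _ => rfl
    simp only [h1]
    rw [← map_sum, hσ a ha, map_zero]
  have hfpf₀ : ∀ a : G, a ≠ 1 → ∀ v : Fin r → ℂ, (ρ₀ a).mulVec v = v → v = 0 := by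
    intro a ha v hv
    have hpow : ∀ i : ℕ, (ρ₀ (a ^ i)).mulVec v = v := by
      intro i
      induction i with
      | zero => simp
      | succ i ih => rw [pow_succ, map_mul, ← Matrix.mulVec_mulVec, hv, ih]
    have h1 : (∑ i ∈ Finset.range (orderOf a), ρ₀ (a ^ i)).mulVec v = (orderOf a) • v := by
      rw [Matrix.sum_mulVec, Finset.sum_congr rfl (fun i _ => hpow i), Finset.sum_const,
        Finset.card_range]
    rw [hρ₀sum a ha, Matrix.zero_mulVec] at h1
    have ho : orderOf a ≠ 0 := (orderOf_pos a).ne'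
    exact (smul_eq_zero.mp h1.symm).resolve_left ho
  refine ⟨r, ρ₀.toHomUnits, hr, ?_⟩
  intro g hg v hv
  exact hfpf₀ g hg v hv

section general

variable {G : Type u} [Group G] {n : ℕ} (ρ : G →* Matrix.GeneralLinearGroup (Fin n) ℂ)

/-- the representation as a homomorphism into `Module.End ℂ (Fin n → ℂ)` -/
noncomputable def endHom : G →* Module.End ℂ (Fin n → ℂ) :=
  ((Matrix.toLinAlgEquiv' : Matrix (Fin n) (Fin n) ℂ ≃ₐ[ℂ] _) :
      Matrix (Fin n) (Fin n) ℂ →* Module.End ℂ (Fin n → ℂ)).comp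
    ((Units.coeHom (Matrix (Fin n) (Fin n) ℂ)).comp ρ)

theorem endHom_apply (g : G) (v : Fin n → ℂ) : endHom ρ g v = (mat ρ g).mulVec v := by
  show Matrix.toLinAlgEquiv' (mat ρ g) v = _
  rw [Matrix.toLinAlgEquiv'_apply]

theorem endHom_eq (g : G) : endHom ρ g = Matrix.toLinAlgEquiv' (mat ρ g) := rfl

variable {ρ}

theorem IsFree.endHom_fpf (hρ : IsFree ρ) :
    ∀ g : G, g ≠ 1 → ∀ v : Fin n → ℂ, endHom ρ g v = v → v = 0 := by
  intro g hg v hv
  rw [endHom_apply] at hv
  exact hρ g hg v hv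

/-- an identity between endomorphisms transfers back to matrices -/
theorem mat_eq_of_endHom {A B : Matrix (Fin n) (Fin n) ℂ}
    (h : (Matrix.toLinAlgEquiv' A : Module.End ℂ (Fin n → ℂ)) = Matrix.toLinAlgEquiv' B) : A = B :=
  Matrix.toLinAlgEquiv'.injective h

theorem IsFree.isUnit_sub_one (hρ : IsFree ρ) {g : G} (hg : g ≠ 1) : IsUnit (mat ρ g - 1) := by
  rw [← Matrix.mulVec_injective_iff_isUnit]
  intro v w hvw
  have h1 : (mat ρ g).mulVec (v - w) = v - w := by
    have h2 : (mat ρ g - 1).mulVec (v - w) = 0 := by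
      rw [Matrix.mulVec_sub, hvw, sub_self]
    rw [Matrix.sub_mulVec, Matrix.one_mulVec] at h2
    exact sub_eq_zero.mp h2
  exact sub_eq_zero.mp (hρ g hg _ h1)

theorem IsFree.rho_injective (hρ : IsFree ρ) (hn : 0 < n) : Function.Injective ρ := by
  rw [injective_iff_map_eq_one]
  intro g hg
  by_contra hne
  let v : Fin n → ℂ := fun _ => 1
  have hv : (mat ρ g).mulVec v = v := by
    have : mat ρ g = 1 := by
      show ((ρ g : Matrix.GeneralLinearGroup (Fin n) ℂ) : Matrix (Fin n) (Fin n) ℂ) = 1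
      rw [hg]; rfl
    rw [this, Matrix.one_mulVec]
  have := hρ g hne v hv
  have h1 := congrFun this ⟨0, hn⟩
  simp [v] at h1

theorem IsFree.comp (hρ : IsFree ρ) {H : Type u} [Group H] (f : H →* G)
    (hf : Function.Injective f) : IsFree (ρ.comp f) := by
  intro h hh v hv
  have hne : f h ≠ 1 := by
    intro h1
    apply hh
    apply hf
    rw [h1, map_one]
  exact hρ (f h) hne v hv

theorem IsFree.subgroup (hρ : IsFree ρ) (B : Subgroup G) : IsFree (ρ.comp B.subtype) :=
  hρ.comp B.subtype B.subtype_injective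

end general

end Cfsg.Agent.ZassL
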