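import Mathlib
import Cfsg.Agent.Lib.Zass.Basic

/-! # Zassenhaus cluster, slice ZA(3): cyclotomic identities for a free representation (helper8) -/

set_option autoImplicit false

namespace Cfsg.Agent.ZassL

universe u

variable {G : Type u} [Group G] {n : ℕ} {ρ : G →* Matrix.GeneralLinearGroup (Fin n) ℂ}

theorem mat_one : mat ρ (1 : G) = 1 := by
  show ((ρ 1 : Matrix.GeneralLinearGroup (Fin n) ℂ) : Matrix (Fin n) (Fin n) ℂ) = 1
  rw [map_one]; rfl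

theorem mat_mul (g h : G) : mat ρ (g * h) = mat ρ g * mat ρ h := by
  show ((ρ (g * h) : Matrix.GeneralLinearGroup (Fin n) ℂ) : Matrix (Fin n) (Fin n) ℂ) = _
  rw [map_mul]; rfl

theorem mat_pow (g : G) (k : ℕ) : mat ρ (g ^ k) = mat ρ g ^ k := by
  induction k with
  | zero => rw [pow_zero, pow_zero, mat_one]
  | succ k ih => rw [pow_succ, pow_succ, mat_mul, ih]

theorem mat_mul_inv (g : G) : mat ρ g * mat ρ g⁻¹ = 1 := by
  rw [← mat_mul, mul_inv_cancel, mat_one]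

theorem mat_inv_mul (g : G) : mat ρ g⁻¹ * mat ρ g = 1 := by
  rw [← mat_mul, inv_mul_cancel, mat_one]

theorem mat_inv (g : G) : mat ρ g⁻¹ = (mat ρ g)⁻¹ :=
  (Matrix.inv_eq_left_inv (mat_inv_mul g)).symm

/-- cancellation of `ρ g - 1` for `g ≠ 1` -/
theorem IsFree.cancel (hρ : IsFree ρ) {g : G} (hg : g ≠ 1) {B : Matrix (Fin n) (Fin n) ℂ}
    (h : (mat ρ g - 1) * B = 0) : B = 0 :=
  (hρ.isUnit_sub_one hg).mul_right_eq_zero.mp h

theorem ne_one_of_orderOf {g : G} {k : ℕ} (hk : orderOf g = k) (h1 : k ≠ 1) : g ≠ 1 := by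
  rintro rfl
  rw [orderOf_one] at hk
  exact h1 hk.symm

/-- order two: `ρ u = -1` -/
theorem IsFree.mat_order_two (hρ : IsFree ρ) {u : G} (hu : orderOf u = 2) : mat ρ u = -1 := by
  have hu1 : u ≠ 1 := ne_one_of_orderOf hu (by norm_num)
  have hsq : mat ρ u ^ 2 = 1 := by rw [← mat_pow, ← hu, pow_orderOf_eq_one, mat_one]
  have h : (mat ρ u - 1) * (mat ρ u + 1) = 0 := by
    have : (mat ρ u - 1) * (mat ρ u + 1) = mat ρ u ^ 2 - 1 := by noncomm_ring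
    rw [this, hsq, sub_self]
  exact eq_neg_of_add_eq_zero_left (hρ.cancel hu1 h)

/-- order three: `M² + M + 1 = 0` -/
theorem IsFree.mat_order_three (hρ : IsFree ρ) {x : G} (hx : orderOf x = 3) :
    mat ρ x ^ 2 + mat ρ x + 1 = 0 := by
  have hx1 : x ≠ 1 := ne_one_of_orderOf hx (by norm_num)
  have hcube : mat ρ x ^ 3 = 1 := by rw [← mat_pow, ← hx, pow_orderOf_eq_one, mat_one]
  have h : (mat ρ x - 1) * (mat ρ x ^ 2 + mat ρ x + 1) = 0 := by
    have : (mat ρ x - 1) * (mat ρ x ^ 2 + mat ρ x + 1) = mat ρ x ^ 3 - 1 := by noncomm_ring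
    rw [this, hcube, sub_self]
  exact hρ.cancel hx1 h

theorem IsFree.mat_order_three' (hρ : IsFree ρ) {x : G} (hx : orderOf x = 3) :
    mat ρ x * mat ρ x + mat ρ x + 1 = 0 := by
  have := hρ.mat_order_three hx
  rwa [sq] at this

/-- order three: `ρ x⁻¹ = -1 - ρ x` -/
theorem IsFree.mat_inv_order_three (hρ : IsFree ρ) {x : G} (hx : orderOf x = 3) :
    mat ρ x⁻¹ = -1 - mat ρ x := by
  have h3 := hρ.mat_order_three' hx
  have h1 : mat ρ x⁻¹ * (mat ρ x * mat ρ x + mat ρ x + 1) = 0 := by rw [h3, mul_zero]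
  have h2 : mat ρ x⁻¹ * (mat ρ x * mat ρ x + mat ρ x + 1) = mat ρ x + 1 + mat ρ x⁻¹ := by
    have : mat ρ x⁻¹ * (mat ρ x * mat ρ x + mat ρ x + 1)
        = (mat ρ x⁻¹ * mat ρ x) * mat ρ x + mat ρ x⁻¹ * mat ρ x + mat ρ x⁻¹ := by
      noncomm_ring
    rw [this, mat_inv_mul, one_mul]
  rw [h2] at h1
  have : mat ρ x⁻¹ = -(mat ρ x + 1) := eq_neg_of_add_eq_zero_right h1
  rw [this]; abel

/-- order four: `M² = -1` -/
theorem IsFree.mat_order_four (hρ : IsFree ρ) {t : G} (ht : orderOf t = 4) :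
    mat ρ t ^ 2 = -1 := by
  have h2 : orderOf (t ^ 2) = 2 := by
    rw [orderOf_pow' t (by norm_num), ht]; norm_num
  rw [← mat_pow]
  exact hρ.mat_order_two h2

theorem IsFree.mat_order_four' (hρ : IsFree ρ) {t : G} (ht : orderOf t = 4) :
    mat ρ t * mat ρ t = -1 := by
  have := hρ.mat_order_four ht
  rwa [sq] at this

/-- order four: `ρ t⁻¹ = -ρ t` -/
theorem IsFree.mat_inv_order_four (hρ : IsFree ρ) {t : G} (ht : orderOf t = 4) :
    mat ρ t⁻¹ = -mat ρ t := by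
  have h4 := hρ.mat_order_four' ht
  have h1 : mat ρ t⁻¹ * (mat ρ t * mat ρ t) = -mat ρ t⁻¹ := by rw [h4]; simp
  rw [← mul_assoc, mat_inv_mul, one_mul] at h1
  rw [h1, neg_neg]

/-- order six: `M² - M + 1 = 0` -/
theorem IsFree.mat_order_six (hρ : IsFree ρ) {g : G} (hg : orderOf g = 6) :
    mat ρ g ^ 2 - mat ρ g + 1 = 0 := by
  have h3 : orderOf (g ^ 3) = 2 := by rw [orderOf_pow' g (by norm_num), hg]; norm_num
  have h4 : orderOf (g ^ 4) = 3 := by rw [orderOf_pow' g (by norm_num), hg]; norm_num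
  have e3 : mat ρ g ^ 3 = -1 := by rw [← mat_pow]; exact hρ.mat_order_two h3
  have e4 : mat ρ (g ^ 4) = -mat ρ g := by
    rw [mat_pow]
    have : mat ρ g ^ 4 = mat ρ g ^ 3 * mat ρ g := by rw [← pow_succ]
    rw [this, e3]; simp
  have := hρ.mat_order_three h4
  rw [e4] at this
  rw [← this]
  noncomm_ring

theorem IsFree.mat_order_six' (hρ : IsFree ρ) {g : G} (hg : orderOf g = 6) :
    mat ρ g * mat ρ g - mat ρ g + 1 = 0 := by
  have := hρ.mat_order_six hg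
  rwa [sq] at this

/-- order five: `T² + T - 1 = 0` for `T = M + M⁻¹` -/
theorem IsFree.mat_order_five (hρ : IsFree ρ) {g : G} (hg : orderOf g = 5) :
    (mat ρ g + mat ρ g⁻¹) ^ 2 + (mat ρ g + mat ρ g⁻¹) - 1 = 0 := by
  have hg1 : g ≠ 1 := ne_one_of_orderOf hg (by norm_num)
  have h5 : mat ρ g ^ 5 = 1 := by rw [← mat_pow, ← hg, pow_orderOf_eq_one, mat_one]
  have hS : mat ρ g ^ 4 + mat ρ g ^ 3 + mat ρ g ^ 2 + mat ρ g + 1 = 0 := by
    apply hρ.cancel hg1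
    have : (mat ρ g - 1) * (mat ρ g ^ 4 + mat ρ g ^ 3 + mat ρ g ^ 2 + mat ρ g + 1)
        = mat ρ g ^ 5 - 1 := by noncomm_ring
    rw [this, h5, sub_self]
  have hinv : mat ρ g⁻¹ = mat ρ g ^ 4 := by
    have : g⁻¹ = g ^ 4 := by
      have h5g : g ^ 5 = 1 := by rw [← hg, pow_orderOf_eq_one]
      have h5' : g * g ^ 4 = 1 := by rw [← pow_succ']; exact h5g
      exact inv_eq_of_mul_eq_one_right h5'
    rw [this, mat_pow]
  rw [hinv]
  have e8 : mat ρ g ^ 8 = mat ρ g ^ 3 := by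
    have : mat ρ g ^ 8 = mat ρ g ^ 5 * mat ρ g ^ 3 := by rw [← pow_add]
    rw [this, h5, one_mul]
  have : (mat ρ g + mat ρ g ^ 4) ^ 2 + (mat ρ g + mat ρ g ^ 4) - 1
      = mat ρ g ^ 8 + 2 * mat ρ g ^ 5 + mat ρ g ^ 4 + mat ρ g ^ 2 + mat ρ g - 1 := by
    noncomm_ring
  rw [this, e8, h5, ← hS]
  noncomm_ring

/-- order ten: `T² - T - 1 = 0` for `T = M + M⁻¹` -/
theorem IsFree.mat_order_ten (hρ : IsFree ρ) {g : G} (hg : orderOf g = 10) :
    (mat ρ g + mat ρ g⁻¹) ^ 2 - (mat ρ g + mat ρ g⁻¹) - 1 = 0 := by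
  have h5 : orderOf (g ^ 5) = 2 := by rw [orderOf_pow' g (by norm_num), hg]; norm_num
  have h6 : orderOf (g ^ 6) = 5 := by rw [orderOf_pow' g (by norm_num), hg]; norm_num
  have hgi : orderOf g⁻¹ = 10 := by rw [orderOf_inv, hg]
  have h5i : orderOf (g⁻¹ ^ 5) = 2 := by rw [orderOf_pow' g⁻¹ (by norm_num), hgi]; norm_num
  have e5 : mat ρ g ^ 5 = -1 := by rw [← mat_pow]; exact hρ.mat_order_two h5
  have e5i : mat ρ g⁻¹ ^ 5 = -1 := by rw [← mat_pow]; exact hρ.mat_order_two h5i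
  have e6 : mat ρ (g ^ 6) = -mat ρ g := by
    rw [mat_pow]
    have : mat ρ g ^ 6 = mat ρ g ^ 5 * mat ρ g := by rw [← pow_succ]
    rw [this, e5]; simp
  have e6i : mat ρ (g ^ 6)⁻¹ = -mat ρ g⁻¹ := by
    rw [← inv_pow, mat_pow]
    have : mat ρ g⁻¹ ^ 6 = mat ρ g⁻¹ ^ 5 * mat ρ g⁻¹ := by rw [← pow_succ]
    rw [this, e5i]; simp
  have := hρ.mat_order_five h6
  rw [e6, e6i] at this
  rw [← this]
  noncomm_ring

end Cfsg.Agent.ZassL
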