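import Mathlib
import Cfsg.Agent.Lib.Zass.BasicB
import Cfsg.Agent.Lib.Helper8.FpfPairC

/-! # Zassenhaus cluster, slice ZA(4): involution, `PU`, `PB`, products of elements of order 3
(helper8) -/

set_option autoImplicit false

namespace Cfsg.Agent.ZassL

universe u

open Cfsg.Agent.Lib.Helper8.FpfPair

variable {G : Type u} [Group G] {n : ℕ} {ρ : G →* Matrix.GeneralLinearGroup (Fin n) ℂ}

theorem nontrivial_of_pos (hn : 0 < n) : Nontrivial (Fin n → ℂ) := by
  have : Nonempty (Fin n) := ⟨⟨0, hn⟩⟩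
  infer_instance

/-- all involutions coincide -/
theorem IsFree.unique_involution (hρ : IsFree ρ) (hn : 0 < n) {u v : G} (hu : orderOf u = 2)
    (hv : orderOf v = 2) : u = v := by
  apply hρ.rho_injective hn
  apply Units.ext
  show mat ρ u = mat ρ v
  rw [hρ.mat_order_two hu, hρ.mat_order_two hv]

/-- the involution is central -/
theorem IsFree.involution_central (hρ : IsFree ρ) (hn : 0 < n) {z : G} (hz : orderOf z = 2) :
    z ∈ Subgroup.center G := by
  rw [Subgroup.mem_center_iff]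
  intro g
  have h1 : orderOf (g * z * g⁻¹) = 2 := by
    rw [← hz]
    exact (MulAut.conj g).orderOf_eq z
  have := hρ.unique_involution hn h1 hz
  calc g * z = (g * z * g⁻¹) * g := by group
    _ = z * g := by rw [this]

theorem IsFree.involution_comm (hρ : IsFree ρ) (hn : 0 < n) {z : G} (hz : orderOf z = 2) (g : G) :
    g * z = z * g :=
  Subgroup.mem_center_iff.mp (hρ.involution_central hn hz) g

/-- no `C_p × C_p` -/
theorem IsFree.PU (hρ : IsFree ρ) (hn : 0 < n) : Cfsg.Agent.S3358L.PU G := by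
  have := nontrivial_of_pos hn
  intro p a b hp ha hb hab
  exact pu_of_fpf (endHom ρ) hρ.endHom_fpf hp ha hb hab

/-- subgroups of order `pq` are cyclic -/
theorem IsFree.PB [Finite G] (hρ : IsFree ρ) (hn : 0 < n) : Cfsg.Agent.S3358L.PB G := by
  have := nontrivial_of_pos hn
  intro p q a b hp _ ha _ hnorm
  exact pb_of_fpf (endHom ρ) hρ.endHom_fpf hp ha hnorm

/-- an element of prime order normalizing a cyclic subgroup centralizes it -/
theorem IsFree.comm_of_normalizes [Finite G] (hρ : IsFree ρ) (hn : 0 < n) {p : ℕ} (hp : p.Prime)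
    {a b : G} (ha : orderOf a = p) (hnorm : a * b * a⁻¹ ∈ Subgroup.zpowers b) : a * b = b * a := by
  have := nontrivial_of_pos hn
  exact pb_of_fpf (endHom ρ) hρ.endHom_fpf hp ha hnorm

/-- **products of two elements of order three** -/
theorem IsFree.orders_three_three [Finite G] (hρ : IsFree ρ) (hn : 0 < n) {x y : G}
    (hx : orderOf x = 3) (hy : orderOf y = 3) :
    (orderOf (x * y) = 1 ∧ orderOf (x * y⁻¹) = 3) ∨ (orderOf (x * y) = 3 ∧ orderOf (x * y⁻¹) = 1) ∨
    (orderOf (x * y) = 4 ∧ orderOf (x * y⁻¹) = 6) ∨ (orderOf (x * y) = 6 ∧ orderOf (x * y⁻¹) = 4) ∨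
    (orderOf (x * y) = 10 ∧ orderOf (x * y⁻¹) = 10) := by
  have := nontrivial_of_pos hn
  exact Cfsg.Agent.Lib.Helper8.FpfPair.orders_three_three (endHom ρ) hρ.endHom_fpf hx hy

theorem IsFree.orderOf_mul_three_three [Finite G] (hρ : IsFree ρ) (hn : 0 < n) {x y : G}
    (hx : orderOf x = 3) (hy : orderOf y = 3) :
    orderOf (x * y) = 1 ∨ orderOf (x * y) = 3 ∨ orderOf (x * y) = 4 ∨ orderOf (x * y) = 6 ∨
      orderOf (x * y) = 10 := by
  rcases hρ.orders_three_three hn hx hy with h | h | h | h | h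
  · exact Or.inl h.1
  · exact Or.inr (Or.inl h.1)
  · exact Or.inr (Or.inr (Or.inl h.1))
  · exact Or.inr (Or.inr (Or.inr (Or.inl h.1)))
  · exact Or.inr (Or.inr (Or.inr (Or.inr h.1)))

theorem IsFree.orderOf_mul_mem_ord33 [Finite G] (hρ : IsFree ρ) (hn : 0 < n) {x y : G}
    (hx : orderOf x = 3) (hy : orderOf y = 3) : orderOf (x * y) ∈ ord33 := by
  rcases hρ.orderOf_mul_three_three hn hx hy with h | h | h | h | h <;> rw [h] <;> decide

end Cfsg.Agent.ZassL
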