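import Mathlib
import Cfsg.Agent.Lib.Zass.Defs
import Cfsg.Agent.Lib.Lead.PrimDeg2D

set_option autoImplicit false
set_option linter.unusedSectionVars false
set_option linter.unusedVariables false

/-! # Zassenhaus cluster, slice ZC: free representations of degree `1` and `2` -/

namespace Cfsg.Agent.ZassL

open Cfsg.Agent.Lib.Lead.PrimDeg2 Cfsg.Agent.Lib.helper3.CharBasic Module

universe u

section Rep

variable {B : Type u} [Group B]

/-- the representation on `Fin n → ℂ` attached to `σ` -/
noncomputable def repOf {n : ℕ} (σ : B →* Matrix.GeneralLinearGroup (Fin n) ℂ) :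
    Representation ℂ B (Fin n → ℂ) where
  toFun g := Matrix.mulVecLin (mat σ g)
  map_one' := by
    ext v i
    simp [mat]
  map_mul' := by
    intro a b
    ext v i
    simp [mat, Matrix.mulVecLin_mul]

theorem repOf_apply {n : ℕ} (σ : B →* Matrix.GeneralLinearGroup (Fin n) ℂ) (g : B)
    (v : Fin n → ℂ) : repOf σ g v = (mat σ g).mulVec v := rfl

theorem IsFree.injective {n : ℕ} (hn : 0 < n) {σ : B →* Matrix.GeneralLinearGroup (Fin n) ℂ}
    (hσ : IsFree σ) : Function.Injective σ := by
  rw [injective_iff_map_eq_one]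
  intro g hg
  by_contra hne
  have h1 := hσ g hne (fun _ => 1) (by rw [hg]; simp)
  have h2 := congrFun h1 ⟨0, hn⟩
  simp at h2

theorem repOf_faithful [Finite B] {n : ℕ} (hn : 0 < n)
    {σ : B →* Matrix.GeneralLinearGroup (Fin n) ℂ} (hσ : IsFree σ) :
    ∀ g : B, (repOf σ).character g = (repOf σ).character 1 → g = 1 := by
  intro g hg
  rw [Representation.char_one] at hg
  have h1 := (character_eq_finrank_iff (repOf σ) g).mp hg
  by_contra hne
  have h2 := hσ g hne (fun _ => 1) (by
    have := LinearMap.congr_fun h1 (fun _ => (1 : ℂ))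
    rw [repOf_apply] at this
    exact this)
  have h3 := congrFun h2 ⟨0, hn⟩
  simp at h3

end Rep

section Deg2

variable {B : Type u} [Group B] [Finite B]

/-- A finite group with a free representation of degree `2` has an abelian subgroup of index
at most `2`, or its centre has index `12`, `24` or `60`. -/
theorem deg2_cases (σ : B →* Matrix.GeneralLinearGroup (Fin 2) ℂ) (hσ : IsFree σ) :
    (∃ A : Subgroup B, (∀ a ∈ A, ∀ b ∈ A, a * b = b * a) ∧ (A.index = 1 ∨ A.index = 2)) ∨
      (Subgroup.center B).index = 12 ∨ (Subgroup.center B).index = 24 ∨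
        (Subgroup.center B).index = 60 := by
  classical
  let _ : Fintype B := Fintype.ofFinite B
  have hV : finrank ℂ (Fin 2 → ℂ) = 2 := by simp
  have hfaith := repOf_faithful (by norm_num) hσ
  have H1 : CTc B := ctc_of_rep (repOf σ) hV hfaith
  have H3 := h3_of_rep (repOf σ) hV hfaith
  by_cases hne : ∃ x : B, x ∉ Subgroup.center B
  · by_cases H2 : ∀ x : B, x ∉ Subgroup.center B → ∃ h : B, ¬ Commute (h * x * h⁻¹) x
    · right
      exact index_center_of_CT H1 H2 H3 hne
    · left
      push Not at H2
      obtain ⟨x, hx, hall⟩ := H2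
      refine ⟨cen x, fun a ha b hb => (H1 x hx a b ha hb).eq, ?_⟩
      have htop : nrm H1 x hx = ⊤ := by
        rw [eq_top_iff]
        intro n _
        exact (mem_nrm H1 hx).mpr (hall n)
      have hle := card_nrm_le H1 H3 hx
      rw [htop, Subgroup.card_top] at hle
      have hmul := Subgroup.index_mul_card (cen x)
      have hpos : 0 < Nat.card (cen x) := Nat.card_pos
      have hipos : 0 < (cen x).index := Nat.pos_of_ne_zero (Subgroup.index_ne_zero_of_finite)
      have : (cen x).index ≤ 2 := by
        by_contra hgt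
        push Not at hgt
        have : 3 * Nat.card (cen x) ≤ (cen x).index * Nat.card (cen x) :=
          Nat.mul_le_mul_right _ hgt
        omega
      omega
  · left
    push Not at hne
    refine ⟨⊤, fun a _ b _ => (Subgroup.mem_center_iff.mp (hne b) a), Or.inl ?_⟩
    simp

end Deg2


section TwoByTwo

/-- A non-scalar `2 × 2` matrix satisfying `M * M = p • M + q • 1` has trace `p` and determinant
`-q`. -/
theorem det_tr_of_quad (M : Matrix (Fin 2) (Fin 2) ℂ) (p q : ℂ)
    (h : M * M = p • M + q • (1 : Matrix (Fin 2) (Fin 2) ℂ))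
    (hns : ∀ c : ℂ, M ≠ c • (1 : Matrix (Fin 2) (Fin 2) ℂ)) :
    M.trace = p ∧ M.det = -q := by
  have h00 := congrFun (congrFun h 0) 0
  have h01 := congrFun (congrFun h 0) 1
  have h10 := congrFun (congrFun h 1) 0
  have h11 := congrFun (congrFun h 1) 1
  simp only [Matrix.mul_apply, Fin.sum_univ_two, Matrix.add_apply, Matrix.smul_apply,
    Matrix.one_apply_eq, Matrix.one_apply_ne, smul_eq_mul, ne_eq, Fin.isValue,
    zero_ne_one, one_ne_zero, not_false_eq_true, mul_zero, add_zero, mul_one] at h00 h01 h10 h11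
  rw [Matrix.trace_fin_two, Matrix.det_fin_two]
  by_cases htr : M 0 0 + M 1 1 = p
  · refine ⟨htr, ?_⟩
    have : p = M 0 0 + M 1 1 := htr.symm
    subst this
    linear_combination (-1 : ℂ) * h00
  · exfalso
    have hne : M 0 0 + M 1 1 - p ≠ 0 := sub_ne_zero.mpr htr
    have hb : M 0 1 = 0 := by
      have : (M 0 0 + M 1 1 - p) * M 0 1 = 0 := by linear_combination h01
      exact (mul_eq_zero.mp this).resolve_left hne
    have hc : M 1 0 = 0 := by
      have : (M 0 0 + M 1 1 - p) * M 1 0 = 0 := by linear_combination h10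
      exact (mul_eq_zero.mp this).resolve_left hne
    have had : M 0 0 = M 1 1 := by
      have : (M 0 0 + M 1 1 - p) * (M 0 0 - M 1 1) = 0 := by
        rw [hb, hc] at h00 h11
        linear_combination h00 - h11
      exact sub_eq_zero.mp ((mul_eq_zero.mp this).resolve_left hne)
    apply hns (M 0 0)
    ext i j
    fin_cases i <;> fin_cases j <;> simp [hb, hc, had]

/-- order `3`: `M² + M + 1 = 0`, non-scalar ⇒ trace `-1`, determinant `1`. -/
theorem det_tr_of_order_three (M : Matrix (Fin 2) (Fin 2) ℂ) (h : M * M + M + 1 = 0)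
    (hns : ∀ c : ℂ, M ≠ c • (1 : Matrix (Fin 2) (Fin 2) ℂ)) : M.trace = -1 ∧ M.det = 1 := by
  have h' : M * M = (-1 : ℂ) • M + (-1 : ℂ) • (1 : Matrix (Fin 2) (Fin 2) ℂ) := by
    rw [neg_one_smul, neg_one_smul]
    calc M * M = (M * M + M + 1) - M - 1 := by abel
      _ = -M + -1 := by rw [h]; abel
  have := det_tr_of_quad M (-1) (-1) h' hns
  simpa using this

/-- order `4`: `M² = -1`, non-scalar ⇒ trace `0`, determinant `1`. -/
theorem det_tr_of_order_four (M : Matrix (Fin 2) (Fin 2) ℂ) (h : M * M = -1)
    (hns : ∀ c : ℂ, M ≠ c • (1 : Matrix (Fin 2) (Fin 2) ℂ)) : M.trace = 0 ∧ M.det = 1 := by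
  have h' : M * M = (0 : ℂ) • M + (-1 : ℂ) • (1 : Matrix (Fin 2) (Fin 2) ℂ) := by
    rw [neg_one_smul, zero_smul, zero_add]
    exact h
  have := det_tr_of_quad M 0 (-1) h' hns
  simpa using this

/-- order `6`: `M² - M + 1 = 0`, non-scalar ⇒ trace `1`, determinant `1`. -/
theorem det_tr_of_order_six (M : Matrix (Fin 2) (Fin 2) ℂ) (h : M * M - M + 1 = 0)
    (hns : ∀ c : ℂ, M ≠ c • (1 : Matrix (Fin 2) (Fin 2) ℂ)) : M.trace = 1 ∧ M.det = 1 := by
  have h' : M * M = (1 : ℂ) • M + (-1 : ℂ) • (1 : Matrix (Fin 2) (Fin 2) ℂ) := by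
    rw [neg_one_smul, one_smul]
    calc M * M = (M * M - M + 1) + M - 1 := by abel
      _ = M + -1 := by rw [h]; abel
  have := det_tr_of_quad M 1 (-1) h' hns
  simpa using this

end TwoByTwo

section Center

variable {B : Type u} [Group B]

/-- If the generators have determinant `1`, so has every element. -/
theorem det_eq_one_of_closure {n : ℕ} (σ : B →* Matrix.GeneralLinearGroup (Fin n) ℂ) (S : Set B)
    (hS : Subgroup.closure S = ⊤) (hdet : ∀ s ∈ S, (mat σ s).det = 1) :
    ∀ b : B, (mat σ b).det = 1 := by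
  intro b
  have hb : b ∈ Subgroup.closure S := hS ▸ Subgroup.mem_top b
  induction hb using Subgroup.closure_induction with
  | mem x hx => exact hdet x hx
  | one => simp [mat]
  | mul x y _ _ hx hy =>
    simp only [mat, map_mul, Units.val_mul, Matrix.det_mul] at hx hy ⊢
    rw [hx, hy, mul_one]
  | inv x _ hx =>
    have h1 : (mat σ x).det * (mat σ x⁻¹).det = 1 := by
      rw [← Matrix.det_mul]
      simp only [mat]
      rw [← Units.val_mul, ← map_mul, mul_inv_cancel, map_one]
      simp
    rw [hx, one_mul] at h1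
    exact h1


/-- An element acting as a scalar in a free representation is central. -/
theorem central_of_scalar {n : ℕ} (hn : 0 < n) (σ : B →* Matrix.GeneralLinearGroup (Fin n) ℂ)
    (hσ : IsFree σ) {x : B} {l : ℂ} (hx : mat σ x = l • (1 : Matrix (Fin n) (Fin n) ℂ)) :
    x ∈ Subgroup.center B := by
  rw [Subgroup.mem_center_iff]
  intro g
  apply hσ.injective hn
  apply Units.ext
  rw [map_mul, map_mul, Units.val_mul, Units.val_mul]
  show mat σ g * mat σ x = mat σ x * mat σ g
  rw [hx]
  simp

variable [Finite B]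

/-- In a non-abelian group with a free representation of degree `2`, central elements act as
scalars. -/
theorem central_scalar (σ : B →* Matrix.GeneralLinearGroup (Fin 2) ℂ) (hσ : IsFree σ)
    (hnab : ∃ a b : B, a * b ≠ b * a) {c : B} (hc : c ∈ Subgroup.center B) :
    ∃ l : ℂ, mat σ c = l • (1 : Matrix (Fin 2) (Fin 2) ℂ) := by
  classical
  let _ : Fintype B := Fintype.ofFinite B
  by_contra hcon
  push Not at hcon
  have hV : finrank ℂ (Fin 2 → ℂ) = 2 := by simp
  have hfaith := repOf_faithful (by norm_num) hσ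
  have hns : ∀ l : ℂ, repOf σ c ≠ l • (1 : Module.End ℂ (Fin 2 → ℂ)) := by
    intro l h
    apply hcon l
    have h2 : Matrix.toLin' (mat σ c) = Matrix.toLin' (l • (1 : Matrix (Fin 2) (Fin 2) ℂ)) := by
      rw [map_smul, Matrix.toLin'_one]
      exact h
    exact Matrix.toLin'.injective h2
  obtain ⟨J, _, _, v, μ, hμ, hf, hcard⟩ := exists_eigen_data hV (repOf σ c) (orderOf c)
    (orderOf_pos c) (rho_pow_orderOf (repOf σ) c) hns
  obtain ⟨a, b, hab⟩ := hnab
  apply hab
  have hca : Commute a c := (Subgroup.mem_center_iff.mp hc a)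
  have hcb : Commute b c := (Subgroup.mem_center_iff.mp hc b)
  have h1 := comm_of_comm_diag v μ hμ (repOf σ c) (repOf σ a) (repOf σ b) hf
    (comm_apply_of_commute (repOf σ) hca) (comm_apply_of_commute (repOf σ) hcb)
  rw [← map_mul, ← map_mul] at h1
  exact rho_injective (repOf σ) hfaith h1

/-- If moreover the group is generated by elements of determinant `1`, central elements act
as `1` or `-1`. -/
theorem center_le_pm_one (σ : B →* Matrix.GeneralLinearGroup (Fin 2) ℂ) (hσ : IsFree σ)
    (hnab : ∃ a b : B, a * b ≠ b * a) (S : Set B) (hS : Subgroup.closure S = ⊤)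
    (hdet : ∀ s ∈ S, (mat σ s).det = 1) {c : B} (hc : c ∈ Subgroup.center B) :
    mat σ c = 1 ∨ mat σ c = -1 := by
  obtain ⟨l, hl⟩ := central_scalar σ hσ hnab hc
  have hd := det_eq_one_of_closure σ S hS hdet c
  rw [hl, Matrix.det_smul, Matrix.det_one, mul_one] at hd
  simp only [Fintype.card_fin] at hd
  have h2 : (l - 1) * (l + 1) = 0 := by linear_combination hd
  rcases mul_eq_zero.mp h2 with h | h
  · left
    rw [hl, sub_eq_zero.mp h, one_smul]
  · right
    rw [hl, eq_neg_of_add_eq_zero_left h]
    simp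

/-- ... hence the centre has order at most `2`. -/
theorem card_center_le_two (σ : B →* Matrix.GeneralLinearGroup (Fin 2) ℂ) (hσ : IsFree σ)
    (hnab : ∃ a b : B, a * b ≠ b * a) (S : Set B) (hS : Subgroup.closure S = ⊤)
    (hdet : ∀ s ∈ S, (mat σ s).det = 1) : Nat.card (Subgroup.center B) ≤ 2 := by
  classical
  have hinj := hσ.injective (n := 2) (by norm_num)
  let f : Subgroup.center B → Bool := fun c => decide (mat σ (c : B) = 1)
  have hf : Function.Injective f := by
    intro c d hcd
    apply Subtype.ext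
    apply hinj
    apply Units.ext
    have hc := center_le_pm_one σ hσ hnab S hS hdet c.2
    have hd := center_le_pm_one σ hσ hnab S hS hdet d.2
    have hne : (1 : Matrix (Fin 2) (Fin 2) ℂ) ≠ -1 := by
      intro h
      have := congrFun (congrFun h 0) 0
      norm_num at this
    simp only [f, decide_eq_decide] at hcd
    show mat σ (c : B) = mat σ (d : B)
    rcases hc with hc | hc <;> rcases hd with hd | hd
    · rw [hc, hd]
    · exfalso
      have := hcd.mp hc
      rw [hd] at this
      exact hne this.symm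
    · exfalso
      have := hcd.mpr hd
      rw [hc] at this
      exact hne this.symm
    · rw [hc, hd]
  have := Nat.card_le_card_of_injective f hf
  simpa using this

end Center

section Deg1

variable {B : Type u} [Group B]

/-- A group with a free representation of degree `1` is abelian. -/
theorem deg1_comm (σ : B →* Matrix.GeneralLinearGroup (Fin 1) ℂ) (hσ : IsFree σ) :
    ∀ a b : B, a * b = b * a := by
  intro a b
  apply hσ.injective (by norm_num)
  rw [map_mul, map_mul]
  apply Units.ext
  rw [Units.val_mul, Units.val_mul]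
  ext i j
  fin_cases i
  fin_cases j
  simp [Matrix.mul_apply, mul_comm]

end Deg1

end Cfsg.Agent.ZassL
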