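import Mathlib
import Cfsg.Agent.Lib.Zass.Defs

/-! # Zassenhaus cluster: frames (quaternion pairs cyclically permuted by an element of order 3) -/

set_option autoImplicit false

namespace Cfsg.Agent.ZassL

universe u

/-- `(u, v)` is a quaternion pair (`u` of order `4`, `v u v⁻¹ = u⁻¹`) on which `x` acts by
`u ↦ v ↦ u v ↦ u`. -/
structure IsFrame {G : Type u} [Group G] (x u v : G) : Prop where
  ou : orderOf u = 4
  hv : x * u * x⁻¹ = v
  huv : x * v * x⁻¹ = u * v
  hq : v * u * v⁻¹ = u⁻¹

end Cfsg.Agent.ZassL
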