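import Mathlib

set_option autoImplicit false
set_option linter.style.haveILetI false
set_option linter.unusedVariables false

namespace Cfsg.Agent.ZassL

open QuaternionGroup

/-- the map on `Q₈` determined by the images `s`, `t` of the generators `a 1`, `xa 0` -/
def ZF_q8F (s t : QuaternionGroup 2) : QuaternionGroup 2 → QuaternionGroup 2
  | a i => s ^ i.val
  | xa i => t * s ^ i.val

theorem ZF_q8F_eq (β : MulAut (QuaternionGroup 2)) (w : QuaternionGroup 2) :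
    β w = ZF_q8F (β (a 1)) (β (xa 0)) w := by
  cases w with
  | a i =>
    show β (a i) = β (a 1) ^ i.val
    rw [← map_pow, a_one_pow]
    congr 2
    exact (ZMod.natCast_zmod_val i).symm
  | xa i =>
    show β (xa i) = β (xa 0) * β (a 1) ^ i.val
    rw [← map_pow, ← map_mul, a_one_pow, xa_mul_a, zero_add]
    congr 2
    exact (ZMod.natCast_zmod_val i).symm

set_option maxRecDepth 1000000 in
theorem ZF_q8_frame_aux : ∀ s t : QuaternionGroup 2,
    ZF_q8F s t (ZF_q8F s t (ZF_q8F s t (a 1))) = a 1 → ZF_q8F s t (ZF_q8F s t (ZF_q8F s t (xa 0))) = xa 0 →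
    ¬ (s = a 1 ∧ t = xa 0) → t * s * t⁻¹ = s⁻¹ → s ^ 4 = 1 → s ^ 2 ≠ 1 → t ^ 2 = s ^ 2 →
    ∃ u : QuaternionGroup 2, u ^ 2 ≠ 1 ∧ u ^ 4 = 1 ∧ ZF_q8F s t (ZF_q8F s t u) = u * ZF_q8F s t u ∧
      ZF_q8F s t u * u * (ZF_q8F s t u)⁻¹ = u⁻¹ ∧
      ∀ w : QuaternionGroup 2, ∃ i ∈ Finset.range 4, ∃ j ∈ Finset.range 2,
        w = u ^ i * (ZF_q8F s t u) ^ j := by
  decide +kernel

end Cfsg.Agent.ZassL
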