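import Mathlib
import Cfsg.Agent.Lib.Zass.FrameLA
import Cfsg.Agent.Lib.Zass.Defs2
import Cfsg.Agent.Lib.Zass.E3A

set_option autoImplicit false
set_option linter.style.haveILetI false
set_option linter.unusedVariables false
set_option linter.unusedSectionVars false

namespace Cfsg.Agent.ZassL

open Cfsg.Agent.S3358L QuaternionGroup

universe u

/-- an automorphism of order 3 of `Q₈` has a frame -/
theorem ZF_q8_frame (β : MulAut (QuaternionGroup 2)) (h3 : β ^ 3 = 1) (hne : β ≠ 1) :
    ∃ u : QuaternionGroup 2, orderOf u = 4 ∧ β (β u) = u * β u ∧ β u * u * (β u)⁻¹ = u⁻¹ ∧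
      ∀ w : QuaternionGroup 2, ∃ i ∈ Finset.range 4, ∃ j ∈ Finset.range 2,
        w = u ^ i * (β u) ^ j := by
  set s := β (a 1) with hs
  set t := β (xa 0) with ht
  have hF : ∀ w, β w = ZF_q8F s t w := ZF_q8F_eq β
  have hβ3 : ∀ w, β (β (β w)) = w := by
    intro w
    have := congrArg (fun γ : MulAut (QuaternionGroup 2) => γ w) h3
    simpa [pow_succ, MulAut.mul_apply] using this
  have c1 : ZF_q8F s t (ZF_q8F s t (ZF_q8F s t (a 1))) = a 1 := by
    rw [← hF, ← hF, ← hF]; exact hβ3 _
  have c2 : ZF_q8F s t (ZF_q8F s t (ZF_q8F s t (xa 0))) = xa 0 := by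
    rw [← hF, ← hF, ← hF]; exact hβ3 _
  have c3 : ¬ (s = a 1 ∧ t = xa 0) := by
    rintro ⟨h1, h2⟩
    apply hne
    ext w
    rw [hF w, h1, h2, MulAut.one_apply]
    cases w with
    | a i =>
      show (a 1 : QuaternionGroup 2) ^ i.val = a i
      rw [a_one_pow]; congr 1; exact ZMod.natCast_zmod_val i
    | xa i =>
      show (xa 0 : QuaternionGroup 2) * (a 1) ^ i.val = xa i
      rw [a_one_pow, xa_mul_a, zero_add]; congr 1; exact ZMod.natCast_zmod_val i
  have c4 : t * s * t⁻¹ = s⁻¹ := by
    rw [hs, ht, ← map_inv, ← map_inv, ← map_mul, ← map_mul]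
    congr 1
  have c5 : s ^ 4 = 1 := by
    rw [hs, ← map_pow]
    have : (a 1 : QuaternionGroup 2) ^ 4 = 1 := by decide
    rw [this, map_one]
  have c6 : s ^ 2 ≠ 1 := by
    rw [hs, ← map_pow]
    intro h
    have h1 : (a 1 : QuaternionGroup 2) ^ 2 = 1 := β.injective (by rw [h, map_one])
    revert h1
    decide
  have c7 : t ^ 2 = s ^ 2 := by
    rw [hs, ht, ← map_pow, ← map_pow]
    congr 1
  obtain ⟨u, hu2, hu4, h1, h2, h3'⟩ := ZF_q8_frame_aux s t c1 c2 c3 c4 c5 c6 c7
  refine ⟨u, ?_, ?_, ?_, ?_⟩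
  · have hd : orderOf u ∣ 4 := orderOf_dvd_of_pow_eq_one hu4
    have hd' : orderOf u ∣ 2 ^ 2 := hd
    rw [Nat.dvd_prime_pow Nat.prime_two] at hd'
    obtain ⟨k, hk, hk'⟩ := hd'
    interval_cases k
    · exfalso; apply hu2
      have h1 : orderOf u = 1 := by simpa using hk'
      rw [orderOf_eq_one_iff.mp h1]; simp
    · exfalso; apply hu2; rw [← orderOf_dvd_iff_pow_eq_one, hk']; norm_num
    · simpa using hk'
  · rw [hF u, hF (ZF_q8F s t u)]; exact h1
  · rw [hF u]; exact h2
  · intro w
    rw [hF u]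
    exact h3' w

variable {G : Type u} [Group G] [Finite G]

/-- (F1) every member of `QSet x` is generated by a frame -/
theorem ZF_frame_of_mem_QSet (hU : PU G) {x : G} (hx : orderOf x = 3) {Q : Subgroup G}
    (hQ : Q ∈ QSet x) : ∃ u v : G, IsFrame x u v ∧ Q = Subgroup.closure {u, v} := by
  obtain ⟨hcard, hnorm, q₀, hq₀, hne⟩ := hQ
  haveI : Fact (Nat.Prime 2) := ⟨Nat.prime_two⟩
  have hxN : x ∈ Subgroup.normalizer (Q : Set G) := ZE_mem_normalizer hx hnorm
  set ξ : Subgroup.normalizer (Q : Set G) := ⟨x, hxN⟩ with hξ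
  set α : MulAut Q := Q.normalizerMonoidHom ξ with hα
  have hαapp : ∀ q : Q, ((α q : Q) : G) = x * q * x⁻¹ := by
    intro q
    rfl
  have hα3 : α ^ 3 = 1 := by
    rw [hα, ← map_pow]
    have : ξ ^ 3 = 1 := by
      apply Subtype.ext
      show x ^ 3 = 1
      rw [← hx]; exact pow_orderOf_eq_one x
    rw [this, map_one]
  have hαne : α ≠ 1 := by
    intro h
    apply hne
    have := congrArg (fun γ : MulAut Q => ((γ ⟨q₀, hq₀⟩ : Q) : G)) h
    simp only [hαapp, MulAut.one_apply] at this
    calc x * q₀ = x * q₀ * x⁻¹ * x := by group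
      _ = q₀ * x := by rw [this]
  have hp : IsPGroup 2 Q := IsPGroup.of_card (n := 3) (by rw [hcard]; norm_num)
  rcases U1_pgroup hU 2 Q hp with h | ⟨_, n, ⟨e⟩⟩
  · exfalso
    haveI := h
    have hc : Nat.card (MulAut Q) = 4 := by
      rw [IsCyclic.card_mulAut, hcard]
      decide
    have h4 : α ^ 4 = 1 := by
      have := pow_card_eq_one' (G := MulAut Q) (x := α)
      rwa [hc] at this
    apply hαne
    calc α = α ^ 4 * (α ^ 3)⁻¹ := by group
      _ = 1 := by rw [h4, hα3]; simp
  · have hn : n = 1 := by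
      have h1 : Nat.card Q = Nat.card (QuaternionGroup (2 ^ n)) := Nat.card_congr e.toEquiv
      rw [hcard, Nat.card_eq_fintype_card, QuaternionGroup.card] at h1
      have h2 : 2 ^ n = 2 ^ 1 := by omega
      exact Nat.pow_right_injective (le_refl 2) h2
    subst hn
    have e' : Q ≃* QuaternionGroup 2 := e
    set β : MulAut (QuaternionGroup 2) := MulAut.congr e' α with hβ
    have hβapp : ∀ w, β w = e' (α (e'.symm w)) := fun w => rfl
    have hβ3 : β ^ 3 = 1 := by rw [hβ, ← map_pow, hα3, map_one]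
    have hβne : β ≠ 1 := by
      intro h
      apply hαne
      apply (MulAut.congr e').injective
      rw [map_one]
      exact h
    obtain ⟨u, hu4, h1, h2, h3⟩ := ZF_q8_frame β hβ3 hβne
    set u' : Q := e'.symm u with hu'
    have hβu : β u = e' (α u') := hβapp u
    have hαu : α u' = e'.symm (β u) := by rw [hβu]; simp
    refine ⟨(u' : G), ((α u' : Q) : G), ⟨?_, ?_, ?_, ?_⟩, ?_⟩
    · rw [Subgroup.orderOf_coe, hu', MulEquiv.orderOf_eq, hu4]
    · exact (hαapp u').symm
    · rw [← hαapp (α u'), ← Subgroup.coe_mul]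
      congr 1
      apply e'.injective
      have e1 : e' u' = u := by simp [hu']
      rw [map_mul, ← hβu, e1, ← h1, hβapp (β u), hαu]
    · rw [← Subgroup.coe_inv, ← Subgroup.coe_mul, ← Subgroup.coe_mul, ← Subgroup.coe_inv]
      congr 1
      apply e'.injective
      rw [map_mul, map_mul, map_inv, map_inv, ← hβu]
      simp only [hu', MulEquiv.apply_symm_apply]
      exact h2
    · apply le_antisymm
      · intro g hg
        obtain ⟨i, _, j, _, hw⟩ := h3 (e' ⟨g, hg⟩)
        have hg' : (⟨g, hg⟩ : Q) = u' ^ i * (α u') ^ j := by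
          apply e'.injective
          rw [hw, map_mul, map_pow, map_pow, ← hβu]
          simp [hu']
        have hg'' : g = (u' : G) ^ i * ((α u' : Q) : G) ^ j := by
          have := congrArg (fun q : Q => (q : G)) hg'
          simpa using this
        rw [hg'']
        exact Subgroup.mul_mem _
          (Subgroup.pow_mem _ (Subgroup.subset_closure (by simp)) i)
          (Subgroup.pow_mem _ (Subgroup.subset_closure (by simp)) j)
      · rw [Subgroup.closure_le]
        intro g hg
        rcases hg with rfl | hg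
        · exact u'.2
        · rw [Set.mem_singleton_iff] at hg
          rw [hg]
          exact (α u').2

end Cfsg.Agent.ZassL

namespace Cfsg.Agent.ZassL

open Cfsg.Agent.S3358L

universe u

variable {G : Type u} [Group G]

/-- (F2, generation part) the group generated by a frame and `x` is generated by `x` and one of
its conjugates -/
theorem ZF_frame_gen {x u v : G} (hf : IsFrame x u v) :
    Subgroup.closure {u, v} ⊔ Subgroup.zpowers x = Subgroup.closure {x, u * x * u⁻¹} := by
  apply le_antisymm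
  · set C := Subgroup.closure {x, u * x * u⁻¹} with hC
    have hxC : x ∈ C := Subgroup.subset_closure (by simp)
    have hyC : u * x * u⁻¹ ∈ C := Subgroup.subset_closure (by simp)
    have h1 : u * v⁻¹ ∈ C := by
      have : u * v⁻¹ = u * x * u⁻¹ * x⁻¹ := by
        rw [← hf.hv]; group
      rw [this]
      exact C.mul_mem hyC (C.inv_mem hxC)
    have h2 : u⁻¹ ∈ C := by
      have : u⁻¹ = x * (u * v⁻¹) * x⁻¹ := by
        have e1 : x * (u * v⁻¹) * x⁻¹ = (x * u * x⁻¹) * (x * v * x⁻¹)⁻¹ := by group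
        rw [e1, hf.hv, hf.huv]
        group
      rw [this]
      exact C.mul_mem (C.mul_mem hxC h1) (C.inv_mem hxC)
    have huC : u ∈ C := by simpa using C.inv_mem h2
    have hvC : v ∈ C := by
      rw [← hf.hv]
      exact C.mul_mem (C.mul_mem hxC huC) (C.inv_mem hxC)
    apply sup_le
    · rw [Subgroup.closure_le]
      intro g hg
      rcases hg with rfl | hg
      · exact huC
      · rw [Set.mem_singleton_iff] at hg; rw [hg]; exact hvC
    · rw [Subgroup.zpowers_le]; exact hxC
  · rw [Subgroup.closure_le]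
    have hx : x ∈ Subgroup.closure {u, v} ⊔ Subgroup.zpowers x :=
      (le_sup_right : Subgroup.zpowers x ≤ _) (Subgroup.mem_zpowers x)
    have hu : u ∈ Subgroup.closure {u, v} ⊔ Subgroup.zpowers x :=
      (le_sup_left : Subgroup.closure {u, v} ≤ _) (Subgroup.subset_closure (by simp))
    intro g hg
    rcases hg with rfl | hg
    · exact hx
    · rw [Set.mem_singleton_iff] at hg
      rw [hg]
      exact Subgroup.mul_mem _ (Subgroup.mul_mem _ hu hx) (Subgroup.inv_mem _ hu)

/-- the field `f2` of `ZAx` -/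
theorem ZF_f2_of_PU [Finite G] (hU : PU G) {x : G} (hx : orderOf x = 3) {Q : Subgroup G}
    (hQ : Q ∈ QSet x) : ∃ u : G, Q ⊔ Subgroup.zpowers x = Subgroup.closure {x, u * x * u⁻¹} := by
  obtain ⟨u, v, hf, rfl⟩ := ZF_frame_of_mem_QSet hU hx hQ
  exact ⟨u, ZF_frame_gen hf⟩

end Cfsg.Agent.ZassL
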