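import Mathlib
import Cfsg.Agent.Lib.Zass.FrameLB

set_option autoImplicit false
set_option linter.style.haveILetI false
set_option linter.unusedVariables false
set_option linter.unusedSectionVars false

namespace Cfsg.Agent.ZassL

open Cfsg.Agent.S3358L

universe u

variable {G : Type u} [Group G] [Finite G]

theorem ZF_pow_eight {Q : Subgroup G} (hcard : Nat.card Q = 8) {q : G} (hq : q ∈ Q) :
    q ^ 8 = 1 := by
  have := pow_card_eq_one' (G := Q) (x := ⟨q, hq⟩)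
  rw [hcard] at this
  exact congrArg Subtype.val this

theorem ZF_pow_three {x : G} (hx : orderOf x = 3) {a : G} (ha : a ∈ Subgroup.zpowers x) :
    a ^ 3 = 1 := by
  rcases ZE_zpowers_three hx ha with h | h | h
  · rw [h, one_pow]
  · rw [h, ← hx]; exact pow_orderOf_eq_one x
  · rw [h, inv_pow, ← hx, pow_orderOf_eq_one, inv_one]

theorem ZF_eq_one_of_pow {g : G} (h8 : g ^ 8 = 1) (h3 : g ^ 3 = 1) : g = 1 := by
  calc g = (g ^ 3) ^ 3 * (g ^ 8)⁻¹ := by group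
    _ = 1 := by rw [h8, h3]; simp

theorem ZF_inf_eq_bot {x : G} (hx : orderOf x = 3) {Q : Subgroup G} (hcard : Nat.card Q = 8) :
    Q ⊓ Subgroup.zpowers x = ⊥ := by
  rw [eq_bot_iff]
  rintro g ⟨h1, h2⟩
  exact Subgroup.mem_bot.mpr (ZF_eq_one_of_pow (ZF_pow_eight hcard h1) (ZF_pow_three hx h2))

/-- `|Q ⊔ ⟨x⟩| = 24` -/
theorem ZF_card_sup {x : G} (hx : orderOf x = 3) {Q : Subgroup G} (hQ : Q ∈ QSet x) :
    Nat.card ↥(Q ⊔ Subgroup.zpowers x) = 24 := by
  obtain ⟨hcard, hnorm, -⟩ := hQ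
  let f : Q × Subgroup.zpowers x → ↥(Q ⊔ Subgroup.zpowers x) := fun p =>
    ⟨(p.1 : G) * (p.2 : G), Subgroup.mul_mem _
      ((le_sup_left : Q ≤ Q ⊔ Subgroup.zpowers x) p.1.2)
      ((le_sup_right : Subgroup.zpowers x ≤ Q ⊔ Subgroup.zpowers x) p.2.2)⟩
  have hinj : Function.Injective f := by
    rintro ⟨⟨q, hq⟩, ⟨a, ha⟩⟩ ⟨⟨q', hq'⟩, ⟨a', ha'⟩⟩ h
    have h' : q * a = q' * a' := congrArg Subtype.val h
    have h1 : q'⁻¹ * q = a' * a⁻¹ := by
      calc q'⁻¹ * q = q'⁻¹ * (q * a) * a⁻¹ := by group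
        _ = a' * a⁻¹ := by rw [h']; group
    have h2 : q'⁻¹ * q ∈ Q ⊓ Subgroup.zpowers x :=
      ⟨Q.mul_mem (Q.inv_mem hq') hq, h1 ▸ Subgroup.mul_mem _ ha' (Subgroup.inv_mem _ ha)⟩
    rw [ZF_inf_eq_bot hx hcard, Subgroup.mem_bot] at h2
    have hqq : q = q' := by
      calc q = q' * (q'⁻¹ * q) := by group
        _ = q' := by rw [h2, mul_one]
    have haa : a = a' := by
      have : a' * a⁻¹ = 1 := by rw [← h1, h2]
      calc a = (a' * a⁻¹)⁻¹ * a' := by group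
        _ = a' := by rw [this]; simp
    subst hqq; subst haa; rfl
  have hsurj : Function.Surjective f := by
    rintro ⟨g, hg⟩
    obtain ⟨q, hq, a, ha, rfl⟩ := ZE_sup_decomp hx hnorm hg
    exact ⟨⟨⟨q, hq⟩, ⟨a, ha⟩⟩, rfl⟩
  rw [← Nat.card_congr (Equiv.ofBijective f ⟨hinj, hsurj⟩), Nat.card_prod, hcard,
    Nat.card_zpowers, hx]

/-- `Q` is the only subgroup of order `8` of `Q ⊔ ⟨x⟩` -/
theorem ZF_unique_order8 {x : G} (hx : orderOf x = 3) {Q : Subgroup G} (hQ : Q ∈ QSet x)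
    (R : Subgroup G) (hR : R ≤ Q ⊔ Subgroup.zpowers x) (hc : Nat.card R = 8) : R = Q := by
  obtain ⟨hcard, hnorm, -⟩ := hQ
  have hle : R ≤ Q := by
    intro r hr
    obtain ⟨q, hq, a, ha, rfl⟩ := ZE_sup_decomp hx hnorm (hR hr)
    have haN : ∀ n : ℕ, a ^ n ∈ Subgroup.normalizer (Q : Set G) := by
      intro n
      have : Subgroup.zpowers x ≤ Subgroup.normalizer (Q : Set G) :=
        le_trans le_sup_right (ZE_sup_le_normalizer hx hnorm)
      exact Subgroup.pow_mem _ (this ha) n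
    have key : ∀ n : ℕ, ∃ s ∈ Q, (q * a) ^ n = s * a ^ n := by
      intro n
      induction n with
      | zero => exact ⟨1, Q.one_mem, by simp⟩
      | succ n ih =>
        obtain ⟨s, hs, h⟩ := ih
        refine ⟨s * (a ^ n * q * (a ^ n)⁻¹), Q.mul_mem hs
          ((Subgroup.mem_normalizer_iff.mp (haN n) q).mp hq), ?_⟩
        rw [pow_succ, h, pow_succ]
        group
    obtain ⟨s, hs, h⟩ := key 8
    rw [ZF_pow_eight hc hr] at h
    have ha8 : a ^ 8 ∈ Q := by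
      have : a ^ 8 = s⁻¹ := by
        calc a ^ 8 = s⁻¹ * (s * a ^ 8) := by group
          _ = s⁻¹ := by rw [← h, mul_one]
      rw [this]
      exact Q.inv_mem hs
    have ha3 := ZF_pow_three hx ha
    have ha2 : a ^ 8 = a ^ 2 := by
      calc a ^ 8 = (a ^ 3) ^ 2 * a ^ 2 := by group
        _ = a ^ 2 := by rw [ha3]; simp
    have h2 : a ^ 2 ∈ Q ⊓ Subgroup.zpowers x := ⟨ha2 ▸ ha8, Subgroup.pow_mem _ ha 2⟩
    rw [ZF_inf_eq_bot hx hcard, Subgroup.mem_bot] at h2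
    have : a = 1 := by
      calc a = a ^ 3 * (a ^ 2)⁻¹ := by group
        _ = 1 := by rw [ha3, h2]; simp
    rw [this, mul_one]
    exact hq
  exact Subgroup.eq_of_le_of_card_ge hle (by rw [hcard, hc])

/-- `Q ⊔ ⟨x⟩` is generated by its elements of order `3` -/
theorem ZF_sup_le_of_three (hU : PU G) {x : G} (hx : orderOf x = 3) {Q : Subgroup G}
    (hQ : Q ∈ QSet x) (K : Subgroup G) (hK : ∀ y : G, orderOf y = 3 → y ∈ K) :
    Q ⊔ Subgroup.zpowers x ≤ K := by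
  obtain ⟨u, hu⟩ := ZF_f2_of_PU hU hx hQ
  rw [hu, Subgroup.closure_le]
  intro g hg
  rcases hg with rfl | hg
  · exact hK _ hx
  · rw [Set.mem_singleton_iff] at hg
    rw [hg]
    apply hK
    have h := MulEquiv.orderOf_eq (MulAut.conj u) x
    rw [MulAut.conj_apply] at h
    rw [h, hx]

end Cfsg.Agent.ZassL
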