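import Mathlib
import Cfsg.Agent.Lib.Zass.FrameLC
import Cfsg.Agent.Lib.Zass.Deg2
import Cfsg.Agent.Lib.Zass.BasicC
import Cfsg.Agent.Lib.Zass.SmallB
import Cfsg.Agent.S3378

set_option autoImplicit false
set_option linter.style.haveILetI false
set_option linter.unusedVariables false
set_option linter.unusedSectionVars false

namespace Cfsg.Agent.ZassL

open Cfsg.Agent.S3358L

universe u

/-- a group with a free representation of degree 2 generated by non-central elements of order
3 or 4 has centre of order at most 2 -/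
theorem ZH_card_center_le {B : Type u} [Group B] [Finite B]
    (σ : B →* Matrix.GeneralLinearGroup (Fin 2) ℂ) (hσ : IsFree σ) (S : Set B)
    (hS : Subgroup.closure S = ⊤)
    (hS' : ∀ s ∈ S, (orderOf s = 3 ∨ orderOf s = 4) ∧ s ∉ Subgroup.center B)
    (hne : S.Nonempty) : Nat.card (Subgroup.center B) ≤ 2 := by
  have hnab : ∃ a b : B, a * b ≠ b * a := by
    obtain ⟨s, hs⟩ := hne
    have := (hS' s hs).2
    rw [Subgroup.mem_center_iff] at this
    push Not at this
    obtain ⟨g, hg⟩ := this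
    exact ⟨g, s, hg⟩
  apply card_center_le_two σ hσ hnab S hS
  intro s hs
  obtain ⟨hord, hnc⟩ := hS' s hs
  have hns : ∀ c : ℂ, mat σ s ≠ c • (1 : Matrix (Fin 2) (Fin 2) ℂ) := by
    intro c hc
    exact hnc (central_of_scalar (by norm_num) σ hσ hc)
  rcases hord with h3 | h4
  · exact (det_tr_of_order_three _ (hσ.mat_order_three' h3) hns).2
  · exact (det_tr_of_order_four _ (hσ.mat_order_four' h4) hns).2

/-- stability argument: if `x` (of order 3) normalizes `Q` (of order 8) and commutes with all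
`q⁻¹ * (x * q * x⁻¹)`, `q ∈ Q`, then `x` centralizes `Q` -/
theorem ZH_stab {G : Type u} [Group G] [Finite G] {x : G} (hx : orderOf x = 3) {Q : Subgroup G}
    (hcard : Nat.card Q = 8) (hnorm : ∀ q ∈ Q, x * q * x⁻¹ ∈ Q)
    (hc : ∀ q ∈ Q, x * (q⁻¹ * (x * q * x⁻¹)) = (q⁻¹ * (x * q * x⁻¹)) * x) :
    ∀ q ∈ Q, x * q = q * x := by
  intro q hq
  set c := q⁻¹ * (x * q * x⁻¹) with hcdef
  have hcQ : c ∈ Q := Q.mul_mem (Q.inv_mem hq) (hnorm q hq)
  have hxc : x * c = c * x := hc q hq
  have hxc' : x * c * x⁻¹ = c := by rw [hxc]; group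
  have h1 : x * q * x⁻¹ = q * c := by rw [hcdef]; group
  have key : ∀ k : ℕ, x ^ k * q * (x ^ k)⁻¹ = q * c ^ k := by
    intro k
    induction k with
    | zero => simp
    | succ k ih =>
      have e1 : x ^ (k + 1) * q * (x ^ (k + 1))⁻¹ = x * (x ^ k * q * (x ^ k)⁻¹) * x⁻¹ := by
        rw [pow_succ']; group
      have e2 : x * (q * c ^ k) * x⁻¹ = (x * q * x⁻¹) * (x * c * x⁻¹) ^ k := by
        rw [conj_pow]; group
      rw [e1, ih, e2, h1, hxc', pow_succ, mul_assoc]
      congr 1
      exact (pow_mul_comm' c k).symm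
  have h3 := key 3
  have hx3 : x ^ 3 = 1 := by rw [← hx]; exact pow_orderOf_eq_one x
  rw [hx3] at h3
  have hc3 : c ^ 3 = 1 := by
    have : q = q * c ^ 3 := by simpa using h3
    exact (mul_eq_left.mp this.symm)
  have hc1 : c = 1 := ZF_eq_one_of_pow (ZF_pow_eight hcard hcQ) hc3
  rw [hc1, mul_one] at h1
  calc x * q = x * q * x⁻¹ * x := by group
    _ = q * x := by rw [h1]

end Cfsg.Agent.ZassL
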