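import Mathlib
import Cfsg.Agent.Lib.Zass.HIsoLA

set_option autoImplicit false
set_option linter.style.haveILetI false
set_option linter.unusedVariables false
set_option linter.unusedSectionVars false

namespace Cfsg.Agent.ZassL

open Cfsg.Agent.S3358L

universe u

local notation "SL25" => Matrix.SpecialLinearGroup (Fin 2) (ZMod 5)

variable {G : Type u} [Group G] [Finite G] {n : ℕ}
  {ρ : G →* Matrix.GeneralLinearGroup (Fin n) ℂ}

/-- an abelian subgroup of index at most 2 in a subgroup `H ⊇ Q ⊔ ⟨x⟩` is impossible -/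
theorem ZH_no_abelian {x : G} (hx : orderOf x = 3) {Q : Subgroup G} (hQ : Q ∈ QSet x)
    (H : Subgroup G) (hQH : Q ≤ H) (hxH : x ∈ H) (A : Subgroup H)
    (hA : ∀ a ∈ A, ∀ b ∈ A, a * b = b * a) (hidx : A.index = 1 ∨ A.index = 2) : False := by
  obtain ⟨hcard, hnorm, q₀, hq₀, hne⟩ := hQ
  have hsq : ∀ h : H, h * h ∈ A := by
    intro h
    rcases hidx with h1 | h2
    · rw [Subgroup.index_eq_one.mp h1]; exact Subgroup.mem_top _
    · exact Subgroup.mul_self_mem_of_index_two h2 h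
  have hcomm : ∀ a b : H, a * b * a⁻¹ * b⁻¹ ∈ A := by
    intro a b
    rcases hidx with h1 | h2
    · rw [Subgroup.index_eq_one.mp h1]; exact Subgroup.mem_top _
    · have hle := Cfsg.Agent.S3378.commutator_le_of_index_two A h2
      apply hle
      rw [commutator_def, ← commutatorElement_def]
      exact Subgroup.commutator_mem_commutator (Subgroup.mem_top a) (Subgroup.mem_top b)
  set xH : H := ⟨x, hxH⟩ with hxHdef
  have hx3 : x ^ 3 = 1 := by rw [← hx]; exact pow_orderOf_eq_one x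
  have hxA : xH ∈ A := by
    have h1 : xH = (xH * xH) * (xH * xH) := by
      apply Subtype.ext
      show x = (x * x) * (x * x)
      calc x = x ^ 3 * x := by rw [hx3, one_mul]
        _ = (x * x) * (x * x) := by simp only [pow_succ, pow_zero, one_mul, mul_assoc]
    rw [h1]
    exact A.mul_mem (hsq xH) (hsq xH)
  apply hne
  apply ZH_stab hx hcard hnorm _ q₀ hq₀
  intro q hq
  set qH : H := ⟨q, hQH hq⟩ with hqHdef
  have hc : qH⁻¹ * xH * (qH⁻¹)⁻¹ * xH⁻¹ ∈ A := hcomm qH⁻¹ xH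
  have := hA _ hxA _ hc
  have h2 := congrArg (fun h : H => (h : G)) this
  simp only [Subgroup.coe_mul, Subgroup.coe_inv, inv_inv, hxHdef, hqHdef] at h2
  calc x * (q⁻¹ * (x * q * x⁻¹)) = x * (q⁻¹ * x * q * x⁻¹) := by group
    _ = q⁻¹ * x * q * x⁻¹ * x := h2
    _ = q⁻¹ * (x * q * x⁻¹) * x := by group

/-- if `⟨x⟩` is normalized by `Q ∈ QSet x` we get a contradiction -/
theorem ZH_not_normal {x : G} (hx : orderOf x = 3) {Q : Subgroup G} (hQ : Q ∈ QSet x)
    (h : ∀ q ∈ Q, q * x * q⁻¹ ∈ Subgroup.zpowers x) : False := by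
  obtain ⟨hcard, hnorm, q₀, hq₀, hne⟩ := hQ
  apply hne
  set c := q₀ * x * q₀⁻¹ * x⁻¹ with hc
  have h1 : c ∈ Subgroup.zpowers x :=
    Subgroup.mul_mem _ (h q₀ hq₀) (Subgroup.inv_mem _ (Subgroup.mem_zpowers x))
  have h2 : c ∈ Q := by
    have : c = q₀ * (x * q₀⁻¹ * x⁻¹) := by rw [hc]; group
    rw [this]
    exact Q.mul_mem hq₀ (hnorm _ (Q.inv_mem hq₀))
  have h3 : c ∈ Q ⊓ Subgroup.zpowers x := ⟨h2, h1⟩
  rw [ZF_inf_eq_bot hx hcard, Subgroup.mem_bot] at h3
  calc x * q₀ = (q₀ * x * q₀⁻¹ * x⁻¹)⁻¹ * (q₀ * x) := by group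
    _ = q₀ * x := by rw [← hc, h3]; simp

end Cfsg.Agent.ZassL
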