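import Mathlib
import Cfsg.Agent.Lib.Zass.HIsoLB

set_option autoImplicit false
set_option linter.style.haveILetI false
set_option linter.unusedVariables false
set_option linter.unusedSectionVars false

namespace Cfsg.Agent.ZassL

open Cfsg.Agent.S3358L

universe u

local notation "SL25" => Matrix.SpecialLinearGroup (Fin 2) (ZMod 5)

variable {G : Type u} [Group G] [Finite G] {n : ℕ}
  {ρ : G →* Matrix.GeneralLinearGroup (Fin n) ℂ}

/-- (E1), glue: `H = Q₁ ⊔ Q₂ ⊔ ⟨x⟩` with a free representation of degree 2 has order 120 and is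
`SL(2,5)`, given the recognition of groups of order 120 (`small_120`) -/
theorem ZH_iso_aux (hρ : IsFree ρ) (hn : 0 < n) {x : G} (hx : orderOf x = 3)
    {Q₁ Q₂ : Subgroup G} (h₁ : Q₁ ∈ QSet x) (h₂ : Q₂ ∈ QSet x) (hne : Q₁ ≠ Q₂)
    (H : Subgroup G) (hH : H = Q₁ ⊔ Q₂ ⊔ Subgroup.zpowers x)
    (σ : H →* Matrix.GeneralLinearGroup (Fin 2) ℂ) (hσ : IsFree σ)
    (h120 : ∀ (z x' : H), Nat.card H = 120 → orderOf z = 2 → (∀ t : H, orderOf t = 2 → t = z) →
      Nat.card (Subgroup.center H) = 2 → orderOf x' = 3 → ¬ (Subgroup.zpowers x').Normal →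
      Nonempty (H ≃* SL25)) :
    Nat.card H = 120 ∧ Nonempty (H ≃* SL25) := by
  have hU : PU G := hρ.PU hn
  obtain ⟨u₁, v₁, f₁, e₁⟩ := ZF_frame_of_mem_QSet hU hx h₁
  obtain ⟨u₂, v₂, f₂, e₂⟩ := ZF_frame_of_mem_QSet hU hx h₂
  have hQ1H : Q₁ ≤ H := hH ▸ le_trans le_sup_left le_sup_left
  have hQ2H : Q₂ ≤ H := hH ▸ le_trans le_sup_right le_sup_left
  have hzH : Subgroup.zpowers x ≤ H := hH ▸ le_sup_right
  have hxH : x ∈ H := hzH (Subgroup.mem_zpowers x)
  have hu1 : u₁ ∈ Q₁ := e₁ ▸ Subgroup.subset_closure (by simp)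
  have hv1 : v₁ ∈ Q₁ := e₁ ▸ Subgroup.subset_closure (by simp)
  have hu2 : u₂ ∈ Q₂ := e₂ ▸ Subgroup.subset_closure (by simp)
  have hv2 : v₂ ∈ Q₂ := e₂ ▸ Subgroup.subset_closure (by simp)
  -- the central involution
  set z := u₁ ^ 2 with hzdef
  have hz2 : orderOf z = 2 := by
    rw [hzdef, orderOf_pow' u₁ (by norm_num), f₁.ou]; norm_num
  have hzH' : z ∈ H := hQ1H (Q₁.pow_mem hu1 2)
  set zH : H := ⟨z, hzH'⟩ with hzHdef
  have hzH2 : orderOf zH = 2 := by rw [← hz2, ← Subgroup.orderOf_coe]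
  have hzc : zH ∈ Subgroup.center H := by
    rw [Subgroup.mem_center_iff]
    intro g
    apply Subtype.ext
    exact hρ.involution_comm hn hz2 g
  have huniq : ∀ t : H, orderOf t = 2 → t = zH := by
    intro t ht
    apply Subtype.ext
    have : orderOf (t : G) = 2 := by rw [Subgroup.orderOf_coe, ht]
    exact hρ.unique_involution hn this hz2
  set xH : H := ⟨x, hxH⟩ with hxHdef
  have hxH3 : orderOf xH = 3 := by rw [← hx, ← Subgroup.orderOf_coe]
  -- non-central generators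
  have hnc_frame : ∀ {u v : G}, IsFrame x u v → ∀ (hu : u ∈ H) (hv : v ∈ H),
      (⟨u, hu⟩ : H) ∉ Subgroup.center H ∧ (⟨v, hv⟩ : H) ∉ Subgroup.center H := by
    intro u v f hu hv
    have hne' : u ≠ u⁻¹ := by
      intro h
      have h2 : u ^ 2 = 1 := by rw [pow_two]; nth_rw 2 [h]; exact mul_inv_cancel u
      have := orderOf_dvd_of_pow_eq_one h2
      rw [f.ou] at this
      omega
    constructor
    · intro hc
      rw [Subgroup.mem_center_iff] at hc
      have := congrArg (fun h : H => (h : G)) (hc ⟨v, hv⟩)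
      simp only [Subgroup.coe_mul] at this
      apply hne'
      rw [← f.hq, this]; group
    · intro hc
      rw [Subgroup.mem_center_iff] at hc
      have := congrArg (fun h : H => (h : G)) (hc ⟨u, hu⟩)
      simp only [Subgroup.coe_mul] at this
      apply hne'
      rw [← f.hq, ← this]; group
  have hxnc : xH ∉ Subgroup.center H := by
    intro hc
    obtain ⟨-, -, q₀, hq₀, hne0⟩ := h₁
    rw [Subgroup.mem_center_iff] at hc
    have := congrArg (fun h : H => (h : G)) (hc ⟨q₀, hQ1H hq₀⟩)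
    simp only [Subgroup.coe_mul] at this
    exact hne0 this.symm
  -- generating set
  set S : Set H := {s | (orderOf s = 3 ∨ orderOf s = 4) ∧ s ∉ Subgroup.center H} with hSdef
  have hxS : xH ∈ S := ⟨Or.inl hxH3, hxnc⟩
  have hfS : ∀ {u v : G}, IsFrame x u v → ∀ (hu : u ∈ H) (hv : v ∈ H),
      (⟨u, hu⟩ : H) ∈ S ∧ (⟨v, hv⟩ : H) ∈ S := by
    intro u v f hu hv
    obtain ⟨a, b⟩ := hnc_frame f hu hv
    refine ⟨⟨Or.inr ?_, a⟩, ⟨Or.inr ?_, b⟩⟩
    · rw [← f.ou, ← Subgroup.orderOf_coe]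
    · have hov : orderOf v = 4 := by
        rw [← f.hv, ← f.ou]
        exact (MulAut.conj x).orderOf_eq u
      rw [← hov, ← Subgroup.orderOf_coe]
  have hS : Subgroup.closure S = ⊤ := by
    rw [eq_top_iff]
    have hle : H ≤ (Subgroup.closure S).map H.subtype := by
      have hmem : ∀ (g : G) (hg : g ∈ H), (⟨g, hg⟩ : H) ∈ S → g ∈ (Subgroup.closure S).map H.subtype :=
        fun g hg hs => ⟨⟨g, hg⟩, Subgroup.subset_closure hs, rfl⟩
      have hf1 := hfS f₁ (hQ1H hu1) (hQ1H hv1)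
      have hf2 := hfS f₂ (hQ2H hu2) (hQ2H hv2)
      have hH' : H ≤ Q₁ ⊔ Q₂ ⊔ Subgroup.zpowers x := hH.le
      refine le_trans hH' (sup_le (sup_le ?_ ?_) ?_)
      · rw [e₁, Subgroup.closure_le]
        intro g hg
        rcases hg with rfl | hg
        · exact hmem _ _ hf1.1
        · rw [Set.mem_singleton_iff] at hg; subst hg; exact hmem _ _ hf1.2
      · rw [e₂, Subgroup.closure_le]
        intro g hg
        rcases hg with rfl | hg
        · exact hmem _ _ hf2.1
        · rw [Set.mem_singleton_iff] at hg; subst hg; exact hmem _ _ hf2.2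
      · rw [Subgroup.zpowers_le]
        exact hmem _ _ hxS
    intro h _
    obtain ⟨s, hs, hsh⟩ := hle h.2
    have : s = h := Subtype.ext hsh
    rw [← this]; exact hs
  have hcen_le : Nat.card (Subgroup.center H) ≤ 2 :=
    ZH_card_center_le σ hσ S hS (fun s hs => hs) ⟨xH, hxS⟩
  have hcen : Nat.card (Subgroup.center H) = 2 := by
    have h2 : orderOf (⟨zH, hzc⟩ : Subgroup.center H) = 2 := by
      rw [← hzH2, ← Subgroup.orderOf_coe]
    have hd : 2 ∣ Nat.card (Subgroup.center H) := h2 ▸ orderOf_dvd_natCard _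
    have hpos : 0 < Nat.card (Subgroup.center H) := Nat.card_pos
    obtain ⟨k, hk⟩ := hd
    omega
  -- `⟨x⟩` is not normal in `H`
  have hxn : ¬ (Subgroup.zpowers xH).Normal := by
    intro hnorm
    apply ZH_not_normal hx h₁
    intro q hq
    have := hnorm.conj_mem xH (Subgroup.mem_zpowers xH) ⟨q, hQ1H hq⟩
    obtain ⟨k, hk⟩ := Subgroup.mem_zpowers_iff.mp this
    rw [Subgroup.mem_zpowers_iff]
    refine ⟨k, ?_⟩
    have := congrArg (fun h : H => (h : G)) hk
    simpa using this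
  have hcardH : Nat.card H = Nat.card (Subgroup.center H) * (Subgroup.center H).index :=
    (Subgroup.card_mul_index _).symm
  rw [hcen] at hcardH
  have hQ1Z : Q₁ ⊔ Subgroup.zpowers x ≤ H := sup_le hQ1H hzH
  have hQ2Z : Q₂ ⊔ Subgroup.zpowers x ≤ H := sup_le hQ2H hzH
  rcases deg2_cases σ hσ with ⟨A, hA, hidx⟩ | h12 | h24 | h60
  · exact (ZH_no_abelian hx h₁ H hQ1H hxH A hA hidx).elim
  · -- `|H| = 24`
    exfalso
    rw [h12] at hcardH
    have heq : Q₁ ⊔ Subgroup.zpowers x = H :=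
      Subgroup.eq_of_le_of_card_ge hQ1Z (by rw [ZF_card_sup hx h₁, hcardH])
    apply hne
    exact (ZF_unique_order8 hx h₁ Q₂ (heq ▸ hQ2H) h₂.1).symm
  · -- `|H| = 48`
    exfalso
    rw [h24] at hcardH
    obtain ⟨Q, hQn, hQ, hidx, hall⟩ := small_48 (by rw [hcardH]) hzH2 huniq hcen hxH3 hxn
    set K : Subgroup G := (Q ⊔ Subgroup.zpowers xH).map H.subtype with hK
    have hKcard : Nat.card K = 24 := by
      rw [hK, Subgroup.card_map_of_injective H.subtype_injective]
      have := Subgroup.card_mul_index (Q ⊔ Subgroup.zpowers xH)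
      rw [hidx, hcardH] at this
      omega
    have hK3 : ∀ y : G, y ∈ H → orderOf y = 3 → y ∈ K := by
      intro y hy hy3
      refine ⟨⟨y, hy⟩, hall ⟨y, hy⟩ ?_, rfl⟩
      rw [← hy3, ← Subgroup.orderOf_coe]
    have key : ∀ Q' ∈ QSet x, Q' ≤ H → Q' ⊔ Subgroup.zpowers x = K := by
      intro Q' hQ' hQ'H
      have hle : Q' ⊔ Subgroup.zpowers x ≤ K := by
        obtain ⟨w, hw⟩ := ZF_f2_of_PU hU hx hQ'
        have hsub : Subgroup.closure {x, w * x * w⁻¹} ≤ H := hw ▸ sup_le hQ'H hzH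
        rw [hw, Subgroup.closure_le]
        intro g hg
        have hgH : g ∈ H := hsub (Subgroup.subset_closure hg)
        rcases hg with rfl | hg
        · exact hK3 _ hgH hx
        · rw [Set.mem_singleton_iff] at hg
          subst hg
          apply hK3 _ hgH
          rw [← hx]
          exact (MulAut.conj w).orderOf_eq x
      exact Subgroup.eq_of_le_of_card_ge hle (by rw [ZF_card_sup hx hQ', hKcard])
    have k1 := key Q₁ h₁ hQ1H
    have k2 := key Q₂ h₂ hQ2H
    apply hne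
    refine (ZF_unique_order8 hx h₁ Q₂ ?_ h₂.1).symm
    rw [k1, ← k2]
    exact le_sup_left
  · -- `|H| = 120`
    rw [h60] at hcardH
    have hc : Nat.card H = 120 := by rw [hcardH]
    exact ⟨hc, h120 zH xH hc hzH2 huniq hcen hxH3 hxn⟩

end Cfsg.Agent.ZassL
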