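import Mathlib
import Cfsg.Agent.Lib.Zass.BasicC

/-! # Zassenhaus cluster, slice ZB: the planar lemma and restriction to invariant subspaces
(helper8)

* `exists_free_of_invariant`: an invariant subspace of dimension `m` of a free representation
  carries a free representation of degree `m`.
* `planar`: two endomorphisms satisfying monic quadratic equations have a common invariant
  subspace of dimension `1` or `2`.
* `exists_free_closure_pair`: for `x`, `y` of orders in `{3, 4, 6}`, the subgroup `closure {x, y}`
  has a free representation of degree `1` or `2`.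
-/

set_option autoImplicit false

namespace Cfsg.Agent.ZassL

universe u

section restrict

variable {G : Type u} [Group G] {n : ℕ} {ρ : G →* Matrix.GeneralLinearGroup (Fin n) ℂ}

/-- the representation restricted to an invariant subspace -/
noncomputable def resHom (ρ : G →* Matrix.GeneralLinearGroup (Fin n) ℂ)
    (W : Submodule ℂ (Fin n → ℂ)) (hW : ∀ g : G, ∀ w ∈ W, (mat ρ g).mulVec w ∈ W) :
    G →* Module.End ℂ W where
  toFun g := (endHom ρ g).restrict (fun w hw => by rw [endHom_apply]; exact hW g w hw)
  map_one' := by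
    apply LinearMap.ext
    intro w
    apply Subtype.ext
    simp
  map_mul' g h := by
    apply LinearMap.ext
    intro w
    apply Subtype.ext
    simp

theorem resHom_coe (W : Submodule ℂ (Fin n → ℂ))
    (hW : ∀ g : G, ∀ w ∈ W, (mat ρ g).mulVec w ∈ W) (g : G) (w : W) :
    ((resHom ρ W hW g w : W) : Fin n → ℂ) = (mat ρ g).mulVec (w : Fin n → ℂ) := by
  have : ((resHom ρ W hW g w : W) : Fin n → ℂ) = endHom ρ g (w : Fin n → ℂ) := rfl
  rw [this, endHom_apply]

/-- an invariant subspace of dimension `m` gives a free representation of degree `m` -/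
theorem exists_free_of_invariant (hρ : IsFree ρ) (W : Submodule ℂ (Fin n → ℂ))
    (hW : ∀ g : G, ∀ w ∈ W, (mat ρ g).mulVec w ∈ W) {m : ℕ} (hm : Module.finrank ℂ W = m) :
    ∃ σ : G →* Matrix.GeneralLinearGroup (Fin m) ℂ, IsFree σ := by
  classical
  let b : Module.Basis (Fin m) ℂ W := Module.finBasisOfFinrankEq ℂ W hm
  let σ₀ : G →* Matrix (Fin m) (Fin m) ℂ :=
    ((LinearMap.toMatrixAlgEquiv b : Module.End ℂ W ≃ₐ[ℂ] Matrix (Fin m) (Fin m) ℂ) :
      Module.End ℂ W →* Matrix (Fin m) (Fin m) ℂ).comp (resHom ρ W hW)
  refine ⟨σ₀.toHomUnits, ?_⟩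
  intro g hg v hv
  change (LinearMap.toMatrix b b (resHom ρ W hW g)).mulVec v = v at hv
  set w : W := b.repr.symm (Finsupp.equivFunOnFinite.symm v) with hw
  have hrepr : (b.repr w : Fin m → ℂ) = v := by
    rw [hw, LinearEquiv.apply_symm_apply]
    rfl
  have h1 := LinearMap.toMatrix_mulVec_repr b b (resHom ρ W hW g) w
  rw [hrepr, hv] at h1
  have h2 : b.repr (resHom ρ W hW g w) = b.repr w := by
    apply Finsupp.ext
    intro i
    have := congrFun h1 i
    rw [← this]
    exact (congrFun hrepr i).symm
  have h3 : resHom ρ W hW g w = w := b.repr.injective h2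
  have h4 : (mat ρ g).mulVec (w : Fin n → ℂ) = (w : Fin n → ℂ) := by
    rw [← resHom_coe W hW g w, h3]
  have h5 : (w : Fin n → ℂ) = 0 := hρ g hg _ h4
  have h6 : w = 0 := Subtype.ext h5
  rw [h6, map_zero] at hrepr
  rw [← hrepr]
  rfl

end restrict

section planar

variable {V : Type*} [AddCommGroup V] [Module ℂ V] [FiniteDimensional ℂ V] [Nontrivial V]

/-- **planar lemma**: two endomorphisms with monic quadratic equations have a common invariant
subspace of dimension `1` or `2` -/
theorem planar (A B : Module.End ℂ V) (p₁ p₀ q₁ q₀ : ℂ) (hA : A * A = p₁ • A + p₀ • 1)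
    (hB : B * B = q₁ • B + q₀ • 1) :
    ∃ W : Submodule ℂ V, W ≠ ⊥ ∧ Module.finrank ℂ W ≤ 2 ∧ (∀ w ∈ W, A w ∈ W) ∧
      (∀ w ∈ W, B w ∈ W) := by
  classical
  set S : Module.End ℂ V := A * B + B * A - q₁ • A - p₁ • B with hS
  have hSA : S * A = A * S := by
    have : S * A - A * S = B * (A * A) - (A * A) * B - p₁ • (B * A - A * B) := by
      rw [hS]
      simp only [sub_mul, mul_sub, add_mul, mul_add, smul_mul_assoc, mul_smul_comm, mul_assoc,
        smul_sub]
      abel
    rw [hA] at this
    have h2 : B * (p₁ • A + p₀ • 1) - (p₁ • A + p₀ • 1) * B - p₁ • (B * A - A * B) = 0 := by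
      simp only [add_mul, mul_add, smul_mul_assoc, mul_smul_comm, mul_one,
        one_mul, smul_sub]
      abel
    rw [h2] at this
    exact sub_eq_zero.mp this
  -- an eigenspace of `S`, an eigenvector of `A` inside
  obtain ⟨γ, hγ⟩ := Module.End.exists_eigenvalue S
  set W₀ := Module.End.eigenspace S γ with hW₀
  have hW₀ne : W₀ ≠ ⊥ := hγ
  have hW₀A : ∀ w ∈ W₀, A w ∈ W₀ := by
    intro w hw
    rw [hW₀, Module.End.mem_eigenspace_iff] at hw ⊢
    have := LinearMap.congr_fun hSA w
    simp only [Module.End.mul_apply] at this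
    rw [this, hw, map_smul]
  obtain ⟨α, w, hwW, hw0, hαw⟩ :=
    Cfsg.Agent.Lib.Helper8.FpfPair.exists_eigenvector_mem W₀ hW₀ne A hW₀A
  have hSw : S w = γ • w := Module.End.mem_eigenspace_iff.mp hwW
  refine ⟨Submodule.span ℂ {w, B w}, ?_, ?_, ?_, ?_⟩
  · intro h
    apply hw0
    have : w ∈ Submodule.span ℂ ({w, B w} : Set V) := Submodule.subset_span (by simp)
    rw [h] at this
    exact (Submodule.mem_bot ℂ).mp this
  · have h1 := finrank_span_finset_le_card (R := ℂ) ({w, B w} : Finset V)
    have h2 : (({w, B w} : Finset V) : Set V) = {w, B w} := by simp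
    rw [Set.finrank, h2] at h1
    exact h1.trans Finset.card_le_two
  · -- `A`-invariance
    have hw_mem : w ∈ Submodule.span ℂ ({w, B w} : Set V) := Submodule.subset_span (by simp)
    have hBw_mem : B w ∈ Submodule.span ℂ ({w, B w} : Set V) := Submodule.subset_span (by simp)
    have hABw : A (B w) = γ • w - α • B w + (q₁ * α) • w + p₁ • B w := by
      have h1 : S w = A (B w) + B (A w) - q₁ • A w - p₁ • B w := by
        rw [hS]
        simp [LinearMap.sub_apply, LinearMap.add_apply, Module.End.mul_apply]
      rw [hSw, hαw, map_smul, smul_smul] at h1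
      rw [h1]
      abel
    intro u hu
    induction hu using Submodule.span_induction with
    | mem u hu =>
      rcases hu with rfl | rfl
      · rw [hαw]; exact Submodule.smul_mem _ _ hw_mem
      · rw [hABw]
        exact Submodule.add_mem _ (Submodule.add_mem _ (Submodule.sub_mem _
          (Submodule.smul_mem _ _ hw_mem) (Submodule.smul_mem _ _ hBw_mem))
          (Submodule.smul_mem _ _ hw_mem)) (Submodule.smul_mem _ _ hBw_mem)
    | zero => rw [map_zero]; exact Submodule.zero_mem _
    | add u v _ _ hu hv => rw [map_add]; exact Submodule.add_mem _ hu hv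
    | smul c u _ hu => rw [map_smul]; exact Submodule.smul_mem _ _ hu
  · -- `B`-invariance
    have hw_mem : w ∈ Submodule.span ℂ ({w, B w} : Set V) := Submodule.subset_span (by simp)
    have hBw_mem : B w ∈ Submodule.span ℂ ({w, B w} : Set V) := Submodule.subset_span (by simp)
    have hBBw : B (B w) = q₁ • B w + q₀ • w := by
      have := LinearMap.congr_fun hB w
      simpa [Module.End.mul_apply] using this
    intro u hu
    induction hu using Submodule.span_induction with
    | mem u hu =>
      rcases hu with rfl | rfl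
      · exact hBw_mem
      · rw [hBBw]
        exact Submodule.add_mem _ (Submodule.smul_mem _ _ hBw_mem) (Submodule.smul_mem _ _ hw_mem)
    | zero => rw [map_zero]; exact Submodule.zero_mem _
    | add u v _ _ hu hv => rw [map_add]; exact Submodule.add_mem _ hu hv
    | smul c u _ hu => rw [map_smul]; exact Submodule.smul_mem _ _ hu

end planar

end Cfsg.Agent.ZassL
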