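import Mathlib
import Cfsg.Agent.Lib.Zass.Planar

/-! # Zassenhaus cluster, slice ZB (2): a free representation of degree `≤ 2` on `closure {x, y}`
(helper8) -/

set_option autoImplicit false

namespace Cfsg.Agent.ZassL

universe u

variable {G : Type u} [Group G] {n : ℕ} {ρ : G →* Matrix.GeneralLinearGroup (Fin n) ℂ}

/-- the quadratic equation of an element of order `3`, `4` or `6` -/
theorem IsFree.quad_of_order (hρ : IsFree ρ) {x : G}
    (h : orderOf x = 3 ∨ orderOf x = 4 ∨ orderOf x = 6) :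
    ∃ p₁ p₀ : ℂ, mat ρ x * mat ρ x = p₁ • mat ρ x + p₀ • 1 := by
  rcases h with h | h | h
  · refine ⟨-1, -1, ?_⟩
    have := hρ.mat_order_three' h
    have e : mat ρ x * mat ρ x = -(mat ρ x) - 1 := by
      rw [← sub_eq_zero, ← this]; abel
    rw [e]; simp [sub_eq_add_neg]
  · refine ⟨0, -1, ?_⟩
    rw [hρ.mat_order_four' h]; simp
  · refine ⟨1, -1, ?_⟩
    have := hρ.mat_order_six' h
    have e : mat ρ x * mat ρ x = mat ρ x - 1 := by
      rw [← sub_eq_zero, ← this]; abel
    rw [e]; simp [sub_eq_add_neg]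

/-- invariance under `g` gives invariance under `g⁻¹` (finite order) -/
theorem invariant_inv [Finite G] (W : Submodule ℂ (Fin n → ℂ)) {g : G}
    (hg : ∀ w ∈ W, (mat ρ g).mulVec w ∈ W) : ∀ w ∈ W, (mat ρ g⁻¹).mulVec w ∈ W := by
  have hpow : ∀ k : ℕ, ∀ w ∈ W, (mat ρ (g ^ k)).mulVec w ∈ W := by
    intro k
    induction k with
    | zero => intro w hw; rw [pow_zero, mat_one, Matrix.one_mulVec]; exact hw
    | succ k ih =>
      intro w hw
      rw [pow_succ, mat_mul, ← Matrix.mulVec_mulVec]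
      exact ih _ (hg w hw)
  have hinv : g⁻¹ = g ^ (orderOf g - 1) := by
    rw [inv_eq_iff_mul_eq_one, ← pow_succ', Nat.sub_add_cancel (orderOf_pos g), pow_orderOf_eq_one]
  rw [hinv]
  exact hpow _

/-- for `x`, `y` satisfying quadratic equations, `closure {x, y}` has a free representation of
degree `1` or `2` -/
theorem exists_free_closure_pair [Finite G] (hρ : IsFree ρ) (hn : 0 < n) {x y : G}
    {p₁ p₀ q₁ q₀ : ℂ} (hx : mat ρ x * mat ρ x = p₁ • mat ρ x + p₀ • 1)
    (hy : mat ρ y * mat ρ y = q₁ • mat ρ y + q₀ • 1) :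
    ∃ m : ℕ, (m = 1 ∨ m = 2) ∧
      ∃ σ : ↥(Subgroup.closure ({x, y} : Set G)) →* Matrix.GeneralLinearGroup (Fin m) ℂ,
        IsFree σ := by
  classical
  have := nontrivial_of_pos hn
  have hA : endHom ρ x * endHom ρ x = p₁ • endHom ρ x + p₀ • 1 := by
    rw [endHom_eq, ← map_mul, hx, map_add, map_smul, map_smul, map_one]
  have hB : endHom ρ y * endHom ρ y = q₁ • endHom ρ y + q₀ • 1 := by
    rw [endHom_eq, ← map_mul, hy, map_add, map_smul, map_smul, map_one]
  obtain ⟨W, hWne, hWle, hWA, hWB⟩ := planar (endHom ρ x) (endHom ρ y) p₁ p₀ q₁ q₀ hA hB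
  have hWx : ∀ w ∈ W, (mat ρ x).mulVec w ∈ W := by
    intro w hw; rw [← endHom_apply]; exact hWA w hw
  have hWy : ∀ w ∈ W, (mat ρ y).mulVec w ∈ W := by
    intro w hw; rw [← endHom_apply]; exact hWB w hw
  have hWall : ∀ g ∈ Subgroup.closure ({x, y} : Set G), ∀ w ∈ W, (mat ρ g).mulVec w ∈ W := by
    intro g hg
    induction hg using Subgroup.closure_induction with
    | mem g hg =>
      rcases hg with rfl | rfl
      · exact hWx
      · exact hWy
    | one => intro w hw; rw [mat_one, Matrix.one_mulVec]; exact hw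
    | mul g h _ _ ihg ihh =>
      intro w hw
      rw [mat_mul, ← Matrix.mulVec_mulVec]
      exact ihg _ (ihh w hw)
    | inv g _ ih => exact invariant_inv W ih
  set B := Subgroup.closure ({x, y} : Set G) with hBdef
  have hρB : IsFree (ρ.comp B.subtype) := hρ.subgroup B
  have hWB' : ∀ g : B, ∀ w ∈ W, (mat (ρ.comp B.subtype) g).mulVec w ∈ W := by
    intro g w hw
    exact hWall g.1 g.2 w hw
  have hpos : 0 < Module.finrank ℂ W := by
    rw [Module.finrank_pos_iff]
    exact Submodule.nontrivial_iff_ne_bot.mpr hWne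
  obtain ⟨σ, hσ⟩ := exists_free_of_invariant hρB W hWB' rfl
  refine ⟨Module.finrank ℂ W, ?_, σ, hσ⟩
  omega

end Cfsg.Agent.ZassL
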