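import Mathlib

/-! # Zassenhaus cluster, ring side (helper7): quaternion frames in a `ℚ`-algebra

A *frame* is a pair `i j` with `i² = j² = -1`, `ji = -ij`.  Every element `X` decomposes uniquely as
`X = c₀ + c₁ i + c₂ j + c₃ ij` with the `c`'s commuting with `i` and `j`. -/

set_option autoImplicit false
set_option linter.unusedSimpArgs false
set_option linter.unusedSectionVars false

namespace Cfsg.Agent.ZassL

variable {E : Type*} [Ring E] [Algebra ℚ E]

/-- a quaternion frame -/
structure QF (i j : E) : Prop where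
  ii : i * i = -1
  jj : j * j = -1
  ji : j * i = -(i * j)

/-- `a` commutes with `i` and `j` -/
structure CommIJ (i j a : E) : Prop where
  ci : i * a = a * i
  cj : j * a = a * j

namespace CommIJ

variable {i j a b : E}

theorem ci' (h : CommIJ i j a) (X : E) : i * (a * X) = a * (i * X) := by
  rw [← mul_assoc, h.ci, mul_assoc]
theorem cj' (h : CommIJ i j a) (X : E) : j * (a * X) = a * (j * X) := by
  rw [← mul_assoc, h.cj, mul_assoc]

theorem zero : CommIJ i j (0 : E) := ⟨by simp, by simp⟩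
theorem one : CommIJ i j (1 : E) := ⟨by simp, by simp⟩
theorem add (ha : CommIJ i j a) (hb : CommIJ i j b) : CommIJ i j (a + b) :=
  ⟨by rw [mul_add, add_mul, ha.ci, hb.ci], by rw [mul_add, add_mul, ha.cj, hb.cj]⟩
theorem neg (ha : CommIJ i j a) : CommIJ i j (-a) :=
  ⟨by rw [mul_neg, neg_mul, ha.ci], by rw [mul_neg, neg_mul, ha.cj]⟩
theorem sub (ha : CommIJ i j a) (hb : CommIJ i j b) : CommIJ i j (a - b) :=
  ⟨by rw [mul_sub, sub_mul, ha.ci, hb.ci], by rw [mul_sub, sub_mul, ha.cj, hb.cj]⟩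
theorem mul (ha : CommIJ i j a) (hb : CommIJ i j b) : CommIJ i j (a * b) :=
  ⟨by rw [← mul_assoc, ha.ci, mul_assoc, hb.ci, mul_assoc],
   by rw [← mul_assoc, ha.cj, mul_assoc, hb.cj, mul_assoc]⟩
theorem smul (q : ℚ) (ha : CommIJ i j a) : CommIJ i j (q • a) :=
  ⟨by rw [mul_smul_comm, smul_mul_assoc, ha.ci], by rw [mul_smul_comm, smul_mul_assoc, ha.cj]⟩

end CommIJ

namespace QF

variable {i j : E}

theorem ii' (h : QF i j) (X : E) : i * (i * X) = -X := by rw [← mul_assoc, h.ii]; simp
theorem jj' (h : QF i j) (X : E) : j * (j * X) = -X := by rw [← mul_assoc, h.jj]; simp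
theorem ji' (h : QF i j) (X : E) : j * (i * X) = -(i * (j * X)) := by
  rw [← mul_assoc, h.ji]; simp [mul_assoc]

/-- the scalar component of `X` with respect to the frame -/
noncomputable def c0 (i j X : E) : E :=
  (1 / 4 : ℚ) • (X - i * X * i - j * X * j - i * j * X * (i * j))

theorem c0_comm (h : QF i j) (X : E) : CommIJ i j (c0 i j X) := by
  constructor
  · unfold c0
    simp only [mul_smul_comm, smul_mul_assoc, mul_sub, sub_mul, mul_add, add_mul, mul_assoc, h.ii',
      h.jj', h.ji', h.ii, h.jj, h.ji, mul_neg, neg_mul, neg_neg, mul_one, sub_neg_eq_add]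
    congr 1
    abel
  · unfold c0
    simp only [mul_smul_comm, smul_mul_assoc, mul_sub, sub_mul, mul_add, add_mul, mul_assoc, h.ii',
      h.jj', h.ji', h.ii, h.jj, h.ji, mul_neg, neg_mul, neg_neg, mul_one, sub_neg_eq_add]
    congr 1
    abel

theorem decomp (h : QF i j) (X : E) :
    X = c0 i j X - c0 i j (X * i) * i - c0 i j (X * j) * j - c0 i j (X * (i * j)) * (i * j) := by
  unfold c0
  simp only [mul_smul_comm, smul_mul_assoc, mul_sub, sub_mul, mul_add, add_mul, mul_assoc, h.ii',
    h.jj', h.ji', h.ii, h.jj, h.ji, mul_neg, neg_mul, neg_neg, mul_one, sub_neg_eq_add]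
  module

theorem c0_add (X Y : E) : c0 i j (X + Y) = c0 i j X + c0 i j Y := by
  unfold c0
  simp only [mul_add, add_mul]
  module

theorem c0_neg (X : E) : c0 i j (-X) = -c0 i j X := by
  unfold c0
  simp only [mul_neg, neg_mul]
  module

theorem c0_sub (X Y : E) : c0 i j (X - Y) = c0 i j X - c0 i j Y := by
  rw [sub_eq_add_neg, c0_add, c0_neg, ← sub_eq_add_neg]

theorem c0_smul (q : ℚ) (X : E) : c0 i j (q • X) = q • c0 i j X := by
  unfold c0
  simp only [mul_smul_comm, smul_mul_assoc]
  module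

theorem c0_zero : c0 i j (0 : E) = 0 := by
  unfold c0; simp

variable {a : E}

theorem c0_comm_mul (ha : CommIJ i j a) (X : E) : c0 i j (a * X) = a * c0 i j X := by
  unfold c0
  simp only [mul_assoc, ha.ci', ha.cj', mul_smul_comm, mul_sub]

theorem c0_one (h : QF i j) : c0 i j (1 : E) = 1 := by
  unfold c0
  simp only [mul_assoc, mul_one, one_mul, h.ii', h.jj', h.ji', h.ii, h.jj, h.ji, mul_neg, neg_mul,
    neg_neg, sub_neg_eq_add]
  module

theorem c0_i (h : QF i j) : c0 i j i = 0 := by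
  unfold c0
  simp only [mul_assoc, mul_one, one_mul, h.ii', h.jj', h.ji', h.ii, h.jj, h.ji, mul_neg, neg_mul,
    neg_neg, sub_neg_eq_add]
  module

theorem c0_j (h : QF i j) : c0 i j j = 0 := by
  unfold c0
  simp only [mul_assoc, mul_one, one_mul, h.ii', h.jj', h.ji', h.ii, h.jj, h.ji, mul_neg, neg_mul,
    neg_neg, sub_neg_eq_add]
  module

theorem c0_k (h : QF i j) : c0 i j (i * j) = 0 := by
  unfold c0
  simp only [mul_assoc, mul_one, one_mul, h.ii', h.jj', h.ji', h.ii, h.jj, h.ji, mul_neg, neg_mul,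
    neg_neg, sub_neg_eq_add]
  module

theorem c0_of_comm (h : QF i j) (ha : CommIJ i j a) : c0 i j a = a := by
  have := c0_comm_mul ha (1 : E)
  rw [mul_one, h.c0_one, mul_one] at this
  exact this

/-- uniqueness of the decomposition -/
theorem unique (h : QF i j) {a0 a1 a2 a3 : E} (h0 : CommIJ i j a0) (h1 : CommIJ i j a1)
    (h2 : CommIJ i j a2) (h3 : CommIJ i j a3)
    (hz : a0 + a1 * i + a2 * j + a3 * (i * j) = 0) : a0 = 0 ∧ a1 = 0 ∧ a2 = 0 ∧ a3 = 0 := by
  have key : ∀ b0 b1 b2 b3 : E, CommIJ i j b0 → CommIJ i j b1 → CommIJ i j b2 → CommIJ i j b3 →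
      b0 + b1 * i + b2 * j + b3 * (i * j) = 0 → b0 = 0 := by
    intro b0 b1 b2 b3 g0 g1 g2 g3 hb
    have := congrArg (c0 i j) hb
    rw [c0_add, c0_add, c0_add, c0_comm_mul g1, c0_comm_mul g2, c0_comm_mul g3, h.c0_i, h.c0_j,
      h.c0_k, h.c0_of_comm g0, c0_zero] at this
    simpa using this
  refine ⟨key a0 a1 a2 a3 h0 h1 h2 h3 hz, ?_, ?_, ?_⟩
  · -- multiply by `i` on the right
    have e : (-a1) + a0 * i + a3 * j + (-a2) * (i * j) = 0 := by
      have := congrArg (· * i) hz
      simp only [add_mul, zero_mul, mul_assoc, h.ii, h.ji, h.ii', h.ji', mul_neg, mul_one] at this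
      rw [← this]; noncomm_ring
    have := key (-a1) a0 a3 (-a2) h1.neg h0 h3 h2.neg e
    simpa using this
  · have e : (-a2) + (-a3) * i + a0 * j + a1 * (i * j) = 0 := by
      have := congrArg (· * j) hz
      simp only [add_mul, zero_mul, mul_assoc, h.jj, h.ji, h.jj', h.ji', mul_neg, mul_one] at this
      rw [← this]; noncomm_ring
    have := key (-a2) (-a3) a0 a1 h2.neg h3.neg h0 h1 e
    simpa using this
  · have e : (-a3) + a2 * i + (-a1) * j + a0 * (i * j) = 0 := by
      have := congrArg (· * (i * j)) hz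
      simp only [add_mul, zero_mul, mul_assoc, h.jj, h.ji, h.ii, h.ii', h.jj', h.ji', mul_neg, mul_one,
        neg_neg] at this
      rw [← this]; noncomm_ring
    have := key (-a3) a2 (-a1) a0 h3.neg h2 h1.neg h0 e
    simpa using this

end QF

end Cfsg.Agent.ZassL
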