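import Mathlib
import Cfsg.Agent.Lib.Zass.Frame

/-! # Zassenhaus cluster, ring side (helper7): an invariant plane for a quaternion frame and a
commuting operator -/

set_option autoImplicit false
set_option linter.unusedSimpArgs false
set_option linter.unusedSectionVars false

namespace Cfsg.Agent.ZassL

open Module

theorem exists_plane_end {V : Type*} [AddCommGroup V] [Module ℂ V] [FiniteDimensional ℂ V]
    [Nontrivial V] {i j D : Module.End ℂ V} (hii : i * i = -1) (hjj : j * j = -1)
    (hji : j * i = -(i * j)) (ci : i * D = D * i) (cj : j * D = D * j) :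
    ∃ W : Submodule ℂ V, Module.finrank ℂ W = 2 ∧ (∀ w ∈ W, i w ∈ W) ∧ (∀ w ∈ W, j w ∈ W) ∧
      (∀ w ∈ W, D w ∈ W) := by
  have hii' : ∀ v : V, i (i v) = -v := fun v => by
    have := congrArg (fun f : Module.End ℂ V => f v) hii
    simpa using this
  have hjj' : ∀ v : V, j (j v) = -v := fun v => by
    have := congrArg (fun f : Module.End ℂ V => f v) hjj
    simpa using this
  have hij' : ∀ v : V, i (j v) = -(j (i v)) := fun v => by
    have := congrArg (fun f : Module.End ℂ V => f v) hji
    simp only [Module.End.mul_apply, LinearMap.neg_apply] at this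
    rw [this, neg_neg]
  have ci' : ∀ v : V, D (i v) = i (D v) := fun v => by
    have := congrArg (fun f : Module.End ℂ V => f v) ci
    simpa using this.symm
  have cj' : ∀ v : V, D (j v) = j (D v) := fun v => by
    have := congrArg (fun f : Module.End ℂ V => f v) cj
    simpa using this.symm
  obtain ⟨s, hs⟩ := Module.End.exists_eigenvalue D
  obtain ⟨w₀, hw₀⟩ := hs.exists_hasEigenvector
  have e0 : D w₀ = s • w₀ := hw₀.apply_eq_smul
  have n0 : w₀ ≠ 0 := hw₀.2
  -- a common eigenvector of `D` and `i`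
  obtain ⟨w, ε, hw, hDw, hiw, hε⟩ : ∃ (w : V) (ε : ℂ), w ≠ 0 ∧ D w = s • w ∧ i w = ε • w ∧ ε ≠ 0 := by
    by_cases h : w₀ - Complex.I • i w₀ = 0
    · refine ⟨w₀, -Complex.I, n0, e0, ?_, by simp⟩
      have h1 : w₀ = Complex.I • i w₀ := sub_eq_zero.mp h
      have h2 : (-Complex.I) • w₀ = (-Complex.I) • (Complex.I • i w₀) := by rw [← h1]
      rw [h2, smul_smul]
      simp
    · refine ⟨w₀ - Complex.I • i w₀, Complex.I, h, ?_, ?_, by simp⟩
      · rw [map_sub, map_smul, ci', e0, map_smul, smul_sub, smul_comm]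
      · rw [map_sub, map_smul, hii', smul_sub, smul_smul, Complex.I_mul_I]
        simp [sub_eq_add_neg, add_comm]
  have hjw : j w ≠ 0 := by
    intro h
    have := hjj' w
    rw [h, map_zero] at this
    exact hw (neg_eq_zero.mp this.symm)
  have hijw : i (j w) = (-ε) • j w := by rw [hij', hiw, map_smul, neg_smul]
  have hDjw : D (j w) = s • j w := by rw [cj', hDw, map_smul]
  have m0 : w ∈ Submodule.span ℂ (Set.range ![w, j w]) := Submodule.subset_span ⟨0, rfl⟩
  have m1 : j w ∈ Submodule.span ℂ (Set.range ![w, j w]) := Submodule.subset_span ⟨1, rfl⟩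
  have inv : ∀ A : Module.End ℂ V, A w ∈ Submodule.span ℂ (Set.range ![w, j w]) →
      A (j w) ∈ Submodule.span ℂ (Set.range ![w, j w]) →
      ∀ v ∈ Submodule.span ℂ (Set.range ![w, j w]), A v ∈ Submodule.span ℂ (Set.range ![w, j w]) := by
    intro A h0 h1 v hv
    have : Submodule.span ℂ (Set.range ![w, j w]) ≤
        (Submodule.span ℂ (Set.range ![w, j w])).comap A := by
      rw [Submodule.span_le, Set.range_subset_iff]
      intro k
      fin_cases k
      · exact h0
      · exact h1
    exact this hv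
  refine ⟨Submodule.span ℂ (Set.range ![w, j w]), ?_, ?_, ?_, ?_⟩
  · have hli : LinearIndependent ℂ ![w, j w] := by
      rw [LinearIndependent.pair_iff]
      intro a b hab
      have h1 := congrArg i hab
      rw [map_add, map_smul, map_smul, hiw, hijw, map_zero] at h1
      have h2 : ε • (a • w - b • j w) = 0 := by
        rw [← h1]; module
      have h3 : a • w - b • j w = 0 := (smul_eq_zero.mp h2).resolve_left hε
      have h4 : (2 * a) • w = 0 := by
        have : (2 * a) • w = (a • w + b • j w) + (a • w - b • j w) := by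
          rw [mul_smul, two_smul]; abel
        rw [this, hab, h3, add_zero]
      have ha : a = 0 := by
        rcases smul_eq_zero.mp h4 with h | h
        · simpa using h
        · exact absurd h hw
      rw [ha, zero_smul, zero_add] at hab
      exact ⟨ha, (smul_eq_zero.mp hab).resolve_right hjw⟩
    rw [finrank_span_eq_card hli]; simp
  · refine inv i ?_ ?_
    · rw [hiw]; exact Submodule.smul_mem _ _ m0
    · rw [hijw]; exact Submodule.smul_mem _ _ m1
  · refine inv j m1 ?_
    rw [hjj']; exact Submodule.neg_mem _ m0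
  · refine inv D ?_ ?_
    · rw [hDw]; exact Submodule.smul_mem _ _ m0
    · rw [hDjw]; exact Submodule.smul_mem _ _ m1

variable {n : ℕ}

/-- the matrices leaving `W` invariant -/
def invAlg (W : Submodule ℂ (Fin n → ℂ)) : Subalgebra ℚ (Matrix (Fin n) (Fin n) ℂ) where
  carrier := {M | ∀ w ∈ W, M.mulVec w ∈ W}
  mul_mem' := fun {a b} ha hb w hw => by
    rw [← Matrix.mulVec_mulVec]; exact ha _ (hb w hw)
  one_mem' := fun w hw => by rw [Matrix.one_mulVec]; exact hw
  add_mem' := fun {a b} ha hb w hw => by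
    rw [Matrix.add_mulVec]; exact W.add_mem (ha w hw) (hb w hw)
  zero_mem' := fun w _ => by rw [Matrix.zero_mulVec]; exact W.zero_mem
  algebraMap_mem' := fun r w hw => by
    rw [Algebra.algebraMap_eq_smul_one, Matrix.smul_mulVec, Matrix.one_mulVec]
    exact W.smul_of_tower_mem r hw

theorem mem_invAlg {W : Submodule ℂ (Fin n → ℂ)} {M : Matrix (Fin n) (Fin n) ℂ} :
    M ∈ invAlg W ↔ ∀ w ∈ W, M.mulVec w ∈ W := Iff.rfl

/-- an invariant plane for a quaternion frame of matrices and a commuting matrix -/
theorem exists_plane (hn : 0 < n) {i j D : Matrix (Fin n) (Fin n) ℂ} (hf : QF i j)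
    (c : CommIJ i j D) :
    ∃ W : Submodule ℂ (Fin n → ℂ), Module.finrank ℂ W = 2 ∧ i ∈ invAlg W ∧ j ∈ invAlg W ∧
      D ∈ invAlg W := by
  have : Nontrivial (Fin n → ℂ) := by
    have : Nonempty (Fin n) := ⟨⟨0, hn⟩⟩
    infer_instance
  obtain ⟨W, hW, h1, h2, h3⟩ := exists_plane_end
    (i := Matrix.toLinAlgEquiv' i) (j := Matrix.toLinAlgEquiv' j) (D := Matrix.toLinAlgEquiv' D)
    (by rw [← map_mul, hf.ii, map_neg, map_one])
    (by rw [← map_mul, hf.jj, map_neg, map_one])
    (by rw [← map_mul, hf.ji, map_neg, map_mul])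
    (by rw [← map_mul, c.ci, map_mul])
    (by rw [← map_mul, c.cj, map_mul])
  refine ⟨W, hW, ?_, ?_, ?_⟩
  · intro w hw; have := h1 w hw; rwa [Matrix.toLinAlgEquiv'_apply] at this
  · intro w hw; have := h2 w hw; rwa [Matrix.toLinAlgEquiv'_apply] at this
  · intro w hw; have := h3 w hw; rwa [Matrix.toLinAlgEquiv'_apply] at this

end Cfsg.Agent.ZassL
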