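import Mathlib
import Cfsg.Agent.Lib.Zass.Frame

/-! # Zassenhaus cluster, ring side (helper7): "2T is clean"

If `ξ` is invertible, `ξ² + ξ + 1 = 0` and conjugation by `ξ` permutes a frame cyclically
(`i ↦ j ↦ ij`), then `ξ = -(1 + i + j + ij)/2`. -/

set_option autoImplicit false
set_option linter.unusedSimpArgs false
set_option linter.unusedSectionVars false

namespace Cfsg.Agent.ZassL

variable {E : Type*} [Ring E] [Algebra ℚ E]

namespace QF

variable {i j : E}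

theorem clean (h : QF i j) {ξ ξ' : E} (hinv' : ξ' * ξ = 1)
    (hi : ξ * i = j * ξ) (hj : ξ * j = i * j * ξ) (h3 : ξ * ξ + ξ + 1 = 0) :
    ξ = (-1 / 2 : ℚ) • (1 + i + j + i * j) := by
  obtain ⟨ω, hω⟩ : ∃ ω : E, ω = (1 / 2 : ℚ) • (1 + i + j + i * j) := ⟨_, rfl⟩
  obtain ⟨ωb, hωb⟩ : ∃ ωb : E, ωb = (1 / 2 : ℚ) • (1 - i - j - i * j) := ⟨_, rfl⟩
  have hω1 : ω * ωb = 1 := by
    rw [hω, hωb]
    simp only [mul_smul_comm, smul_mul_assoc, mul_sub, sub_mul, mul_add, add_mul, mul_assoc, h.ii',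
      h.jj', h.ji', h.ii, h.jj, h.ji, mul_neg, neg_mul, neg_neg, mul_one, one_mul, sub_neg_eq_add]
    module
  have hωbj : ωb * j = i * ωb := by
    rw [hωb]
    simp only [mul_smul_comm, smul_mul_assoc, mul_sub, sub_mul, mul_add, add_mul, mul_assoc, h.ii',
      h.jj', h.ji', h.ii, h.jj, h.ji, mul_neg, neg_mul, neg_neg, mul_one, one_mul, sub_neg_eq_add]
    module
  have hωbk : ωb * (i * j) = j * ωb := by
    rw [hωb]
    simp only [mul_smul_comm, smul_mul_assoc, mul_sub, sub_mul, mul_add, add_mul, mul_assoc, h.ii',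
      h.jj', h.ji', h.ii, h.jj, h.ji, mul_neg, neg_mul, neg_neg, mul_one, one_mul, sub_neg_eq_add]
    module
  have hωω : ω * ω = ω - 1 := by
    rw [hω]
    simp only [mul_smul_comm, smul_mul_assoc, mul_sub, sub_mul, mul_add, add_mul, mul_assoc, h.ii',
      h.jj', h.ji', h.ii, h.jj, h.ji, mul_neg, neg_mul, neg_neg, mul_one, one_mul, sub_neg_eq_add]
    module
  obtain ⟨ζ, hζ⟩ : ∃ ζ : E, ζ = ωb * ξ := ⟨_, rfl⟩
  have hζc : CommIJ i j ζ := by
    constructor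
    · calc i * ζ = (i * ωb) * ξ := by rw [hζ, mul_assoc]
        _ = (ωb * j) * ξ := by rw [hωbj]
        _ = ωb * (ξ * i) := by rw [mul_assoc, hi]
        _ = ζ * i := by rw [hζ, mul_assoc]
    · calc j * ζ = (j * ωb) * ξ := by rw [hζ, mul_assoc]
        _ = (ωb * (i * j)) * ξ := by rw [hωbk]
        _ = ωb * (ξ * j) := by rw [mul_assoc, hj]
        _ = ζ * j := by rw [hζ, mul_assoc]
  have hξ : ξ = ω * ζ := by rw [hζ, ← mul_assoc, hω1, one_mul]
  have hζω : ω * ζ = ζ * ω := by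
    rw [hω]
    simp only [mul_smul_comm, smul_mul_assoc, mul_add, add_mul, mul_one, one_mul, hζc.ci, hζc.cj,
      mul_assoc, hζc.ci', hζc.cj']
  -- the cubic relation in terms of `ζ`
  have h3' : (ζ * ζ + ζ) * ω - (ζ * ζ - 1) = 0 := by
    have e : ξ * ξ = ζ * ζ * (ω - 1) := by
      rw [hξ, hζω, mul_assoc, ← mul_assoc ω ζ ω, hζω, mul_assoc, mul_assoc, hωω]
    rw [e, hξ, hζω] at h3
    rw [← h3]; noncomm_ring
  have hm : ζ * ζ + ζ = 0 := by
    have hmc : CommIJ i j (ζ * ζ + ζ) := (hζc.mul hζc).add hζc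
    have hnc : CommIJ i j (ζ * ζ - 1) := (hζc.mul hζc).sub CommIJ.one
    have hz : ((1 / 2 : ℚ) • (ζ * ζ + ζ) - (ζ * ζ - 1)) + ((1 / 2 : ℚ) • (ζ * ζ + ζ)) * i +
        ((1 / 2 : ℚ) • (ζ * ζ + ζ)) * j + ((1 / 2 : ℚ) • (ζ * ζ + ζ)) * (i * j) = 0 := by
      rw [← h3', hω]
      simp only [mul_smul_comm, smul_mul_assoc, mul_add, mul_one]
      module
    have := (h.unique ((hmc.smul _).sub hnc) (hmc.smul _) (hmc.smul _) (hmc.smul _) hz).2.1
    have h2 : (2 : ℚ) • ((1 / 2 : ℚ) • (ζ * ζ + ζ)) = 0 := by rw [this, smul_zero]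
    rwa [smul_smul, show (2 : ℚ) * (1 / 2) = 1 by norm_num, one_smul] at h2
  have hζinv : (ξ' * ω) * ζ = 1 := by
    rw [hζ, mul_assoc, ← mul_assoc ω ωb ξ, hω1, one_mul, hinv']
  have hζ1 : ζ = -1 := by
    have : (ξ' * ω) * (ζ * ζ + ζ) = 0 := by rw [hm, mul_zero]
    rw [mul_add, ← mul_assoc, hζinv, one_mul] at this
    exact eq_neg_of_add_eq_zero_left this
  rw [hξ, hζ1, hω]
  simp only [mul_neg, mul_one]
  module

end QF

end Cfsg.Agent.ZassL
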