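import Mathlib

/-! # Zassenhaus cluster, ring side (helper7): the commutative "pinning" lemma

`a + b + c = 1`, `a² + b² + c² = 1` in a commutative ring of characteristic zero with `2` invertible,
each of `a, b, c` being `1`, `-1/2`, `0`, `1/2` or a root of `4t² - 2t - 1`.  Then `(a,b,c)` is a
permutation of `(1,0,0)` or one of them is `1/2`. -/

set_option autoImplicit false

namespace Cfsg.Agent.ZassL

variable {R : Type*} [CommRing R] [CharZero R]

/-- the possible values of a coordinate -/
def Opt (a : R) : Prop :=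
  a = 1 ∨ 2 * a + 1 = 0 ∨ a = 0 ∨ 2 * a = 1 ∨ 4 * a * a - 2 * a - 1 = 0

theorem pin_aux {h a b c : R} (hh : 2 * h = 1) (s : a + b + c = 1) (q : a * a + b * b + c * c = 1)
    (ha : a = 1 ∨ 2 * a + 1 = 0 ∨ a = 0) (hb : Opt b) :
    (a = 1 ∧ b = 0 ∧ c = 0) ∨ (a = 0 ∧ b = 1 ∧ c = 0) ∨ (a = 0 ∧ b = 0 ∧ c = 1) := by
  have hc : c = 1 - a - b := by linear_combination s
  subst hc
  have E0 : a * a + b * b + a * b - a - b = 0 := by
    linear_combination h * q - (a * a + b * b + a * b - a - b) * hh
  rcases ha with ha | ha | ha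
  · -- a = 1
    subst ha
    have hb2 : b * b = 0 := by linear_combination E0
    rcases hb with hb | hb | hb | hb | hb
    · exfalso
      have : (1 : R) = 0 := by rw [hb] at hb2; simp at hb2
      exact one_ne_zero this
    · exfalso
      have : (1 : R) = 0 := by linear_combination (4 : R) * hb2 - (2 * b - 1) * hb
      exact one_ne_zero this
    · left; exact ⟨rfl, hb, by rw [hb]; ring⟩
    · exfalso
      have : (1 : R) = 0 := by linear_combination (4 : R) * hb2 - (2 * b + 1) * hb
      exact one_ne_zero this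
    · exfalso
      -- 4b² = 0 so 2b = -1, so 4b² = 1
      have e1 : 2 * b + 1 = 0 := by linear_combination (4 : R) * hb2 - hb
      have : (1 : R) = 0 := by linear_combination (4 : R) * hb2 - (2 * b - 1) * e1
      exact one_ne_zero this
  · -- 2a + 1 = 0
    exfalso
    have F : 4 * b * b - 6 * b + 3 = 0 := by
      linear_combination (4 : R) * E0 - (2 * a + 2 * b - 3) * ha
    rcases hb with hb | hb | hb | hb | hb
    · have : (1 : R) = 0 := by rw [hb] at F; linear_combination F
      exact one_ne_zero this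
    · have : (7 : R) = 0 := by linear_combination F - (2 * b - 4) * hb
      exact (by norm_num : (7 : R) ≠ 0) this
    · have : (3 : R) = 0 := by rw [hb] at F; linear_combination F
      exact (by norm_num : (3 : R) ≠ 0) this
    · have : (1 : R) = 0 := by linear_combination F - (2 * b - 2) * hb
      exact one_ne_zero this
    · have : (4 : R) = 0 := by linear_combination (4 : R) * hb - (4 * b + 2) * (hb - F)
      exact (by norm_num : (4 : R) ≠ 0) this
  · -- a = 0
    subst ha
    have M : b * b - b = 0 := by linear_combination E0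
    rcases hb with hb | hb | hb | hb | hb
    · right; left; exact ⟨rfl, hb, by rw [hb]; ring⟩
    · exfalso
      have : (3 : R) = 0 := by linear_combination (4 : R) * M - (2 * b - 3) * hb
      exact (by norm_num : (3 : R) ≠ 0) this
    · right; right; exact ⟨rfl, hb, by rw [hb]; ring⟩
    · exfalso
      have : (1 : R) = 0 := by linear_combination (-4 : R) * M + (2 * b - 1) * hb
      exact one_ne_zero this
    · exfalso
      have : (1 : R) = 0 := by linear_combination (2 * b - 1) * (hb - 4 * M) - 4 * M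
      exact one_ne_zero this

theorem pin_comm {h a b c : R} (hh : 2 * h = 1) (s : a + b + c = 1) (q : a * a + b * b + c * c = 1)
    (ha : Opt a) (hb : Opt b) (hc : Opt c) :
    (a = 1 ∧ b = 0 ∧ c = 0) ∨ (a = 0 ∧ b = 1 ∧ c = 0) ∨ (a = 0 ∧ b = 0 ∧ c = 1) ∨
      2 * a = 1 ∨ 2 * b = 1 ∨ 2 * c = 1 := by
  rcases ha with ha | ha | ha | ha | ha
  · rcases pin_aux hh s q (Or.inl ha) hb with r | r | r
    · exact Or.inl r
    · exact Or.inr (Or.inl r)
    · exact Or.inr (Or.inr (Or.inl r))
  · rcases pin_aux hh s q (Or.inr (Or.inl ha)) hb with r | r | r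
    · exact Or.inl r
    · exact Or.inr (Or.inl r)
    · exact Or.inr (Or.inr (Or.inl r))
  · rcases pin_aux hh s q (Or.inr (Or.inr ha)) hb with r | r | r
    · exact Or.inl r
    · exact Or.inr (Or.inl r)
    · exact Or.inr (Or.inr (Or.inl r))
  · exact Or.inr (Or.inr (Or.inr (Or.inl ha)))
  · -- a golden: look at b
    have s' : b + a + c = 1 := by linear_combination s
    have q' : b * b + a * a + c * c = 1 := by linear_combination q
    rcases hb with hb | hb | hb | hb | hb
    · rcases pin_aux hh s' q' (Or.inl hb) (Or.inr (Or.inr (Or.inr (Or.inr ha)))) with r | r | r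
      · exact Or.inr (Or.inl ⟨r.2.1, r.1, r.2.2⟩)
      · exact Or.inl ⟨r.2.1, r.1, r.2.2⟩
      · exact Or.inr (Or.inr (Or.inl ⟨r.2.1, r.1, r.2.2⟩))
    · rcases pin_aux hh s' q' (Or.inr (Or.inl hb)) (Or.inr (Or.inr (Or.inr (Or.inr ha)))) with r | r | r
      · exact Or.inr (Or.inl ⟨r.2.1, r.1, r.2.2⟩)
      · exact Or.inl ⟨r.2.1, r.1, r.2.2⟩
      · exact Or.inr (Or.inr (Or.inl ⟨r.2.1, r.1, r.2.2⟩))
    · rcases pin_aux hh s' q' (Or.inr (Or.inr hb)) (Or.inr (Or.inr (Or.inr (Or.inr ha)))) with r | r | r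
      · exact Or.inr (Or.inl ⟨r.2.1, r.1, r.2.2⟩)
      · exact Or.inl ⟨r.2.1, r.1, r.2.2⟩
      · exact Or.inr (Or.inr (Or.inl ⟨r.2.1, r.1, r.2.2⟩))
    · exact Or.inr (Or.inr (Or.inr (Or.inr (Or.inl hb))))
    · -- a, b golden: look at c
      have s'' : c + a + b = 1 := by linear_combination s
      have q'' : c * c + a * a + b * b = 1 := by linear_combination q
      rcases hc with hc | hc | hc | hc | hc
      · rcases pin_aux hh s'' q'' (Or.inl hc) (Or.inr (Or.inr (Or.inr (Or.inr ha)))) with r | r | r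
        · exact Or.inr (Or.inr (Or.inl ⟨r.2.1, r.2.2, r.1⟩))
        · exact Or.inl ⟨r.2.1, r.2.2, r.1⟩
        · exact Or.inr (Or.inl ⟨r.2.1, r.2.2, r.1⟩)
      · rcases pin_aux hh s'' q'' (Or.inr (Or.inl hc)) (Or.inr (Or.inr (Or.inr (Or.inr ha)))) with r | r | r
        · exact Or.inr (Or.inr (Or.inl ⟨r.2.1, r.2.2, r.1⟩))
        · exact Or.inl ⟨r.2.1, r.2.2, r.1⟩
        · exact Or.inr (Or.inl ⟨r.2.1, r.2.2, r.1⟩)
      · rcases pin_aux hh s'' q'' (Or.inr (Or.inr hc)) (Or.inr (Or.inr (Or.inr (Or.inr ha)))) with r | r | r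
        · exact Or.inr (Or.inr (Or.inl ⟨r.2.1, r.2.2, r.1⟩))
        · exact Or.inl ⟨r.2.1, r.2.2, r.1⟩
        · exact Or.inr (Or.inl ⟨r.2.1, r.2.2, r.1⟩)
      · exact Or.inr (Or.inr (Or.inr (Or.inr (Or.inr hc))))
      · exfalso
        have : (1 : R) = 0 := by
          linear_combination (4 : R) * q - ha - hb - hc - (2 : R) * s
        exact one_ne_zero this

end Cfsg.Agent.ZassL
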