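import Mathlib
import Cfsg.Agent.Lib.Zass.Frame
import Cfsg.Agent.Lib.Zass.Clean
import Cfsg.Agent.Lib.Zass.PinComm

/-! # Zassenhaus cluster, ring side (helper7): coordinates of a second frame

Two frames `(i, j)` and `(p, q)` cyclically permuted by the same `ξ` (`ξ² + ξ + 1 = 0`):
`p = P₁ i + P₂ j + P₃ ij` with pairwise commuting `P`'s commuting with `i, j`,
`P₁ + P₂ + P₃ = 1`, `P₁² + P₂² + P₃² = 1`. -/

set_option autoImplicit false
set_option linter.unusedSimpArgs false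
set_option linter.unusedSectionVars false

namespace Cfsg.Agent.ZassL

variable {E : Type*} [Ring E] [Algebra ℚ E]

/-- the data of two frames with a common `ξ` -/
structure TwoFrames (i j p q ξ ξ' : E) : Prop where
  hf : QF i j
  hg : QF p q
  inv : ξ * ξ' = 1
  inv' : ξ' * ξ = 1
  hi : ξ * i = j * ξ
  hj : ξ * j = i * j * ξ
  hp : ξ * p = q * ξ
  hq : ξ * q = p * q * ξ
  h3 : ξ * ξ + ξ + 1 = 0


section formulas

variable {i j a1 a2 a3 : E}

theorem T_formula1 (hf : QF i j) (c1 : CommIJ i j a1) (c2 : CommIJ i j a2)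
    (hs : a1 + a2 + a3 = 1) :
    ((-1 / 2 : ℚ) • (1 + i - j - i * j)) *
        ((-1 / 2 : ℚ) • (1 + (2 : ℚ) • (a1 * i + a2 * j + a3 * (i * j)) - (i + j + i * j))) +
      ((-1 / 2 : ℚ) • (1 - (2 : ℚ) • (a1 * i + a2 * j + a3 * (i * j)) + (i + j + i * j))) *
        ((-1 / 2 : ℚ) • (1 - i + j + i * j)) = 1 - (2 : ℚ) • a1 := by
  have h3 : a3 = 1 - a1 - a2 := by rw [← hs]; abel
  rw [h3]
  simp only [mul_smul_comm, smul_mul_assoc, smul_add, smul_sub, mul_sub, sub_mul, mul_add, add_mul,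
    mul_assoc, c1.ci', c1.cj', c2.ci', c2.cj', c1.ci, c1.cj, c2.ci, c2.cj, hf.ii', hf.jj', hf.ji',
    hf.ii, hf.jj, hf.ji, mul_neg, neg_mul, neg_neg, mul_one, one_mul, sub_neg_eq_add, smul_neg,
    smul_smul]
  module

theorem T_formula2 (hf : QF i j) (c1 : CommIJ i j a1) (c2 : CommIJ i j a2)
    (hs : a1 + a2 + a3 = 1) :
    ((-1 / 2 : ℚ) • (1 - i + j - i * j)) *
        ((-1 / 2 : ℚ) • (1 + (2 : ℚ) • (a1 * i + a2 * j + a3 * (i * j)) - (i + j + i * j))) +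
      ((-1 / 2 : ℚ) • (1 - (2 : ℚ) • (a1 * i + a2 * j + a3 * (i * j)) + (i + j + i * j))) *
        ((-1 / 2 : ℚ) • (1 + i - j + i * j)) = 1 - (2 : ℚ) • a2 := by
  have h3 : a3 = 1 - a1 - a2 := by rw [← hs]; abel
  rw [h3]
  simp only [mul_smul_comm, smul_mul_assoc, smul_add, smul_sub, mul_sub, sub_mul, mul_add, add_mul,
    mul_assoc, c1.ci', c1.cj', c2.ci', c2.cj', c1.ci, c1.cj, c2.ci, c2.cj, hf.ii', hf.jj', hf.ji',
    hf.ii, hf.jj, hf.ji, mul_neg, neg_mul, neg_neg, mul_one, one_mul, sub_neg_eq_add, smul_neg,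
    smul_smul]
  module

theorem T_formula3 (hf : QF i j) (c1 : CommIJ i j a1) (c2 : CommIJ i j a2)
    (hs : a1 + a2 + a3 = 1) :
    ((-1 / 2 : ℚ) • (1 - i - j + i * j)) *
        ((-1 / 2 : ℚ) • (1 + (2 : ℚ) • (a1 * i + a2 * j + a3 * (i * j)) - (i + j + i * j))) +
      ((-1 / 2 : ℚ) • (1 - (2 : ℚ) • (a1 * i + a2 * j + a3 * (i * j)) + (i + j + i * j))) *
        ((-1 / 2 : ℚ) • (1 + i + j - i * j)) = 1 - (2 : ℚ) • a3 := by
  have h3 : a3 = 1 - a1 - a2 := by rw [← hs]; abel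
  rw [h3]
  simp only [mul_smul_comm, smul_mul_assoc, smul_add, smul_sub, mul_sub, sub_mul, mul_add, add_mul,
    mul_assoc, c1.ci', c1.cj', c2.ci', c2.cj', c1.ci, c1.cj, c2.ci, c2.cj, hf.ii', hf.jj', hf.ji',
    hf.ii, hf.jj, hf.ji, mul_neg, neg_mul, neg_neg, mul_one, one_mul, sub_neg_eq_add, smul_neg,
    smul_smul]
  module

end formulas

namespace TwoFrames

variable {i j p q ξ ξ' : E}

theorem xi_eq (h : TwoFrames i j p q ξ ξ') : ξ = (-1 / 2 : ℚ) • (1 + i + j + i * j) :=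
  h.hf.clean h.inv' h.hi h.hj h.h3

theorem xi_eq' (h : TwoFrames i j p q ξ ξ') : ξ = (-1 / 2 : ℚ) • (1 + p + q + p * q) :=
  h.hg.clean h.inv' h.hp h.hq h.h3

theorem xi'_eq (h : TwoFrames i j p q ξ ξ') : ξ' = (-1 / 2 : ℚ) • (1 - i - j - i * j) := by
  have e : ξ' = -1 - ξ := by
    have : ξ' * (ξ * ξ + ξ + 1) = 0 := by rw [h.h3, mul_zero]
    rw [mul_add, mul_add, ← mul_assoc, h.inv', one_mul, mul_one] at this
    have e2 : ξ' = -(ξ + 1) := eq_neg_of_add_eq_zero_right this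
    rw [e2]; abel
  rw [e, h.xi_eq]
  module

theorem S_eq (h : TwoFrames i j p q ξ ξ') : p + q + p * q = i + j + i * j := by
  have e := h.xi_eq
  rw [h.xi_eq'] at e
  have e2 : (-2 : ℚ) • ((-1 / 2 : ℚ) • (1 + p + q + p * q)) =
      (-2 : ℚ) • ((-1 / 2 : ℚ) • (1 + i + j + i * j)) := by rw [e]
  rw [smul_smul, smul_smul, show (-2 : ℚ) * (-1 / 2) = 1 by norm_num, one_smul, one_smul] at e2
  have e3 : (1 + p + q + p * q) - 1 = (1 + i + j + i * j) - 1 := by rw [e2]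
  rw [← e3.trans (by abel : (1 + i + j + i * j) - 1 = i + j + i * j)]
  abel

/-- the coordinates of `p` -/
noncomputable def P0 (i j p : E) : E := QF.c0 i j p
/-- the coordinates of `p` -/
noncomputable def P1 (i j p : E) : E := -QF.c0 i j (p * i)
/-- the coordinates of `p` -/
noncomputable def P2 (i j p : E) : E := -QF.c0 i j (p * j)
/-- the coordinates of `p` -/
noncomputable def P3 (i j p : E) : E := -QF.c0 i j (p * (i * j))

theorem c0' (h : TwoFrames i j p q ξ ξ') : CommIJ i j (P0 i j p) := h.hf.c0_comm _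
theorem c1 (h : TwoFrames i j p q ξ ξ') : CommIJ i j (P1 i j p) := (h.hf.c0_comm _).neg
theorem c2 (h : TwoFrames i j p q ξ ξ') : CommIJ i j (P2 i j p) := (h.hf.c0_comm _).neg
theorem c3 (h : TwoFrames i j p q ξ ξ') : CommIJ i j (P3 i j p) := (h.hf.c0_comm _).neg

theorem p_eq0 (h : TwoFrames i j p q ξ ξ') :
    p = P0 i j p + P1 i j p * i + P2 i j p * j + P3 i j p * (i * j) := by
  have := h.hf.decomp p
  unfold P0 P1 P2 P3
  rw [neg_mul, neg_mul, neg_mul]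
  nth_rewrite 1 [this]
  abel

theorem comm_xi (h : TwoFrames i j p q ξ ξ') {a : E} (ha : CommIJ i j a) : ξ * a = a * ξ := by
  rw [h.xi_eq]
  simp only [mul_smul_comm, smul_mul_assoc, mul_add, add_mul, mul_one, one_mul, ha.ci, ha.cj,
    mul_assoc, ha.ci', ha.cj']

theorem conj_i (h : TwoFrames i j p q ξ ξ') : ξ * i * ξ' = j := by
  rw [h.hi, mul_assoc, h.inv, mul_one]

theorem conj_j (h : TwoFrames i j p q ξ ξ') : ξ * j * ξ' = i * j := by
  rw [h.hj, mul_assoc, h.inv, mul_one]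

theorem xi_k (h : TwoFrames i j p q ξ ξ') : ξ * (i * j) = i * ξ := by
  rw [← mul_assoc, h.hi, mul_assoc, h.hj, ← mul_assoc, ← mul_assoc, h.hf.ji]
  simp only [neg_mul, mul_assoc, h.hf.jj', h.hf.jj]
  simp

theorem conj_k (h : TwoFrames i j p q ξ ξ') : ξ * (i * j) * ξ' = i := by
  rw [h.xi_k, mul_assoc, h.inv, mul_one]

theorem q_conj (h : TwoFrames i j p q ξ ξ') : q = ξ * p * ξ' := by
  rw [h.hp, mul_assoc, h.inv, mul_one]

theorem pq_conj (h : TwoFrames i j p q ξ ξ') : p * q = ξ * q * ξ' := by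
  rw [h.hq, mul_assoc, h.inv, mul_one]

theorem conj_term (h : TwoFrames i j p q ξ ξ') {a : E} (ha : CommIJ i j a) (X : E) :
    ξ * (a * X) * ξ' = a * (ξ * X * ξ') := by
  rw [← mul_assoc, h.comm_xi ha, mul_assoc, mul_assoc, mul_assoc]

theorem q_eq0 (h : TwoFrames i j p q ξ ξ') :
    q = P0 i j p + P1 i j p * j + P2 i j p * (i * j) + P3 i j p * i := by
  have e : q = ξ * (P0 i j p + P1 i j p * i + P2 i j p * j + P3 i j p * (i * j)) * ξ' := by
    rw [← h.p_eq0]; exact h.q_conj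
  rw [mul_add, mul_add, mul_add, add_mul, add_mul, add_mul, h.conj_term h.c1, h.conj_term h.c2,
    h.conj_term h.c3, h.conj_i, h.conj_j, h.conj_k, h.comm_xi h.c0', mul_assoc, h.inv, mul_one] at e
  exact e

theorem pq_eq0 (h : TwoFrames i j p q ξ ξ') :
    p * q = P0 i j p + P1 i j p * (i * j) + P2 i j p * i + P3 i j p * j := by
  have e : p * q = ξ * (P0 i j p + P1 i j p * j + P2 i j p * (i * j) + P3 i j p * i) * ξ' := by
    rw [← h.q_eq0]; exact h.pq_conj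
  rw [mul_add, mul_add, mul_add, add_mul, add_mul, add_mul, h.conj_term h.c1, h.conj_term h.c2,
    h.conj_term h.c3, h.conj_i, h.conj_j, h.conj_k, h.comm_xi h.c0', mul_assoc, h.inv, mul_one] at e
  exact e

theorem P0_eq_and_sum (h : TwoFrames i j p q ξ ξ') :
    P0 i j p = 0 ∧ P1 i j p + P2 i j p + P3 i j p = 1 := by
  have e := h.S_eq
  nth_rewrite 1 [h.p_eq0, h.q_eq0, h.pq_eq0] at e
  set a0 := P0 i j p
  set a1 := P1 i j p
  set a2 := P2 i j p
  set a3 := P3 i j p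
  have hz : (3 : ℚ) • a0 + (a1 + a2 + a3 - 1) * i + (a1 + a2 + a3 - 1) * j +
      (a1 + a2 + a3 - 1) * (i * j) = 0 := by
    have : (3 : ℚ) • a0 + (a1 + a2 + a3 - 1) * i + (a1 + a2 + a3 - 1) * j +
      (a1 + a2 + a3 - 1) * (i * j) = (a0 + a1 * i + a2 * j + a3 * (i * j) +
        (a0 + a1 * j + a2 * (i * j) + a3 * i) + (a0 + a1 * (i * j) + a2 * i + a3 * j)) -
        (i + j + i * j) := by
      simp only [sub_mul, add_mul, one_mul]
      module
    rw [this, e, sub_self]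
  have hs : CommIJ i j (a1 + a2 + a3 - 1) := ((h.c1.add h.c2).add h.c3).sub CommIJ.one
  obtain ⟨r0, r1, -, -⟩ := h.hf.unique (h.c0'.smul 3) hs hs hs hz
  constructor
  · have : (1 / 3 : ℚ) • ((3 : ℚ) • a0) = 0 := by rw [r0, smul_zero]
    rwa [smul_smul, show (1 / 3 : ℚ) * 3 = 1 by norm_num, one_smul] at this
  · exact sub_eq_zero.mp r1


theorem p_eq (h : TwoFrames i j p q ξ ξ') :
    p = P1 i j p * i + P2 i j p * j + P3 i j p * (i * j) := by
  have := h.p_eq0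
  rw [h.P0_eq_and_sum.1, zero_add] at this
  exact this

theorem sum_eq (h : TwoFrames i j p q ξ ξ') : P1 i j p + P2 i j p + P3 i j p = 1 :=
  h.P0_eq_and_sum.2

/-- from `p² = -1`: the coordinates commute and their squares add up to `1` -/
theorem sq_and_comm (h : TwoFrames i j p q ξ ξ') :
    P1 i j p * P1 i j p + P2 i j p * P2 i j p + P3 i j p * P3 i j p = 1 ∧
    P2 i j p * P3 i j p = P3 i j p * P2 i j p ∧ P3 i j p * P1 i j p = P1 i j p * P3 i j p ∧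
    P1 i j p * P2 i j p = P2 i j p * P1 i j p := by
  have e := h.hg.ii
  have c1 := h.c1
  have c2 := h.c2
  have c3 := h.c3
  have hf := h.hf
  rw [h.p_eq] at e
  set a1 := P1 i j p
  set a2 := P2 i j p
  set a3 := P3 i j p
  have hz : (1 - (a1 * a1 + a2 * a2 + a3 * a3)) + (a2 * a3 - a3 * a2) * i +
      (a3 * a1 - a1 * a3) * j + (a1 * a2 - a2 * a1) * (i * j) = 0 := by
    have : (1 - (a1 * a1 + a2 * a2 + a3 * a3)) + (a2 * a3 - a3 * a2) * i +
      (a3 * a1 - a1 * a3) * j + (a1 * a2 - a2 * a1) * (i * j) =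
      (a1 * i + a2 * j + a3 * (i * j)) * (a1 * i + a2 * j + a3 * (i * j)) + 1 := by
      simp only [mul_add, add_mul, sub_mul, mul_assoc, c1.ci', c1.cj', c2.ci', c2.cj', c3.ci', c3.cj',
        c1.ci, c1.cj, c2.ci, c2.cj, c3.ci, c3.cj, hf.ii', hf.jj', hf.ji', hf.ii, hf.jj, hf.ji, mul_neg, neg_mul, neg_neg, mul_one]
      abel
    rw [this, e]; simp
  obtain ⟨r0, r1, r2, r3⟩ := hf.unique
    (CommIJ.one.sub (((c1.mul c1).add (c2.mul c2)).add (c3.mul c3)))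
    ((c2.mul c3).sub (c3.mul c2)) ((c3.mul c1).sub (c1.mul c3)) ((c1.mul c2).sub (c2.mul c1)) hz
  exact ⟨(sub_eq_zero.mp r0).symm, sub_eq_zero.mp r1, sub_eq_zero.mp r2, sub_eq_zero.mp r3⟩


theorem xi'_eq' (h : TwoFrames i j p q ξ ξ') : ξ' = (-1 / 2 : ℚ) • (1 - p - q - p * q) := by
  have e : ξ' = -1 - ξ := by
    have : ξ' * (ξ * ξ + ξ + 1) = 0 := by rw [h.h3, mul_zero]
    rw [mul_add, mul_add, ← mul_assoc, h.inv', one_mul, mul_one] at this
    have e2 : ξ' = -(ξ + 1) := eq_neg_of_add_eq_zero_right this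
    rw [e2]; abel
  rw [e, h.xi_eq']
  module

/-- the matrix of `u x u⁻¹` for the second frame -/
theorem y_eq (h : TwoFrames i j p q ξ ξ') :
    p * ξ * (-p) = (-1 / 2 : ℚ) • (1 + (2 : ℚ) • p - (i + j + i * j)) := by
  have hg := h.hg
  have e : p * ξ * (-p) = (-1 / 2 : ℚ) • (1 + p - q - p * q) := by
    rw [h.xi_eq']
    simp only [mul_smul_comm, smul_mul_assoc, mul_sub, sub_mul, mul_add, add_mul, mul_assoc, hg.ii',
      hg.jj', hg.ji', hg.ii, hg.jj, hg.ji, mul_neg, neg_mul, neg_neg, mul_one, one_mul,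
      sub_neg_eq_add]
    module
  rw [e, ← h.S_eq]
  module

theorem y'_eq (h : TwoFrames i j p q ξ ξ') :
    p * ξ' * (-p) = (-1 / 2 : ℚ) • (1 - (2 : ℚ) • p + (i + j + i * j)) := by
  have hg := h.hg
  have e : p * ξ' * (-p) = (-1 / 2 : ℚ) • (1 - p + q + p * q) := by
    rw [h.xi'_eq']
    simp only [mul_smul_comm, smul_mul_assoc, mul_sub, sub_mul, mul_add, add_mul, mul_assoc, hg.ii',
      hg.jj', hg.ji', hg.ii, hg.jj, hg.ji, mul_neg, neg_mul, neg_neg, mul_one, one_mul,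
      sub_neg_eq_add]
    module
  rw [e, ← h.S_eq]
  module

theorem x1_eq (h : TwoFrames i j p q ξ ξ') :
    i * ξ * (-i) = (-1 / 2 : ℚ) • (1 + i - j - i * j) ∧
    i * ξ' * (-i) = (-1 / 2 : ℚ) • (1 - i + j + i * j) := by
  have hf := h.hf
  rw [h.xi_eq, h.xi'_eq]
  constructor <;>
  · simp only [mul_smul_comm, smul_mul_assoc, mul_sub, sub_mul, mul_add, add_mul, mul_assoc, hf.ii',
      hf.jj', hf.ji', hf.ii, hf.jj, hf.ji, mul_neg, neg_mul, neg_neg, mul_one, one_mul,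
      sub_neg_eq_add]
    module

theorem x2_eq (h : TwoFrames i j p q ξ ξ') :
    j * ξ * (-j) = (-1 / 2 : ℚ) • (1 - i + j - i * j) ∧
    j * ξ' * (-j) = (-1 / 2 : ℚ) • (1 + i - j + i * j) := by
  have hf := h.hf
  rw [h.xi_eq, h.xi'_eq]
  constructor <;>
  · simp only [mul_smul_comm, smul_mul_assoc, mul_sub, sub_mul, mul_add, add_mul, mul_assoc, hf.ii',
      hf.jj', hf.ji', hf.ii, hf.jj, hf.ji, mul_neg, neg_mul, neg_neg, mul_one, one_mul,
      sub_neg_eq_add]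
    module

theorem x3_eq (h : TwoFrames i j p q ξ ξ') :
    (i * j) * ξ * (-(i * j)) = (-1 / 2 : ℚ) • (1 - i - j + i * j) ∧
    (i * j) * ξ' * (-(i * j)) = (-1 / 2 : ℚ) • (1 + i + j - i * j) := by
  have hf := h.hf
  rw [h.xi_eq, h.xi'_eq]
  constructor <;>
  · simp only [mul_smul_comm, smul_mul_assoc, mul_sub, sub_mul, mul_add, add_mul, mul_assoc, hf.ii',
      hf.jj', hf.ji', hf.ii, hf.jj, hf.ji, mul_neg, neg_mul, neg_neg, mul_one, one_mul,
      sub_neg_eq_add]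
    module

/-- the three "trace" operators in terms of the coordinates -/
theorem T_eq (h : TwoFrames i j p q ξ ξ') :
    (i * ξ * (-i)) * (p * ξ * (-p)) + (p * ξ' * (-p)) * (i * ξ' * (-i)) = 1 - (2 : ℚ) • P1 i j p ∧
    (j * ξ * (-j)) * (p * ξ * (-p)) + (p * ξ' * (-p)) * (j * ξ' * (-j)) = 1 - (2 : ℚ) • P2 i j p ∧
    ((i * j) * ξ * (-(i * j))) * (p * ξ * (-p)) + (p * ξ' * (-p)) * ((i * j) * ξ' * (-(i * j))) =
      1 - (2 : ℚ) • P3 i j p := by
  have hf := h.hf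
  have c1 := h.c1
  have c2 := h.c2
  have hs := h.sum_eq
  have hp := h.p_eq
  rw [h.y_eq, h.y'_eq, h.x1_eq.1, h.x1_eq.2, h.x2_eq.1, h.x2_eq.2, h.x3_eq.1, h.x3_eq.2]
  obtain ⟨a1, ha1⟩ : ∃ a, a = P1 i j p := ⟨_, rfl⟩
  obtain ⟨a2, ha2⟩ : ∃ a, a = P2 i j p := ⟨_, rfl⟩
  obtain ⟨a3, ha3⟩ : ∃ a, a = P3 i j p := ⟨_, rfl⟩
  rw [← ha1, ← ha2, ← ha3] at hp hs ⊢
  rw [← ha1] at c1
  rw [← ha2] at c2
  rw [hp]
  exact ⟨T_formula1 hf c1 c2 hs, T_formula2 hf c1 c2 hs, T_formula3 hf c1 c2 hs⟩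


end TwoFrames

end Cfsg.Agent.ZassL
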