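import Mathlib
import Cfsg.Agent.Lib.Zass.PinComm

/-! # Zassenhaus cluster, ring side (helper7): the pinning lemma for commuting elements of a
non-commutative `ℚ`-algebra (via the commutative subalgebra they generate) -/

set_option autoImplicit false
set_option linter.style.haveILetI false

namespace Cfsg.Agent.ZassL
open scoped IsMulCommutative
variable {E : Type*} [Ring E] [Algebra ℚ E]

theorem pin_sub [Nontrivial E] (R : Subalgebra ℚ E) [IsMulCommutative R] (a b c : R)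
    (s : (a : E) + b + c = 1) (q : (a : E) * a + b * b + c * c = 1)
    (ha : (a : E) = 1 ∨ 2 * (a : E) + 1 = 0 ∨ (a : E) = 0 ∨ 2 * (a : E) = 1 ∨ 4 * (a : E) * a - 2 * a - 1 = 0)
    (hb : (b : E) = 1 ∨ 2 * (b : E) + 1 = 0 ∨ (b : E) = 0 ∨ 2 * (b : E) = 1 ∨ 4 * (b : E) * b - 2 * b - 1 = 0)
    (hc : (c : E) = 1 ∨ 2 * (c : E) + 1 = 0 ∨ (c : E) = 0 ∨ 2 * (c : E) = 1 ∨ 4 * (c : E) * c - 2 * c - 1 = 0) :
    ((a : E) = 1 ∧ (b : E) = 0 ∧ (c : E) = 0) ∨ ((a : E) = 0 ∧ (b : E) = 1 ∧ (c : E) = 0) ∨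
      ((a : E) = 0 ∧ (b : E) = 0 ∧ (c : E) = 1) ∨ 2 * (a : E) = 1 ∨ 2 * (b : E) = 1 ∨ 2 * (c : E) = 1 := by
  haveI : CharZero R := algebraRat.charZero R
  have hh : 2 * (algebraMap ℚ R (1 / 2)) = 1 := by
    have : (2 : R) = algebraMap ℚ R 2 := (map_ofNat (algebraMap ℚ R) 2).symm
    rw [this, ← map_mul]; norm_num
  have tr : ∀ {x y : R}, (x : E) = (y : E) → x = y := fun h => Subtype.ext h
  have opt : ∀ (x : R), ((x : E) = 1 ∨ 2 * (x : E) + 1 = 0 ∨ (x : E) = 0 ∨ 2 * (x : E) = 1 ∨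
      4 * (x : E) * (x : E) - 2 * (x : E) - 1 = 0) → Opt x := by
    intro x hx
    rcases hx with hx | hx | hx | hx | hx
    · exact Or.inl (tr (by push_cast; exact hx))
    · exact Or.inr (Or.inl (tr (by push_cast; exact hx)))
    · exact Or.inr (Or.inr (Or.inl (tr (by push_cast; exact hx))))
    · exact Or.inr (Or.inr (Or.inr (Or.inl (tr (by push_cast; exact hx)))))
    · exact Or.inr (Or.inr (Or.inr (Or.inr (tr (by push_cast; exact hx)))))
  have s' : a + b + c = 1 := tr (by push_cast; exact s)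
  have q' : a * a + b * b + c * c = 1 := tr (by push_cast; exact q)
  have key := pin_comm hh s' q' (opt a ha) (opt b hb) (opt c hc)
  have bk : ∀ {x y : R}, x = y → (x : E) = (y : E) := fun h => congrArg Subtype.val h
  rcases key with ⟨r1, r2, r3⟩ | ⟨r1, r2, r3⟩ | ⟨r1, r2, r3⟩ | r | r | r
  · exact Or.inl ⟨by simpa using bk r1, by simpa using bk r2, by simpa using bk r3⟩
  · exact Or.inr (Or.inl ⟨by simpa using bk r1, by simpa using bk r2, by simpa using bk r3⟩)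
  · exact Or.inr (Or.inr (Or.inl ⟨by simpa using bk r1, by simpa using bk r2, by simpa using bk r3⟩))
  · exact Or.inr (Or.inr (Or.inr (Or.inl (bk r))))
  · exact Or.inr (Or.inr (Or.inr (Or.inr (Or.inl (bk r)))))
  · exact Or.inr (Or.inr (Or.inr (Or.inr (Or.inr (bk r)))))

theorem pin_noncomm [Nontrivial E] {a b c : E} (hab : a * b = b * a) (hac : a * c = c * a)
    (hbc : b * c = c * b) (s : a + b + c = 1) (q : a * a + b * b + c * c = 1)
    (ha : a = 1 ∨ 2 * a + 1 = 0 ∨ a = 0 ∨ 2 * a = 1 ∨ 4 * a * a - 2 * a - 1 = 0)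
    (hb : b = 1 ∨ 2 * b + 1 = 0 ∨ b = 0 ∨ 2 * b = 1 ∨ 4 * b * b - 2 * b - 1 = 0)
    (hc : c = 1 ∨ 2 * c + 1 = 0 ∨ c = 0 ∨ 2 * c = 1 ∨ 4 * c * c - 2 * c - 1 = 0) :
    (a = 1 ∧ b = 0 ∧ c = 0) ∨ (a = 0 ∧ b = 1 ∧ c = 0) ∨ (a = 0 ∧ b = 0 ∧ c = 1) ∨
      2 * a = 1 ∨ 2 * b = 1 ∨ 2 * c = 1 := by
  classical
  have hcomm : ∀ x ∈ ({a, b, c} : Set E), ∀ y ∈ ({a, b, c} : Set E), x * y = y * x := by
    intro x hx y hy
    simp only [Set.mem_insert_iff, Set.mem_singleton_iff] at hx hy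
    rcases hx with rfl | rfl | rfl <;> rcases hy with rfl | rfl | rfl <;>
      first | rfl | assumption | (symm; assumption)
  haveI := Algebra.isMulCommutative_adjoin ℚ hcomm
  exact pin_sub (Algebra.adjoin ℚ ({a, b, c} : Set E))
    ⟨a, Algebra.subset_adjoin (by simp)⟩ ⟨b, Algebra.subset_adjoin (by simp)⟩
    ⟨c, Algebra.subset_adjoin (by simp)⟩ s q ha hb hc
end Cfsg.Agent.ZassL
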