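import Mathlib
import Cfsg.Agent.Lib.Zass.Pin
import Cfsg.Agent.Lib.Zass.PinNC

/-! # Zassenhaus cluster, ring side (helper7): the second frame is pinned

If the three operators `T_ℓ = g_ℓ + g_ℓ⁻¹` (`g_ℓ = (e_ℓ x e_ℓ⁻¹)(u x u⁻¹)`) take their values among
`2, -1, 0, 1` or are roots of `T² - T - 1`, then the second frame is the first one up to relabeling
or one of its coordinates equals `1/2`. -/

set_option autoImplicit false
set_option linter.unusedSimpArgs false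
set_option linter.unusedSectionVars false

namespace Cfsg.Agent.ZassL

variable {E : Type*} [Ring E] [Algebra ℚ E]

/-- the possible values of `g + g⁻¹` for a product `g` of two elements of order `3` -/
def OptT (T : E) : Prop := T = 2 ∨ T = -1 ∨ T = 0 ∨ T = 1 ∨ T * T - T - 1 = 0

theorem opt_of_optT {a : E} (h : OptT (1 - (2 : ℚ) • a)) :
    a = 1 ∨ 2 * a + 1 = 0 ∨ a = 0 ∨ 2 * a = 1 ∨ 4 * a * a - 2 * a - 1 = 0 := by
  have e2 : (2 : ℚ) • a = 2 * a := by rw [two_smul, two_mul]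
  have half : ∀ x : E, 2 * x = 0 → x = 0 := by
    intro x hx
    have : (1 / 2 : ℚ) • ((2 : ℚ) • x) = 0 := by rw [two_smul, ← two_mul, hx, smul_zero]
    rwa [smul_smul, show (1 / 2 : ℚ) * 2 = 1 by norm_num, one_smul] at this
  rw [e2] at h
  have key : ∀ c : E, 1 - 2 * a = c → 2 * a = 1 - c := by
    intro c hc; rw [← hc]; noncomm_ring
  rcases h with h | h | h | h | h
  · right; left
    rw [key _ h]; norm_num
  · left
    have h1 := key _ h
    have : 2 * (a - 1) = 0 := by rw [mul_sub, h1]; norm_num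
    exact sub_eq_zero.mp (half _ this)
  · right; right; right; left
    rw [key _ h]; norm_num
  · right; right; left
    apply half
    rw [key _ h]; norm_num
  · right; right; right; right
    rw [← h]; noncomm_ring


namespace TwoFrames

variable {i j p q ξ ξ' : E}

theorem pinned [Nontrivial E] (h : TwoFrames i j p q ξ ξ')
    (o1 : OptT ((i * ξ * (-i)) * (p * ξ * (-p)) + (p * ξ' * (-p)) * (i * ξ' * (-i))))
    (o2 : OptT ((j * ξ * (-j)) * (p * ξ * (-p)) + (p * ξ' * (-p)) * (j * ξ' * (-j))))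
    (o3 : OptT (((i * j) * ξ * (-(i * j))) * (p * ξ * (-p)) +
      (p * ξ' * (-p)) * ((i * j) * ξ' * (-(i * j))))) :
    (P1 i j p = 1 ∧ P2 i j p = 0 ∧ P3 i j p = 0) ∨ (P1 i j p = 0 ∧ P2 i j p = 1 ∧ P3 i j p = 0) ∨
      (P1 i j p = 0 ∧ P2 i j p = 0 ∧ P3 i j p = 1) ∨
      2 * P1 i j p = 1 ∨ 2 * P2 i j p = 1 ∨ 2 * P3 i j p = 1 := by
  rw [h.T_eq.1] at o1
  rw [h.T_eq.2.1] at o2
  rw [h.T_eq.2.2] at o3
  obtain ⟨hsq, h23, h31, h12⟩ := h.sq_and_comm
  exact pin_noncomm h12 h31.symm h23 h.sum_eq hsq (opt_of_optT o1) (opt_of_optT o2) (opt_of_optT o3)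

/-- standard form of the second frame when its first coordinate is `1/2` -/
theorem std_form (h : TwoFrames i j p q ξ ξ') (h1 : 2 * P1 i j p = 1) :
    ∃ D : E, CommIJ i j D ∧ D * D = 5 ∧
      p = (1 / 2 : ℚ) • i + ((1 / 4 : ℚ) • (1 - D)) * j + ((1 / 4 : ℚ) • (1 + D)) * (i * j) := by
  obtain ⟨hsq, h23, -, -⟩ := h.sq_and_comm
  have hs := h.sum_eq
  have hp := h.p_eq
  have c2 := h.c2
  have c3 := h.c3
  obtain ⟨a, ha⟩ : ∃ a, a = P1 i j p := ⟨_, rfl⟩
  obtain ⟨b, hb⟩ : ∃ b, b = P2 i j p := ⟨_, rfl⟩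
  obtain ⟨c, hc⟩ : ∃ c, c = P3 i j p := ⟨_, rfl⟩
  rw [← ha, ← hb, ← hc] at hsq hs hp
  rw [← hb, ← hc] at h23
  rw [← ha] at h1
  rw [← hb] at c2
  rw [← hc] at c3
  have ha' : a = (1 / 2 : ℚ) • 1 := by
    have : (1 / 2 : ℚ) • ((2 : ℚ) • a) = (1 / 2 : ℚ) • 1 := by rw [two_smul, ← two_mul, h1]
    rwa [smul_smul, show (1 / 2 : ℚ) * 2 = 1 by norm_num, one_smul] at this
  have hbc : b + c = (1 / 2 : ℚ) • 1 := by
    have : b + c = (a + b + c) - a := by abel
    rw [this, hs, ha']; module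
  have hsq' : b * b + c * c = (3 / 4 : ℚ) • 1 := by
    have : b * b + c * c = (a * a + b * b + c * c) - a * a := by abel
    rw [this, hsq, ha']
    simp only [smul_mul_assoc, mul_smul_comm, mul_one, smul_smul]
    module
  have hprod : (2 : ℚ) • (b * c) = (-1 / 2 : ℚ) • 1 := by
    have e : (b + c) * (b + c) = b * b + c * c + (2 : ℚ) • (b * c) := by
      rw [mul_add, add_mul, add_mul, ← h23]; module
    rw [hbc, hsq'] at e
    simp only [smul_mul_assoc, mul_smul_comm, mul_one, smul_smul] at e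
    have : (2 : ℚ) • (b * c) = ((3 / 4 : ℚ) • (1 : E) + (2 : ℚ) • (b * c)) - (3 / 4 : ℚ) • 1 := by abel
    rw [this, ← e]; module
  refine ⟨(2 : ℚ) • (c - b), (c3.sub c2).smul 2, ?_, ?_⟩
  · have e : ((2 : ℚ) • (c - b)) * ((2 : ℚ) • (c - b)) =
        (4 : ℚ) • (b * b + c * c) - (4 : ℚ) • ((2 : ℚ) • (b * c)) := by
      simp only [smul_mul_assoc, mul_smul_comm, smul_smul, mul_sub, sub_mul, ← h23]
      module
    rw [e, hsq', hprod]
    have e5 : (5 : E) = (5 : ℚ) • 1 := by rw [Algebra.smul_def, mul_one, map_ofNat]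
    rw [e5]
    module
  · rw [hp, ha']
    have e2 : b = (1 / 4 : ℚ) • (1 - (2 : ℚ) • (c - b)) := by
      have : (1 / 4 : ℚ) • (1 - (2 : ℚ) • (c - b)) = (1 / 2 : ℚ) • ((1 / 2 : ℚ) • (1 : E)) - (1 / 2 : ℚ) • c + (1 / 2 : ℚ) • b := by
        module
      rw [this, ← hbc]; module
    have e3 : c = (1 / 4 : ℚ) • (1 + (2 : ℚ) • (c - b)) := by
      have : (1 / 4 : ℚ) • (1 + (2 : ℚ) • (c - b)) = (1 / 2 : ℚ) • ((1 / 2 : ℚ) • (1 : E)) + (1 / 2 : ℚ) • c - (1 / 2 : ℚ) • b := by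
        module
      rw [this, ← hbc]; module
    rw [← e2, ← e3, smul_mul_assoc, one_mul]

end TwoFrames

end Cfsg.Agent.ZassL
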