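import Mathlib
import Cfsg.Agent.Lib.Zass.Pin2

/-! # Zassenhaus cluster, ring side (helper7): rotating the second frame -/

set_option autoImplicit false
set_option linter.unusedSimpArgs false
set_option linter.unusedSectionVars false

namespace Cfsg.Agent.ZassL

variable {E : Type*} [Ring E] [Algebra ℚ E]

namespace TwoFrames

variable {i j p q ξ ξ' : E}

/-- the rotated second frame `(q, pq)` -/
theorem rot (h : TwoFrames i j p q ξ ξ') : TwoFrames i j q (p * q) ξ ξ' where
  hf := h.hf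
  hg := by
    have hg := h.hg
    refine ⟨hg.jj, ?_, ?_⟩
    · simp only [mul_assoc, hg.ii', hg.jj', hg.ji', hg.ii, hg.jj, hg.ji, mul_neg, neg_mul, neg_neg]
    · simp only [mul_assoc, hg.ii', hg.jj', hg.ji', hg.ii, hg.jj, hg.ji, mul_neg, neg_mul, neg_neg,
        mul_one]
  inv := h.inv
  inv' := h.inv'
  hi := h.hi
  hj := h.hj
  hp := h.hq
  hq := by
    rw [← mul_assoc, h.hp, mul_assoc, h.hq, ← mul_assoc]
  h3 := h.h3

/-- coordinates of the rotated frame -/
theorem P_rot (h : TwoFrames i j p q ξ ξ') :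
    P1 i j q = P3 i j p ∧ P2 i j q = P1 i j p ∧ P3 i j q = P2 i j p := by
  have e1 := h.rot.p_eq
  have e2 := h.q_eq0
  rw [h.P0_eq_and_sum.1, zero_add] at e2
  have hz : (0 : E) + (P1 i j q - P3 i j p) * i + (P2 i j q - P1 i j p) * j +
      (P3 i j q - P2 i j p) * (i * j) = 0 := by
    have : (0 : E) + (P1 i j q - P3 i j p) * i + (P2 i j q - P1 i j p) * j +
      (P3 i j q - P2 i j p) * (i * j) =
      (P1 i j q * i + P2 i j q * j + P3 i j q * (i * j)) -
        (P1 i j p * j + P2 i j p * (i * j) + P3 i j p * i) := by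
      simp only [sub_mul]; abel
    rw [this, ← e1, ← e2, sub_self]
  obtain ⟨-, r1, r2, r3⟩ := h.hf.unique CommIJ.zero (h.rot.c1.sub h.c3) (h.rot.c2.sub h.c1)
    (h.rot.c3.sub h.c2) hz
  exact ⟨sub_eq_zero.mp r1, sub_eq_zero.mp r2, sub_eq_zero.mp r3⟩

/-- `p` is in standard position with parameter `D` -/
def IsStd (i j p D : E) : Prop :=
  CommIJ i j D ∧ D * D = 5 ∧
    p = (1 / 2 : ℚ) • i + ((1 / 4 : ℚ) • (1 - D)) * j + ((1 / 4 : ℚ) • (1 + D)) * (i * j)

/-- the second frame is the first one up to relabeling, or one of its three members is in standard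
position -/
theorem cases [Nontrivial E] (h : TwoFrames i j p q ξ ξ')
    (o1 : OptT ((i * ξ * (-i)) * (p * ξ * (-p)) + (p * ξ' * (-p)) * (i * ξ' * (-i))))
    (o2 : OptT ((j * ξ * (-j)) * (p * ξ * (-p)) + (p * ξ' * (-p)) * (j * ξ' * (-j))))
    (o3 : OptT (((i * j) * ξ * (-(i * j))) * (p * ξ * (-p)) +
      (p * ξ' * (-p)) * ((i * j) * ξ' * (-(i * j))))) :
    p = i ∨ p = j ∨ p = i * j ∨ (∃ D, IsStd i j p D) ∨ (∃ D, IsStd i j q D) ∨
      (∃ D, IsStd i j (p * q) D) := by
  have hp := h.p_eq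
  rcases h.pinned o1 o2 o3 with ⟨r1, r2, r3⟩ | ⟨r1, r2, r3⟩ | ⟨r1, r2, r3⟩ | r | r | r
  · left; rw [hp, r1, r2, r3]; simp
  · right; left; rw [hp, r1, r2, r3]; simp
  · right; right; left; rw [hp, r1, r2, r3]; simp
  · right; right; right; left
    exact h.std_form r
  · right; right; right; right; right
    have : 2 * P1 i j (p * q) = 1 := by rw [h.rot.P_rot.1, h.P_rot.2.2]; exact r
    exact h.rot.rot.std_form this
  · right; right; right; right; left
    have : 2 * P1 i j q = 1 := by rw [h.P_rot.1]; exact r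
    exact h.rot.std_form this


end TwoFrames

end Cfsg.Agent.ZassL
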