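import Mathlib
import Cfsg.Agent.Lib.Zass.Frame
import Cfsg.Agent.Lib.Zass.Pin2

/-! # Zassenhaus cluster, ring side (helper7): three frames

`D₂, D₃` commute with the frame `(i, j)` and `D₂² = D₃² = 5`.  The operator
`c = D₂D₃ + D₃D₂` is central in the algebra generated by `i, j, D₂, D₃`; three pairs of
"order three" elements force `c = 10`. -/

set_option autoImplicit false
set_option linter.unusedSimpArgs false
set_option linter.unusedSectionVars false

namespace Cfsg.Agent.ZassL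

variable {E : Type*} [Ring E] [Algebra ℚ E]

/-- the matrix of `u x u⁻¹` for a frame in standard position with parameter `D` -/
noncomputable def Yp (i j D : E) : E :=
  (-1 / 2 : ℚ) • 1 + ((1 / 4 : ℚ) • (1 + D)) * j + ((1 / 4 : ℚ) • (1 - D)) * (i * j)

/-- the matrix of `u x⁻¹ u⁻¹` for a frame in standard position with parameter `D` -/
noncomputable def Ym (i j D : E) : E :=
  (-1 / 2 : ℚ) • 1 - ((1 / 4 : ℚ) • (1 + D)) * j - ((1 / 4 : ℚ) • (1 - D)) * (i * j)


section scalars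

theorem smul_one_ne_zero' [Nontrivial E] {r : ℚ} (hr : r ≠ 0) : (r • (1 : E)) ≠ 0 := by
  intro h
  rcases smul_eq_zero.mp h with h | h
  · exact hr h
  · exact one_ne_zero h

theorem num2 : (2 : E) = (2 : ℚ) • 1 := by rw [Algebra.smul_def, mul_one, map_ofNat]
theorem numm1 : (-1 : E) = (-1 : ℚ) • 1 := by simp
theorem num0 : (0 : E) = (0 : ℚ) • 1 := by simp
theorem num1 : (1 : E) = (1 : ℚ) • 1 := by simp

/-- the value of `T` in the four "rational" cases of `OptT`, and the golden case -/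
theorem optT_cases {T : E} (h : OptT T) :
    (∃ r : ℚ, T = r • 1) ∨ T * T - T - 1 = 0 := by
  rcases h with h | h | h | h | h
  · exact Or.inl ⟨2, h.trans num2⟩
  · exact Or.inl ⟨-1, h.trans numm1⟩
  · exact Or.inl ⟨0, h.trans num0⟩
  · exact Or.inl ⟨1, h.trans num1⟩
  · exact Or.inr h

end scalars

/-- the hypotheses on `D₂, D₃` -/
structure DD (i j D2 D3 : E) : Prop where
  hf : QF i j
  c2 : CommIJ i j D2
  c3 : CommIJ i j D3
  s2 : D2 * D2 = (5 : ℚ) • 1
  s3 : D3 * D3 = (5 : ℚ) • 1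

namespace DD

variable {i j D2 D3 : E}

theorem s2' (h : DD i j D2 D3) (X : E) : D2 * (D2 * X) = (5 : ℚ) • X := by
  rw [← mul_assoc, h.s2, smul_mul_assoc, one_mul]
theorem s3' (h : DD i j D2 D3) (X : E) : D3 * (D3 * X) = (5 : ℚ) • X := by
  rw [← mul_assoc, h.s3, smul_mul_assoc, one_mul]

theorem TA_eq (h : DD i j D2 D3) :
    Yp i j D2 * Ym i j D3 + Yp i j D3 * Ym i j D2 =
      (3 / 4 : ℚ) • 1 + (1 / 8 : ℚ) • (D2 * D3 + D3 * D2) := by
  have hf := h.hf
  have c2 := h.c2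
  have c3 := h.c3
  unfold Yp Ym
  simp only [mul_smul_comm, smul_mul_assoc, smul_add, smul_sub, mul_sub, sub_mul, mul_add, add_mul,
    mul_assoc, c2.ci', c2.cj', c3.ci', c3.cj', c2.ci, c2.cj, c3.ci, c3.cj, hf.ii', hf.jj', hf.ji',
    hf.ii, hf.jj, hf.ji, h.s2, h.s3, h.s2', h.s3', mul_neg, neg_mul, neg_neg, mul_one, one_mul,
    sub_neg_eq_add, smul_neg, smul_smul]
  module

/-- the non-scalar part of the second trace operator -/
noncomputable def MB (i D2 D3 : E) : E :=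
  (1 / 4 : ℚ) • D2 + (1 / 4 : ℚ) • D3 - (1 / 8 : ℚ) • (i * (D2 * D3 - D3 * D2))

/-- the non-scalar part of the third trace operator -/
noncomputable def MC (i j D2 D3 : E) : E :=
  (1 / 8 : ℚ) • D2 - (1 / 8 : ℚ) • D3 + (1 / 16 : ℚ) • ((i - j - i * j) * (D2 * D3 - D3 * D2))

theorem TB_eq (h : DD i j D2 D3) :
    Yp i j D2 * ((i * j) * Yp i j D3 * (-(i * j))) + ((i * j) * Ym i j D3 * (-(i * j))) * Ym i j D2 =
      (1 / 2 : ℚ) • 1 + MB i D2 D3 := by
  have hf := h.hf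
  have c2 := h.c2
  have c3 := h.c3
  unfold Yp Ym MB
  simp only [mul_smul_comm, smul_mul_assoc, smul_add, smul_sub, mul_sub, sub_mul, mul_add, add_mul,
    mul_assoc, c2.ci', c2.cj', c3.ci', c3.cj', c2.ci, c2.cj, c3.ci, c3.cj, hf.ii', hf.jj', hf.ji',
    hf.ii, hf.jj, hf.ji, h.s2, h.s3, h.s2', h.s3', mul_neg, neg_mul, neg_neg, mul_one, one_mul,
    sub_neg_eq_add, smul_neg, smul_smul]
  module

theorem TC_eq (h : DD i j D2 D3) :
    Yp i j D2 * (((-1 / 2 : ℚ) • (1 + i - j - i * j)) * Yp i j D3 *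
        ((-1 / 2 : ℚ) • (1 - i + j + i * j))) +
      (((-1 / 2 : ℚ) • (1 + i - j - i * j)) * Ym i j D3 *
        ((-1 / 2 : ℚ) • (1 - i + j + i * j))) * Ym i j D2 =
      (3 / 8 : ℚ) • 1 + (1 / 16 : ℚ) • (D2 * D3 + D3 * D2) + MC i j D2 D3 := by
  have hf := h.hf
  have c2 := h.c2
  have c3 := h.c3
  unfold Yp Ym MC
  simp only [mul_smul_comm, smul_mul_assoc, smul_add, smul_sub, mul_sub, sub_mul, mul_add, add_mul,
    mul_assoc, c2.ci', c2.cj', c3.ci', c3.cj', c2.ci, c2.cj, c3.ci, c3.cj, hf.ii', hf.jj', hf.ji',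
    hf.ii, hf.jj, hf.ji, h.s2, h.s3, h.s2', h.s3', mul_neg, neg_mul, neg_neg, mul_one, one_mul,
    sub_neg_eq_add, smul_neg, smul_smul]
  module

theorem MB_sq (h : DD i j D2 D3) :
    MB i D2 D3 * MB i D2 D3 = (35 / 16 : ℚ) • 1 + (1 / 16 : ℚ) • (D2 * D3 + D3 * D2) -
      (1 / 64 : ℚ) • ((D2 * D3 + D3 * D2) * (D2 * D3 + D3 * D2)) := by
  have hf := h.hf
  have c2 := h.c2
  have c3 := h.c3
  unfold MB
  simp only [mul_smul_comm, smul_mul_assoc, smul_add, smul_sub, mul_sub, sub_mul, mul_add, add_mul,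
    mul_assoc, c2.ci', c2.cj', c3.ci', c3.cj', c2.ci, c2.cj, c3.ci, c3.cj, hf.ii', hf.jj', hf.ji',
    hf.ii, hf.jj, hf.ji, h.s2, h.s3, h.s2', h.s3', mul_neg, neg_mul, neg_neg, mul_one, one_mul,
    sub_neg_eq_add, smul_neg, smul_smul]
  module

theorem MC_sq (h : DD i j D2 D3) :
    MC i j D2 D3 * MC i j D2 D3 = (85 / 64 : ℚ) • 1 - (1 / 64 : ℚ) • (D2 * D3 + D3 * D2) -
      (3 / 256 : ℚ) • ((D2 * D3 + D3 * D2) * (D2 * D3 + D3 * D2)) := by
  have hf := h.hf
  have c2 := h.c2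
  have c3 := h.c3
  unfold MC
  simp only [mul_smul_comm, smul_mul_assoc, smul_add, smul_sub, mul_sub, sub_mul, mul_add, add_mul,
    mul_assoc, c2.ci', c2.cj', c3.ci', c3.cj', c2.ci, c2.cj, c3.ci, c3.cj, hf.ii', hf.jj', hf.ji',
    hf.ii, hf.jj, hf.ji, h.s2, h.s3, h.s2', h.s3', mul_neg, neg_mul, neg_neg, mul_one, one_mul,
    sub_neg_eq_add, smul_neg, smul_smul]
  module

theorem Ep_sq (h : DD i j D2 D3) :
    (D2 * D3 - D3 * D2) * (D2 * D3 - D3 * D2) =
      (D2 * D3 + D3 * D2) * (D2 * D3 + D3 * D2) - (100 : ℚ) • 1 := by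
  simp only [mul_smul_comm, smul_mul_assoc, smul_add, smul_sub, mul_sub, sub_mul, mul_add, add_mul,
    mul_assoc, h.s2, h.s3, h.s2', h.s3', mul_one, smul_smul]
  module

/-- if `MB` commutes with `D₂` then `D₂, D₃` commute -/
theorem Ep_zero_of_MB (h : DD i j D2 D3) (hc : MB i D2 D3 * D2 = D2 * MB i D2 D3) :
    D2 * D3 - D3 * D2 = 0 := by
  have hf := h.hf
  have c2 := h.c2
  have c3 := h.c3
  -- `MB D₂ - D₂ MB = -(1/4) (E' + i E' D₂)`
  have e1 : (D2 * D3 - D3 * D2) = -(i * (D2 * D3 - D3 * D2) * D2) := by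
    have : MB i D2 D3 * D2 - D2 * MB i D2 D3 =
        (-1 / 4 : ℚ) • ((D2 * D3 - D3 * D2) + i * (D2 * D3 - D3 * D2) * D2) := by
      unfold MB
      simp only [mul_smul_comm, smul_mul_assoc, smul_add, smul_sub, mul_sub, sub_mul, mul_add,
        add_mul, mul_assoc, c2.ci', c2.cj', c3.ci', c3.cj', c2.ci, c2.cj, c3.ci, c3.cj, h.s2, h.s3,
        h.s2', h.s3', mul_one, smul_smul]
      module
    rw [hc, sub_self] at this
    have h4 : (-4 : ℚ) • ((-1 / 4 : ℚ) • ((D2 * D3 - D3 * D2) + i * (D2 * D3 - D3 * D2) * D2)) = 0 := by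
      rw [← this, smul_zero]
    rw [smul_smul, show (-4 : ℚ) * (-1 / 4) = 1 by norm_num, one_smul] at h4
    exact eq_neg_of_add_eq_zero_left h4
  -- substitute into itself
  have e2 : i * (D2 * D3 - D3 * D2) * D2 = (5 : ℚ) • (D2 * D3 - D3 * D2) := by
    nth_rewrite 1 [e1]
    simp only [mul_neg, neg_mul, mul_assoc, h.s2, mul_smul_comm, mul_one, hf.ii']
    simp
  rw [e2] at e1
  have : (6 : ℚ) • (D2 * D3 - D3 * D2) = 0 := by
    have : (6 : ℚ) • (D2 * D3 - D3 * D2) = (D2 * D3 - D3 * D2) + (5 : ℚ) • (D2 * D3 - D3 * D2) := by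
      module
    rw [this]; nth_rewrite 1 [e1]; simp
  have h6 : (1 / 6 : ℚ) • ((6 : ℚ) • (D2 * D3 - D3 * D2)) = 0 := by rw [this, smul_zero]
  rwa [smul_smul, show (1 / 6 : ℚ) * 6 = 1 by norm_num, one_smul] at h6


/-- if `MC` commutes with `D₂` then `D₂, D₃` commute -/
theorem Ep_zero_of_MC (h : DD i j D2 D3) (hc : MC i j D2 D3 * D2 = D2 * MC i j D2 D3) :
    D2 * D3 - D3 * D2 = 0 := by
  have hf := h.hf
  have c2 := h.c2
  have c3 := h.c3
  have e1 : (D2 * D3 - D3 * D2) = -((i - j - i * j) * (D2 * D3 - D3 * D2) * D2) := by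
    have : MC i j D2 D3 * D2 - D2 * MC i j D2 D3 =
        (1 / 8 : ℚ) • ((D2 * D3 - D3 * D2) + (i - j - i * j) * (D2 * D3 - D3 * D2) * D2) := by
      unfold MC
      simp only [mul_smul_comm, smul_mul_assoc, smul_add, smul_sub, mul_sub, sub_mul, mul_add,
        add_mul, mul_assoc, c2.ci', c2.cj', c3.ci', c3.cj', c2.ci, c2.cj, c3.ci, c3.cj, h.s2, h.s3,
        h.s2', h.s3', mul_one, smul_smul]
      module
    rw [hc, sub_self] at this
    have h4 : (8 : ℚ) • ((1 / 8 : ℚ) • ((D2 * D3 - D3 * D2) +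
        (i - j - i * j) * (D2 * D3 - D3 * D2) * D2)) = 0 := by
      rw [← this, smul_zero]
    rw [smul_smul, show (8 : ℚ) * (1 / 8) = 1 by norm_num, one_smul] at h4
    exact eq_neg_of_add_eq_zero_left h4
  have e2 : (i - j - i * j) * (D2 * D3 - D3 * D2) * D2 = (15 : ℚ) • (D2 * D3 - D3 * D2) := by
    nth_rewrite 1 [e1]
    have hs : (i - j - i * j) * (i - j - i * j) = (-3 : ℚ) • 1 := by
      simp only [mul_sub, sub_mul, mul_assoc, hf.ii', hf.jj', hf.ji', hf.ii, hf.jj, hf.ji, mul_neg,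
        neg_mul, neg_neg, sub_neg_eq_add]
      module
    have e3 : ∀ s' Ep : E, s' * (s' * Ep * D2) * D2 = (s' * s') * Ep * (D2 * D2) := by
      intro s' Ep; simp only [mul_assoc]
    rw [mul_neg, neg_mul, e3, hs, h.s2, smul_mul_assoc, one_mul, mul_smul_comm, mul_one, smul_smul]
    module
  rw [e2] at e1
  have : (16 : ℚ) • (D2 * D3 - D3 * D2) = 0 := by
    have : (16 : ℚ) • (D2 * D3 - D3 * D2) =
        (D2 * D3 - D3 * D2) + (15 : ℚ) • (D2 * D3 - D3 * D2) := by module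
    rw [this]; nth_rewrite 1 [e1]; simp
  have h6 : (1 / 16 : ℚ) • ((16 : ℚ) • (D2 * D3 - D3 * D2)) = 0 := by rw [this, smul_zero]
  rwa [smul_smul, show (1 / 16 : ℚ) * 16 = 1 by norm_num, one_smul] at h6


theorem comm_smul_one (r : ℚ) (X : E) : (r • (1 : E)) * X = X * (r • (1 : E)) := by
  rw [smul_mul_assoc, one_mul, mul_smul_comm, mul_one]

/-- from the second pair: `D₂, D₃` commute or `c² - 4c - 60 = 0` -/
theorem stepB (h : DD i j D2 D3) (oB : OptT ((1 / 2 : ℚ) • 1 + MB i D2 D3)) :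
    D2 * D3 - D3 * D2 = 0 ∨
      (D2 * D3 + D3 * D2) * (D2 * D3 + D3 * D2) - (4 : ℚ) • (D2 * D3 + D3 * D2) - (60 : ℚ) • 1 = 0 := by
  rcases optT_cases oB with ⟨r, hr⟩ | hg
  · left
    apply h.Ep_zero_of_MB
    have : MB i D2 D3 = (r - 1 / 2) • (1 : E) := by
      have : MB i D2 D3 = ((1 / 2 : ℚ) • 1 + MB i D2 D3) - (1 / 2 : ℚ) • 1 := by abel
      rw [this, hr]; module
    rw [this]; exact comm_smul_one _ _
  · right
    have e : ((1 / 2 : ℚ) • 1 + MB i D2 D3) * ((1 / 2 : ℚ) • 1 + MB i D2 D3) -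
        ((1 / 2 : ℚ) • 1 + MB i D2 D3) - 1 = MB i D2 D3 * MB i D2 D3 - (5 / 4 : ℚ) • 1 := by
      simp only [mul_add, add_mul, smul_mul_assoc, mul_smul_comm, one_mul, mul_one, smul_smul]
      module
    rw [e, h.MB_sq] at hg
    have : (D2 * D3 + D3 * D2) * (D2 * D3 + D3 * D2) - (4 : ℚ) • (D2 * D3 + D3 * D2) - (60 : ℚ) • 1 =
        (-64 : ℚ) • ((35 / 16 : ℚ) • 1 + (1 / 16 : ℚ) • (D2 * D3 + D3 * D2) -
          (1 / 64 : ℚ) • ((D2 * D3 + D3 * D2) * (D2 * D3 + D3 * D2)) - (5 / 4 : ℚ) • 1) := by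
      module
    rw [this, hg, smul_zero]

theorem main [Nontrivial E] (h : DD i j D2 D3)
    (oA : OptT (Yp i j D2 * Ym i j D3 + Yp i j D3 * Ym i j D2))
    (oB : OptT (Yp i j D2 * ((i * j) * Yp i j D3 * (-(i * j))) +
      ((i * j) * Ym i j D3 * (-(i * j))) * Ym i j D2))
    (oC : OptT (Yp i j D2 * (((-1 / 2 : ℚ) • (1 + i - j - i * j)) * Yp i j D3 *
        ((-1 / 2 : ℚ) • (1 - i + j + i * j))) +
      (((-1 / 2 : ℚ) • (1 + i - j - i * j)) * Ym i j D3 *
        ((-1 / 2 : ℚ) • (1 - i + j + i * j))) * Ym i j D2)) :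
    Yp i j D2 * Ym i j D3 + Yp i j D3 * Ym i j D2 = 2 := by
  rw [h.TA_eq] at oA ⊢
  rw [h.TB_eq] at oB
  rw [h.TC_eq] at oC
  have hEp := h.Ep_sq
  have hB := h.stepB oB
  obtain ⟨c, hc⟩ : ∃ c, c = D2 * D3 + D3 * D2 := ⟨_, rfl⟩
  rw [← hc] at oA oC hEp hB ⊢
  -- `E' = 0` gives `c² = 100`
  have hB' : c * c = (100 : ℚ) • 1 ∨ c * c - (4 : ℚ) • c - (60 : ℚ) • 1 = 0 := by
    rcases hB with hB | hB
    · left
      rw [hB, mul_zero] at hEp
      exact (sub_eq_zero.mp hEp.symm)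
    · exact Or.inr hB
  -- scalar value of `c` from the first pair
  have sc : ∀ r : ℚ, (3 / 4 : ℚ) • (1 : E) + (1 / 8 : ℚ) • c = r • 1 → c = (8 * r - 6) • (1 : E) := by
    intro r hr
    have : c = (8 : ℚ) • (((3 / 4 : ℚ) • (1 : E) + (1 / 8 : ℚ) • c) - (3 / 4 : ℚ) • 1) := by module
    rw [this, hr]; module
  have sq : ∀ r : ℚ, c = r • (1 : E) → c * c = (r * r) • (1 : E) := by
    intro r hr
    rw [hr, smul_mul_assoc, one_mul, smul_smul]
  -- the case `c = r`, `r ≠ 10, -6` is impossible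
  have bad : ∀ r : ℚ, c = r • (1 : E) → r * r ≠ 100 → r * r - 4 * r - 60 ≠ 0 → False := by
    intro r hr h1 h2
    rcases hB' with hb | hb
    · rw [sq r hr] at hb
      have : (r * r - 100) • (1 : E) = 0 := by rw [sub_smul, hb, sub_self]
      exact smul_one_ne_zero' (sub_ne_zero.mpr h1) this
    · rw [sq r hr, hr] at hb
      have : (r * r - 4 * r - 60) • (1 : E) = 0 := by rw [← hb]; module
      exact smul_one_ne_zero' h2 this
  rcases optT_cases oA with ⟨r, hr⟩ | hg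
  · -- `c = 8 r - 6`
    have hcr := sc r hr
    rcases oA with o | o | o | o | o
    · exact o
    · exfalso
      have hc14 : c = (-14 : ℚ) • (1 : E) := by
        have := sc (-1) (o.trans numm1); rw [this]; norm_num
      exact bad _ hc14 (by norm_num) (by norm_num)
    · -- `c = -6`: use the third pair
      exfalso
      have hc6 : c = (-6 : ℚ) • (1 : E) := by
        have := sc 0 (o.trans num0); rw [this]; norm_num
      have hTC : (3 / 8 : ℚ) • (1 : E) + (1 / 16 : ℚ) • c + MC i j D2 D3 = MC i j D2 D3 := by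
        rw [hc6]; module
      rw [hTC] at oC
      have hsq : MC i j D2 D3 * MC i j D2 D3 = 1 := by
        rw [h.MC_sq, ← hc, hc6]
        simp only [smul_mul_assoc, mul_smul_comm, one_mul, mul_one, smul_smul]
        rw [num1]; module
      rcases optT_cases oC with ⟨r', hr'⟩ | hg'
      · have hz := h.Ep_zero_of_MC (by rw [hr']; exact comm_smul_one _ _)
        rw [hz, mul_zero, sq _ hc6] at hEp
        have : ((-6 : ℚ) * (-6) - 100) • (1 : E) = 0 := by rw [hEp]; module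
        exact smul_one_ne_zero' (by norm_num) this
      · rw [hsq] at hg'
        have hM0 : MC i j D2 D3 = 0 := by
          have : MC i j D2 D3 = -(1 - MC i j D2 D3 - 1) := by abel
          rw [this, hg', neg_zero]
        rw [hM0, mul_zero] at hsq
        exact zero_ne_one hsq
    · exfalso
      have hc2 : c = (2 : ℚ) • (1 : E) := by
        have := sc 1 (o.trans num1); rw [this]; norm_num
      exact bad _ hc2 (by norm_num) (by norm_num)
    · -- rational value and golden at the same time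
      exfalso
      rw [hr] at o
      simp only [smul_mul_assoc, mul_smul_comm, one_mul, mul_one, smul_smul] at o
      have : (r * r - r - 1) • (1 : E) = 0 := by rw [← o, num1]; module
      have hne : r * r - r - 1 ≠ 0 := by
        intro h0
        have h5 : (2 * r - 1) ^ 2 = 5 := by ring_nf; ring_nf at h0; linarith
        have : IsSquare (5 : ℚ) := ⟨2 * r - 1, by rw [← h5]; ring⟩
        rw [Rat.isSquare_iff] at this
        norm_num at this
      exact smul_one_ne_zero' hne this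
  · -- the golden case of the first pair: `c² + 4c - 76 = 0`
    exfalso
    have hA : c * c + (4 : ℚ) • c - (76 : ℚ) • 1 = 0 := by
      have e : ((3 / 4 : ℚ) • (1 : E) + (1 / 8 : ℚ) • c) * ((3 / 4 : ℚ) • (1 : E) + (1 / 8 : ℚ) • c) -
          ((3 / 4 : ℚ) • (1 : E) + (1 / 8 : ℚ) • c) - 1 =
          (1 / 64 : ℚ) • (c * c + (4 : ℚ) • c - (76 : ℚ) • 1) := by
        simp only [mul_add, add_mul, smul_mul_assoc, mul_smul_comm, one_mul, mul_one, smul_smul]
        rw [num1]; module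
      rw [e] at hg
      have : (64 : ℚ) • ((1 / 64 : ℚ) • (c * c + (4 : ℚ) • c - (76 : ℚ) • 1)) = 0 := by
        rw [hg, smul_zero]
      rwa [smul_smul, show (64 : ℚ) * (1 / 64) = 1 by norm_num, one_smul] at this
    rcases hB' with hb | hb
    · -- `c² = 100`, so `4c = -24`, `c = -6`, `c² = 36`
      have hc6 : c = (-6 : ℚ) • (1 : E) := by
        have : c = (1 / 4 : ℚ) • ((c * c + (4 : ℚ) • c - (76 : ℚ) • 1) - c * c + (76 : ℚ) • 1) := by
          module
        rw [this, hA, hb]; module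
      rw [sq _ hc6] at hb
      have : ((-6 : ℚ) * (-6) - 100) • (1 : E) = 0 := by rw [sub_smul, hb, sub_self]
      exact smul_one_ne_zero' (by norm_num) this
    · -- `8c = 16`, `c = 2`
      have hc2 : c = (2 : ℚ) • (1 : E) := by
        have : c = (1 / 8 : ℚ) • ((c * c + (4 : ℚ) • c - (76 : ℚ) • 1) -
            (c * c - (4 : ℚ) • c - (60 : ℚ) • 1) + (16 : ℚ) • 1) := by module
        rw [this, hA, hb]; module
      rw [sq _ hc2, hc2] at hA
      have : ((2 : ℚ) * 2 + 4 * 2 - 76) • (1 : E) = 0 := by rw [← hA]; module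
      exact smul_one_ne_zero' (by norm_num) this


end DD

end Cfsg.Agent.ZassL
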