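import Mathlib
import Cfsg.Agent.Lib.Zass.BasicC
import Cfsg.Agent.Lib.Zass.Defs2
import Cfsg.Agent.Lib.Zass.Three

/-! # Zassenhaus cluster, ring side (helper7): from group elements to matrices -/

set_option autoImplicit false
set_option linter.unusedSimpArgs false
set_option linter.unusedSectionVars false

namespace Cfsg.Agent.ZassL

universe u

variable {G : Type u} [Group G] {n : ℕ} {ρ : G →* Matrix.GeneralLinearGroup (Fin n) ℂ}

theorem orderOf_conj_eq (a b : G) : orderOf (a * b * a⁻¹) = orderOf b :=
  (SemiconjBy.orderOf_eq a (show SemiconjBy a b (a * b * a⁻¹) by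
    unfold SemiconjBy; group)).symm

namespace IsFrame

variable {x u v : G}

theorem ov (f : IsFrame x u v) : orderOf v = 4 := by
  rw [← f.hv, orderOf_conj_eq, f.ou]

/-- the images of a frame form a quaternion frame of matrices -/
theorem qf (hρ : IsFree ρ) (f : IsFrame x u v) : QF (mat ρ u) (mat ρ v) := by
  refine ⟨hρ.mat_order_four' f.ou, hρ.mat_order_four' f.ov, ?_⟩
  have h1 : v * u = u⁻¹ * v := by
    have := f.hq
    calc v * u = (v * u * v⁻¹) * v := by group
      _ = u⁻¹ * v := by rw [this]
  have h2 := congrArg (mat ρ) h1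
  rw [mat_mul, mat_mul, hρ.mat_inv_order_four f.ou] at h2
  rw [h2, neg_mul]

theorem xu (f : IsFrame x u v) : mat ρ x * mat ρ u = mat ρ v * mat ρ x := by
  rw [← mat_mul, ← mat_mul, ← f.hv]; congr 1; group

theorem xv (f : IsFrame x u v) : mat ρ x * mat ρ v = mat ρ u * mat ρ v * mat ρ x := by
  rw [← mat_mul, ← mat_mul, ← mat_mul, ← f.huv]; congr 1; group

end IsFrame

/-- two frames for the same `x` of order three give the ring-theoretic data -/
theorem twoFrames (hρ : IsFree ρ) {x u₁ v₁ u v : G} (hx : orderOf x = 3) (f₁ : IsFrame x u₁ v₁)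
    (f : IsFrame x u v) :
    TwoFrames (mat ρ u₁) (mat ρ v₁) (mat ρ u) (mat ρ v) (mat ρ x) (mat ρ x⁻¹) where
  hf := f₁.qf hρ
  hg := f.qf hρ
  inv := mat_mul_inv x
  inv' := mat_inv_mul x
  hi := f₁.xu
  hj := f₁.xv
  hp := f.xu
  hq := f.xv
  h3 := hρ.mat_order_three' hx

/-- the operator `g + g⁻¹` of a product of two elements of order three -/
theorem optT_of_pair [Finite G] (hρ : IsFree ρ) (hn : 0 < n) {a b : G} (ha : orderOf a = 3)
    (hb : orderOf b = 3) : OptT (mat ρ (a * b) + mat ρ (a * b)⁻¹) := by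
  rcases hρ.orderOf_mul_three_three hn ha hb with h | h | h | h | h
  · left
    have : a * b = 1 := orderOf_eq_one_iff.mp h
    rw [this, inv_one, mat_one]; norm_num
  · right; left
    rw [hρ.mat_inv_order_three h]; abel
  · right; right; left
    rw [hρ.mat_inv_order_four h]; abel
  · right; right; right; left
    have h6 := hρ.mat_order_six' h
    have hinv : mat ρ (a * b)⁻¹ = 1 - mat ρ (a * b) := by
      have e1 : mat ρ (a * b) * (1 - mat ρ (a * b)) = 1 := by
        rw [mul_sub, mul_one]
        have : mat ρ (a * b) - mat ρ (a * b) * mat ρ (a * b) =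
            1 - (mat ρ (a * b) * mat ρ (a * b) - mat ρ (a * b) + 1) := by abel
        rw [this, h6, sub_zero]
      calc mat ρ (a * b)⁻¹ = mat ρ (a * b)⁻¹ * (mat ρ (a * b) * (1 - mat ρ (a * b))) := by
            rw [e1, mul_one]
        _ = 1 - mat ρ (a * b) := by rw [← mul_assoc, mat_inv_mul, one_mul]
    rw [hinv]; abel
  · right; right; right; right
    have := hρ.mat_order_ten h
    rw [pow_two] at this
    exact this

end Cfsg.Agent.ZassL
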