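import Mathlib
import Cfsg.Agent.Lib.Zass.RGroupA
import Cfsg.Agent.Lib.Zass.Pin3

/-! # Zassenhaus cluster, ring side (helper7): a second frame is the first one or in standard
position -/

set_option autoImplicit false
set_option linter.unusedSimpArgs false
set_option linter.unusedSectionVars false

namespace Cfsg.Agent.ZassL

universe u

variable {G : Type u} [Group G] {n : ℕ} {ρ : G →* Matrix.GeneralLinearGroup (Fin n) ℂ}

theorem mat_conj_four (hρ : IsFree ρ) {e : G} (he : orderOf e = 4) (g : G) :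
    mat ρ (e * g * e⁻¹) = mat ρ e * mat ρ g * (-mat ρ e) := by
  rw [mat_mul, mat_mul, hρ.mat_inv_order_four he]

theorem pair_expr (hρ : IsFree ρ) {e w x : G} (he : orderOf e = 4) (hw : orderOf w = 4) :
    mat ρ ((e * x * e⁻¹) * (w * x * w⁻¹)) + mat ρ ((e * x * e⁻¹) * (w * x * w⁻¹))⁻¹ =
      (mat ρ e * mat ρ x * (-mat ρ e)) * (mat ρ w * mat ρ x * (-mat ρ w)) +
        (mat ρ w * mat ρ x⁻¹ * (-mat ρ w)) * (mat ρ e * mat ρ x⁻¹ * (-mat ρ e)) := by
  have e1 : ((e * x * e⁻¹) * (w * x * w⁻¹))⁻¹ = (w * x⁻¹ * w⁻¹) * (e * x⁻¹ * e⁻¹) := by group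
  rw [e1, mat_mul (e * x * e⁻¹) (w * x * w⁻¹), mat_mul (w * x⁻¹ * w⁻¹) (e * x⁻¹ * e⁻¹),
    mat_conj_four hρ he, mat_conj_four hρ hw, mat_conj_four hρ he, mat_conj_four hρ hw]

theorem IsFrame.ouv {x u v : G} (f : IsFrame x u v) : orderOf (u * v) = 4 := by
  rw [← f.huv, orderOf_conj_eq, f.ov]

theorem orderOf_conj_three {x : G} (hx : orderOf x = 3) (e : G) : orderOf (e * x * e⁻¹) = 3 := by
  rw [orderOf_conj_eq, hx]

/-- a second frame is the first one up to relabeling, or one of its members is in standard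
position -/
theorem frame_cases [Finite G] (hρ : IsFree ρ) (hn : 0 < n) {x u₁ v₁ u v : G} (hx : orderOf x = 3)
    (f₁ : IsFrame x u₁ v₁) (f : IsFrame x u v) :
    mat ρ u = mat ρ u₁ ∨ mat ρ u = mat ρ v₁ ∨ mat ρ u = mat ρ u₁ * mat ρ v₁ ∨
      (∃ D, TwoFrames.IsStd (mat ρ u₁) (mat ρ v₁) (mat ρ u) D) ∨ (∃ D, TwoFrames.IsStd (mat ρ u₁) (mat ρ v₁) (mat ρ v) D) ∨
      (∃ D, TwoFrames.IsStd (mat ρ u₁) (mat ρ v₁) (mat ρ u * mat ρ v) D) := by
  have : Nonempty (Fin n) := ⟨⟨0, hn⟩⟩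
  have tf := twoFrames hρ hx f₁ f
  have o1 := optT_of_pair hρ hn (orderOf_conj_three hx u₁) (orderOf_conj_three hx u)
  have o2 := optT_of_pair hρ hn (orderOf_conj_three hx v₁) (orderOf_conj_three hx u)
  have o3 := optT_of_pair hρ hn (orderOf_conj_three hx (u₁ * v₁)) (orderOf_conj_three hx u)
  rw [pair_expr hρ f₁.ou f.ou] at o1
  rw [pair_expr hρ f₁.ov f.ou] at o2
  rw [pair_expr hρ f₁.ouv f.ou, mat_mul] at o3
  exact tf.cases o1 o2 o3

end Cfsg.Agent.ZassL
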