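import Mathlib
import Cfsg.Agent.Lib.Zass.Pin3
import Cfsg.Agent.Lib.Zass.Three

/-! # Zassenhaus cluster, ring side (helper7): standard position and the operators `Yp`, `Ym` -/

set_option autoImplicit false
set_option linter.unusedSimpArgs false
set_option linter.unusedSectionVars false

namespace Cfsg.Agent.ZassL

variable {E : Type*} [Ring E] [Algebra ℚ E]

theorem Yp_def (i j D : E) : Yp i j D =
    (-1 / 2 : ℚ) • 1 + ((1 / 4 : ℚ) • (1 + D)) * j + ((1 / 4 : ℚ) • (1 - D)) * (i * j) := rfl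

theorem Ym_def (i j D : E) : Ym i j D =
    (-1 / 2 : ℚ) • 1 - ((1 / 4 : ℚ) • (1 + D)) * j - ((1 / 4 : ℚ) • (1 - D)) * (i * j) := rfl

theorem num5 : (5 : E) = (5 : ℚ) • 1 := by rw [Algebra.smul_def, mul_one, map_ofNat]

namespace TwoFrames

variable {i j p q ξ ξ' D : E}

theorem y_std (h : TwoFrames i j p q ξ ξ') (hs : IsStd i j p D) : p * ξ * (-p) = Yp i j D := by
  rw [h.y_eq, Yp_def]
  obtain ⟨-, -, hp⟩ := hs
  rw [hp]
  simp only [smul_mul_assoc, sub_mul, add_mul, one_mul]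
  module

theorem y'_std (h : TwoFrames i j p q ξ ξ') (hs : IsStd i j p D) : p * ξ' * (-p) = Ym i j D := by
  rw [h.y'_eq, Ym_def]
  obtain ⟨-, -, hp⟩ := hs
  rw [hp]
  simp only [smul_mul_assoc, sub_mul, add_mul, one_mul]
  module

end TwoFrames

theorem Yp_inj {i j D2 D3 : E} (hf : QF i j) (c2 : CommIJ i j D2) (c3 : CommIJ i j D3)
    (h : Yp i j D2 = Yp i j D3) : D2 = D3 := by
  have hz : (0 : E) + 0 * i + ((1 / 4 : ℚ) • (D2 - D3)) * j + ((1 / 4 : ℚ) • (D3 - D2)) * (i * j)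
      = 0 := by
    have : (0 : E) + 0 * i + ((1 / 4 : ℚ) • (D2 - D3)) * j + ((1 / 4 : ℚ) • (D3 - D2)) * (i * j) =
        Yp i j D2 - Yp i j D3 := by
      rw [Yp_def, Yp_def]
      simp only [smul_mul_assoc, sub_mul, add_mul, one_mul, zero_mul]
      module
    rw [this, h, sub_self]
  obtain ⟨-, -, r, -⟩ := hf.unique CommIJ.zero CommIJ.zero ((c2.sub c3).smul _) ((c3.sub c2).smul _) hz
  have : D2 - D3 = (4 : ℚ) • ((1 / 4 : ℚ) • (D2 - D3)) := by module
  rw [r, smul_zero] at this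
  exact sub_eq_zero.mp this

theorem IsStd_inj {i j p p' D : E} (h : TwoFrames.IsStd i j p D) (h' : TwoFrames.IsStd i j p' D) :
    p = p' := by
  rw [h.2.2, h'.2.2]

theorem IsStd.toDD {i j p2 p3 D2 D3 : E} (hf : QF i j) (h2 : TwoFrames.IsStd i j p2 D2)
    (h3 : TwoFrames.IsStd i j p3 D3) : DD i j D2 D3 where
  hf := hf
  c2 := h2.1
  c3 := h3.1
  s2 := by rw [h2.2.1, num5]
  s3 := by rw [h3.2.1, num5]

end Cfsg.Agent.ZassL
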