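import Mathlib
import Cfsg.Agent.Lib.Zass.RGroupB
import Cfsg.Agent.Lib.Zass.RingD

/-! # Zassenhaus cluster, ring side (helper7): at most two frames (up to the generated subgroup)
for a given element of order three -/

set_option autoImplicit false
set_option linter.unusedSimpArgs false
set_option linter.unusedSectionVars false

namespace Cfsg.Agent.ZassL

universe u

variable {G : Type u} [Group G] {n : ℕ} {ρ : G →* Matrix.GeneralLinearGroup (Fin n) ℂ}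

theorem mat_inj (hρ : IsFree ρ) (hn : 0 < n) {a b : G} (h : mat ρ a = mat ρ b) : a = b :=
  hρ.rho_injective hn (Units.ext h)

theorem pair_expr' (a b : G) :
    mat ρ (a * b) + mat ρ (a * b)⁻¹ = mat ρ a * mat ρ b + mat ρ b⁻¹ * mat ρ a⁻¹ := by
  rw [mul_inv_rev, mat_mul, mat_mul]

theorem mat_conj (c b : G) : mat ρ (c * b * c⁻¹) = mat ρ c * mat ρ b * mat ρ c⁻¹ := by
  rw [mat_mul, mat_mul]

theorem conj_inv' (c b : G) : (c * b * c⁻¹)⁻¹ = c * b⁻¹ * c⁻¹ := by group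

namespace IsFrame

variable {x u v : G}

theorem sq_eq (hρ : IsFree ρ) (hn : 0 < n) (f : IsFrame x u v) : u * u = v * v := by
  apply mat_inj hρ hn
  rw [mat_mul, mat_mul, hρ.mat_order_four' f.ou, hρ.mat_order_four' f.ov]

theorem vuv (hρ : IsFree ρ) (hn : 0 < n) (f : IsFrame x u v) : u * v * u⁻¹ = v⁻¹ := by
  have h1 : v * u = u⁻¹ * v := by
    calc v * u = (v * u * v⁻¹) * v := by group
      _ = u⁻¹ * v := by rw [f.hq]
  have h2 : v * u * v = u := by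
    rw [h1, mul_assoc, ← f.sq_eq hρ hn]; group
  have h3 : v * (u * v * u⁻¹) = 1 := by
    calc v * (u * v * u⁻¹) = (v * u * v) * u⁻¹ := by group
      _ = 1 := by rw [h2]; group
  exact eq_inv_of_mul_eq_one_right h3

/-- the rotated frame -/
theorem rot (hρ : IsFree ρ) (hn : 0 < n) (f : IsFrame x u v) : IsFrame x v (u * v) where
  ou := f.ov
  hv := f.huv
  huv := by
    calc x * (u * v) * x⁻¹ = (x * u * x⁻¹) * (x * v * x⁻¹) := by group
      _ = v * (u * v) := by rw [f.hv, f.huv]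
  hq := by
    calc u * v * v * (u * v)⁻¹ = u * v * u⁻¹ := by group
      _ = v⁻¹ := f.vuv hρ hn

theorem closure_rot (u v : G) :
    Subgroup.closure {v, u * v} = Subgroup.closure ({u, v} : Set G) := by
  apply le_antisymm
  · rw [Subgroup.closure_le]
    rintro g (rfl | rfl)
    · exact Subgroup.subset_closure (by simp)
    · exact Subgroup.mul_mem _ (Subgroup.subset_closure (by simp)) (Subgroup.subset_closure (by simp))
  · rw [Subgroup.closure_le]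
    rintro g (rfl | rfl)
    · have : g = (g * v) * v⁻¹ := by group
      rw [this]
      exact Subgroup.mul_mem _ (Subgroup.subset_closure (by simp))
        (Subgroup.inv_mem _ (Subgroup.subset_closure (by simp)))
    · exact Subgroup.subset_closure (by simp)

end IsFrame

/-- a second frame generates the same subgroup as the first one, or can be rotated into standard
position -/
theorem frame_alt [Finite G] (hρ : IsFree ρ) (hn : 0 < n) {x u₁ v₁ u v : G} (hx : orderOf x = 3)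
    (f₁ : IsFrame x u₁ v₁) (f : IsFrame x u v) :
    Subgroup.closure ({u, v} : Set G) = Subgroup.closure {u₁, v₁} ∨
      ∃ u' v' D, IsFrame x u' v' ∧ Subgroup.closure ({u', v'} : Set G) = Subgroup.closure {u, v} ∧
        TwoFrames.IsStd (mat ρ u₁) (mat ρ v₁) (mat ρ u') D := by
  rcases frame_cases hρ hn hx f₁ f with h | h | h | ⟨D, h⟩ | ⟨D, h⟩ | ⟨D, h⟩
  · left
    have hu : u = u₁ := mat_inj hρ hn h
    have hv : v = v₁ := by rw [← f.hv, ← f₁.hv, hu]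
    rw [hu, hv]
  · left
    have hu : u = v₁ := mat_inj hρ hn h
    have hv : v = u₁ * v₁ := by rw [← f.hv, ← f₁.huv, hu]
    rw [hu, hv, IsFrame.closure_rot]
  · left
    have hu : u = u₁ * v₁ := by
      apply mat_inj hρ hn
      rw [h, mat_mul]
    have hv : v = v₁ * (u₁ * v₁) := by rw [← f.hv, hu, ← (f₁.rot hρ hn).huv]
    rw [hu, hv, IsFrame.closure_rot, IsFrame.closure_rot]
  · right
    exact ⟨u, v, D, f, rfl, h⟩
  · right
    exact ⟨v, u * v, D, f.rot hρ hn, IsFrame.closure_rot u v, h⟩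
  · right
    refine ⟨u * v, v * (u * v), D, (f.rot hρ hn).rot hρ hn, ?_, ?_⟩
    · rw [IsFrame.closure_rot, IsFrame.closure_rot]
    · rw [mat_mul]; exact h

/-- the pair operator of `a` and a conjugate of `b` -/
theorem optT_conj [Finite G] (hρ : IsFree ρ) (hn : 0 < n) {a b : G} (ha : orderOf a = 3)
    (hb : orderOf b = 3) (c : G) :
    OptT (mat ρ a * (mat ρ c * mat ρ b * mat ρ c⁻¹) +
      (mat ρ c * mat ρ b⁻¹ * mat ρ c⁻¹) * mat ρ a⁻¹) := by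
  have := optT_of_pair hρ hn ha (orderOf_conj_three hb c)
  rw [pair_expr', conj_inv', mat_conj, mat_conj] at this
  exact this

/-- matrices of `u x u⁻¹` and its inverse for a frame in standard position -/
theorem mat_y (hρ : IsFree ρ) {x u₁ v₁ u v : G} (hx : orderOf x = 3)
    (f₁ : IsFrame x u₁ v₁) (f : IsFrame x u v) {D : Matrix (Fin n) (Fin n) ℂ}
    (hs : TwoFrames.IsStd (mat ρ u₁) (mat ρ v₁) (mat ρ u) D) :
    mat ρ (u * x * u⁻¹) = Yp (mat ρ u₁) (mat ρ v₁) D ∧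
      mat ρ (u * x * u⁻¹)⁻¹ = Ym (mat ρ u₁) (mat ρ v₁) D := by
  have tf := twoFrames hρ hx f₁ f
  constructor
  · rw [mat_conj_four hρ f.ou]; exact tf.y_std hs
  · rw [conj_inv', mat_conj_four hρ f.ou]; exact tf.y'_std hs

/-- two frames in standard position with respect to a third one coincide -/
theorem std_unique [Finite G] (hρ : IsFree ρ) (hn : 0 < n) {x u₁ v₁ u₂ v₂ u₃ v₃ : G}
    (hx : orderOf x = 3) (f₁ : IsFrame x u₁ v₁) (f₂ : IsFrame x u₂ v₂) (f₃ : IsFrame x u₃ v₃)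
    {D₂ D₃ : Matrix (Fin n) (Fin n) ℂ}
    (h2 : TwoFrames.IsStd (mat ρ u₁) (mat ρ v₁) (mat ρ u₂) D₂)
    (h3 : TwoFrames.IsStd (mat ρ u₁) (mat ρ v₁) (mat ρ u₃) D₃) : u₂ = u₃ := by
  have : Nonempty (Fin n) := ⟨⟨0, hn⟩⟩
  have tf := twoFrames hρ hx f₁ f₂
  obtain ⟨y2, y2'⟩ := mat_y hρ hx f₁ f₂ h2
  obtain ⟨y3, y3'⟩ := mat_y hρ hx f₁ f₃ h3
  have oy2 : orderOf (u₂ * x * u₂⁻¹) = 3 := orderOf_conj_three hx _
  have oy3 : orderOf (u₃ * x * u₃⁻¹) = 3 := orderOf_conj_three hx _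
  have oy3' : orderOf (u₃ * x * u₃⁻¹)⁻¹ = 3 := by rw [orderOf_inv]; exact oy3
  have dd : DD (mat ρ u₁) (mat ρ v₁) D₂ D₃ := IsStd.toDD (f₁.qf hρ) h2 h3
  -- first pair
  have oA := optT_of_pair hρ hn oy2 oy3'
  rw [pair_expr', inv_inv, y2, y2', y3, y3'] at oA
  -- second pair
  have oB := optT_conj hρ hn oy2 oy3 (u₁ * v₁)
  rw [y2', y2, y3, y3', hρ.mat_inv_order_four f₁.ouv, mat_mul] at oB
  -- third pair
  have oC := optT_conj hρ hn oy2 oy3 (u₁ * x * u₁⁻¹)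
  have x1 := tf.x1_eq
  have mx1 : mat ρ (u₁ * x * u₁⁻¹) =
      (-1 / 2 : ℚ) • (1 + mat ρ u₁ - mat ρ v₁ - mat ρ u₁ * mat ρ v₁) := by
    rw [mat_conj_four hρ f₁.ou]; exact x1.1
  have mx1' : mat ρ (u₁ * x * u₁⁻¹)⁻¹ =
      (-1 / 2 : ℚ) • (1 - mat ρ u₁ + mat ρ v₁ + mat ρ u₁ * mat ρ v₁) := by
    rw [conj_inv', mat_conj_four hρ f₁.ou]; exact x1.2
  rw [y2', y2, y3, y3', mx1', mx1] at oC
  have key := dd.main oA oB oC
  -- conclude `y₂ = y₃`
  have hy : u₂ * x * u₂⁻¹ = u₃ * x * u₃⁻¹ := by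
    by_contra hne
    have hne' : (u₂ * x * u₂⁻¹) * (u₃ * x * u₃⁻¹)⁻¹ ≠ 1 := by
      intro h
      exact hne (mul_inv_eq_one.mp h)
    have hM : mat ρ ((u₂ * x * u₂⁻¹) * (u₃ * x * u₃⁻¹)⁻¹) +
        mat ρ ((u₂ * x * u₂⁻¹) * (u₃ * x * u₃⁻¹)⁻¹)⁻¹ = 2 := by
      rw [pair_expr', inv_inv, y2, y2', y3, y3']; exact key
    obtain ⟨M, hMd⟩ : ∃ M, M = mat ρ ((u₂ * x * u₂⁻¹) * (u₃ * x * u₃⁻¹)⁻¹) := ⟨_, rfl⟩
    obtain ⟨M', hMd'⟩ : ∃ M', M' = mat ρ ((u₂ * x * u₂⁻¹) * (u₃ * x * u₃⁻¹)⁻¹)⁻¹ := ⟨_, rfl⟩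
    have hMM : M * M' = 1 := by rw [hMd, hMd']; exact mat_mul_inv _
    rw [← hMd, ← hMd'] at hM
    have hz : (M - 1) * (M - 1) = 0 := by
      have e : M' = 2 - M := by rw [← hM]; abel
      rw [e] at hMM
      have : (M - 1) * (M - 1) = -(M * (2 - M) - 1) := by noncomm_ring
      rw [this, hMM]; simp
    rw [hMd] at hz
    have h0 := hρ.cancel hne' hz
    rw [sub_eq_zero, ← mat_one (ρ := ρ)] at h0
    exact hne' (mat_inj hρ hn h0)
  have hY : Yp (mat ρ u₁) (mat ρ v₁) D₂ = Yp (mat ρ u₁) (mat ρ v₁) D₃ := by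
    rw [← y2, ← y3, hy]
  have hD : D₂ = D₃ := Yp_inj (f₁.qf hρ) h2.1 h3.1 hY
  rw [hD] at h2
  exact mat_inj hρ hn (IsStd_inj h2 h3)

/-- (R1), frame version: three frames for the same `x` generate at most two subgroups -/
theorem frames_le_two [Finite G] (hρ : IsFree ρ) (hn : 0 < n) {x u₁ v₁ u₂ v₂ u₃ v₃ : G}
    (hx : orderOf x = 3) (f₁ : IsFrame x u₁ v₁) (f₂ : IsFrame x u₂ v₂) (f₃ : IsFrame x u₃ v₃) :
    Subgroup.closure ({u₁, v₁} : Set G) = Subgroup.closure {u₂, v₂} ∨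
      Subgroup.closure ({u₁, v₁} : Set G) = Subgroup.closure {u₃, v₃} ∨
      Subgroup.closure ({u₂, v₂} : Set G) = Subgroup.closure {u₃, v₃} := by
  rcases frame_alt hρ hn hx f₁ f₂ with h | ⟨a₂, b₂, D₂, g₂, e₂, s₂⟩
  · left; exact h.symm
  rcases frame_alt hρ hn hx f₁ f₃ with h | ⟨a₃, b₃, D₃, g₃, e₃, s₃⟩
  · right; left; exact h.symm
  right; right
  have ha : a₂ = a₃ := std_unique hρ hn hx f₁ g₂ g₃ s₂ s₃
  have hb : b₂ = b₃ := by rw [← g₂.hv, ← g₃.hv, ha]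
  rw [← e₂, ← e₃, ha, hb]

/-- (R1) from the frame lemma (F1) -/
theorem QSet_le_two_of_frames [Finite G] (hρ : IsFree ρ) (hn : 0 < n) {x : G}
    (hx : orderOf x = 3)
    (F1 : ∀ Q ∈ QSet x, ∃ u v, IsFrame x u v ∧ Q = Subgroup.closure {u, v})
    (Q₁ Q₂ Q₃ : Subgroup G) (h₁ : Q₁ ∈ QSet x) (h₂ : Q₂ ∈ QSet x) (h₃ : Q₃ ∈ QSet x) :
    Q₁ = Q₂ ∨ Q₁ = Q₃ ∨ Q₂ = Q₃ := by
  obtain ⟨u₁, v₁, f₁, rfl⟩ := F1 Q₁ h₁
  obtain ⟨u₂, v₂, f₂, rfl⟩ := F1 Q₂ h₂
  obtain ⟨u₃, v₃, f₃, rfl⟩ := F1 Q₃ h₃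
  exact frames_le_two hρ hn hx f₁ f₂ f₃

end Cfsg.Agent.ZassL
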