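import Mathlib
import Cfsg.Agent.Lib.Zass.RGroupC
import Cfsg.Agent.Lib.Zass.Plane
import Cfsg.Agent.Lib.Zass.PlanarB

/-! # Zassenhaus cluster, ring side (helper7): two different frames for the same `x` generate a
group with a free representation of degree two -/

set_option autoImplicit false
set_option linter.unusedSimpArgs false
set_option linter.unusedSectionVars false

namespace Cfsg.Agent.ZassL

universe u

variable {G : Type u} [Group G] {n : ℕ} {ρ : G →* Matrix.GeneralLinearGroup (Fin n) ℂ}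

/-- the subgroup of elements leaving `W` invariant -/
def stabW [Finite G] (ρ : G →* Matrix.GeneralLinearGroup (Fin n) ℂ)
    (W : Submodule ℂ (Fin n → ℂ)) : Subgroup G where
  carrier := {g | mat ρ g ∈ invAlg W}
  mul_mem' := fun {a b} ha hb => by
    show mat ρ (a * b) ∈ invAlg W
    rw [mat_mul]; exact (invAlg W).mul_mem ha hb
  one_mem' := by
    show mat ρ 1 ∈ invAlg W
    rw [mat_one]; exact (invAlg W).one_mem
  inv_mem' := fun {a} ha => invariant_inv W ha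

theorem mem_stabW [Finite G] {W : Submodule ℂ (Fin n → ℂ)} {g : G} :
    g ∈ stabW ρ W ↔ mat ρ g ∈ invAlg W := Iff.rfl

/-- (R2'), frame version -/
theorem free_deg2_frames [Finite G] (hρ : IsFree ρ) (hn : 0 < n) {x u₁ v₁ u₂ v₂ : G}
    (hx : orderOf x = 3) (f₁ : IsFrame x u₁ v₁) (f₂ : IsFrame x u₂ v₂)
    (hne : Subgroup.closure ({u₁, v₁} : Set G) ≠ Subgroup.closure {u₂, v₂}) :
    ∃ σ : ↥(Subgroup.closure ({u₁, v₁} : Set G) ⊔ Subgroup.closure {u₂, v₂} ⊔
      Subgroup.zpowers x) →* Matrix.GeneralLinearGroup (Fin 2) ℂ, IsFree σ := by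
  rcases frame_alt hρ hn hx f₁ f₂ with h | ⟨a, b, D, g, e, hs⟩
  · exact absurd h.symm hne
  rw [← e]
  have tf := twoFrames hρ hx f₁ g
  obtain ⟨W, hW, hi, hj, hD⟩ := exists_plane hn (f₁.qf hρ) hs.1
  have h1 : (1 : Matrix (Fin n) (Fin n) ℂ) ∈ invAlg W := (invAlg W).one_mem
  -- the generators stabilize `W`
  have su : u₁ ∈ stabW ρ W := hi
  have sv : v₁ ∈ stabW ρ W := hj
  have sx : x ∈ stabW ρ W := by
    show mat ρ x ∈ invAlg W
    rw [tf.xi_eq]
    exact (invAlg W).smul_mem ((invAlg W).add_mem ((invAlg W).add_mem ((invAlg W).add_mem h1 hi) hj)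
      ((invAlg W).mul_mem hi hj)) _
  have sa : a ∈ stabW ρ W := by
    show mat ρ a ∈ invAlg W
    rw [hs.2.2]
    refine (invAlg W).add_mem ((invAlg W).add_mem ((invAlg W).smul_mem hi _) ?_) ?_
    · exact (invAlg W).mul_mem ((invAlg W).smul_mem ((invAlg W).sub_mem h1 hD) _) hj
    · exact (invAlg W).mul_mem ((invAlg W).smul_mem ((invAlg W).add_mem h1 hD) _)
        ((invAlg W).mul_mem hi hj)
  have sb : b ∈ stabW ρ W := by
    rw [← g.hv]
    exact (stabW ρ W).mul_mem ((stabW ρ W).mul_mem sx sa) ((stabW ρ W).inv_mem sx)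
  have hle : Subgroup.closure ({u₁, v₁} : Set G) ⊔ Subgroup.closure {a, b} ⊔ Subgroup.zpowers x ≤
      stabW ρ W := by
    refine sup_le (sup_le ?_ ?_) ?_
    · rw [Subgroup.closure_le]
      rintro y (rfl | rfl)
      · exact su
      · exact sv
    · rw [Subgroup.closure_le]
      rintro y (rfl | rfl)
      · exact sa
      · exact sb
    · rw [Subgroup.zpowers_le]; exact sx
  obtain ⟨H, hH⟩ : ∃ H : Subgroup G, H = Subgroup.closure ({u₁, v₁} : Set G) ⊔
    Subgroup.closure {a, b} ⊔ Subgroup.zpowers x := ⟨_, rfl⟩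
  rw [← hH] at hle ⊢
  have hWH : ∀ y : H, ∀ w ∈ W, (mat (ρ.comp H.subtype) y).mulVec w ∈ W := by
    intro y w hw
    exact hle y.2 w hw
  exact exists_free_of_invariant (hρ.subgroup H) W hWH hW

/-- (R2') from the frame lemma (F1) -/
theorem free_deg2_of_two_of_frames [Finite G] (hρ : IsFree ρ) (hn : 0 < n) {x : G}
    (hx : orderOf x = 3)
    (F1 : ∀ Q ∈ QSet x, ∃ u v, IsFrame x u v ∧ Q = Subgroup.closure {u, v})
    (Q₁ Q₂ : Subgroup G) (h₁ : Q₁ ∈ QSet x) (h₂ : Q₂ ∈ QSet x) (hne : Q₁ ≠ Q₂) :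
    ∃ σ : ↥(Q₁ ⊔ Q₂ ⊔ Subgroup.zpowers x) →* Matrix.GeneralLinearGroup (Fin 2) ℂ, IsFree σ := by
  obtain ⟨u₁, v₁, f₁, rfl⟩ := F1 Q₁ h₁
  obtain ⟨u₂, v₂, f₂, rfl⟩ := F1 Q₂ h₂
  exact free_deg2_frames hρ hn hx f₁ f₂ hne

end Cfsg.Agent.ZassL
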