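import Mathlib
import Cfsg.Agent.Lib.Zass.RGroupD
import Cfsg.Agent.Lib.Zass.FrameLB

/-! # Zassenhaus cluster, ring side (helper7): (R1) and (R2') for members of `QSet x` -/

set_option autoImplicit false
set_option linter.unusedSimpArgs false
set_option linter.unusedSectionVars false

namespace Cfsg.Agent.ZassL

universe u

variable {G : Type u} [Group G] {n : ℕ} {ρ : G →* Matrix.GeneralLinearGroup (Fin n) ℂ}

/-- (R1): an element of order three has at most two members in its `QSet` -/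
theorem QSet_le_two [Finite G] (hρ : IsFree ρ) (hn : 0 < n) {x : G} (hx : orderOf x = 3)
    (Q₁ Q₂ Q₃ : Subgroup G) (h₁ : Q₁ ∈ QSet x) (h₂ : Q₂ ∈ QSet x) (h₃ : Q₃ ∈ QSet x) :
    Q₁ = Q₂ ∨ Q₁ = Q₃ ∨ Q₂ = Q₃ :=
  QSet_le_two_of_frames hρ hn hx (fun _ hQ => ZF_frame_of_mem_QSet (hρ.PU hn) hx hQ)
    Q₁ Q₂ Q₃ h₁ h₂ h₃

/-- (R2'): two different members of `QSet x` generate, with `x`, a group with a free
representation of degree two -/
theorem free_deg2_of_two [Finite G] (hρ : IsFree ρ) (hn : 0 < n) {x : G} (hx : orderOf x = 3)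
    (Q₁ Q₂ : Subgroup G) (h₁ : Q₁ ∈ QSet x) (h₂ : Q₂ ∈ QSet x) (hne : Q₁ ≠ Q₂) :
    ∃ σ : ↥(Q₁ ⊔ Q₂ ⊔ Subgroup.zpowers x) →* Matrix.GeneralLinearGroup (Fin 2) ℂ, IsFree σ :=
  free_deg2_of_two_of_frames hρ hn hx (fun _ hQ => ZF_frame_of_mem_QSet (hρ.PU hn) hx hQ)
    Q₁ Q₂ h₁ h₂ hne

end Cfsg.Agent.ZassL
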