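import Mathlib
import Cfsg.Agent.Lib.Zass.SmallB
import Cfsg.Agent.S3378
import Cfsg.Agent.H2.UniqueOrderP

/-!
# Zassenhaus cluster, slice ZD (part C): groups of order 120, non-solvability and `SL(2,5)`

A group `B` of order `120` with a unique involution, centre of order `2` and a non-normal
subgroup of order `3` is not solvable, its Sylow `2`-subgroups are quaternion of order `8`,
hence `B ≃* SL(2,5)` (via `S3378`).
-/

set_option autoImplicit false
set_option linter.unusedSectionVars false
set_option linter.style.haveILetI false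

namespace Cfsg.Agent.ZassL

open Subgroup

section gen
variable {G : Type*} [Group G]

/-- the kernel of the conjugation action on a normal subgroup is its centralizer -/
theorem ker_conjNormal (N : Subgroup G) [N.Normal] :
    (MulAut.conjNormal : G →* MulAut N).ker = centralizer (N : Set G) := by
  ext g
  rw [MonoidHom.mem_ker, mem_centralizer_iff]
  constructor
  · intro hg h hh
    have := congrArg (fun σ : MulAut N => ((σ ⟨h, hh⟩ : N) : G)) hg
    simp only [MulAut.conjNormal_apply, MulAut.one_apply] at this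
    calc h * g = g * h * g⁻¹ * g := by rw [this]
      _ = g * h := by group
  · intro hg
    ext ⟨h, hh⟩
    simp only [MulAut.conjNormal_apply, MulAut.one_apply]
    rw [← hg h hh]; group

/-- a subgroup of order `2` is generated by an involution -/
theorem exists_zpowers_of_card_two (H : Subgroup G) (hH : Nat.card H = 2) :
    ∃ a : G, orderOf a = 2 ∧ H = zpowers a := by
  haveI : Fact (Nat.Prime 2) := ⟨Nat.prime_two⟩
  haveI : Finite H := Nat.finite_of_card_ne_zero (by rw [hH]; norm_num)
  obtain ⟨a, ha⟩ := exists_prime_orderOf_dvd_card' (G := H) 2 (by rw [hH])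
  have ha' : orderOf (a : G) = 2 := by rw [Subgroup.orderOf_coe]; exact ha
  refine ⟨a, ha', ?_⟩
  symm
  apply Subgroup.eq_of_le_of_card_ge (zpowers_le.2 a.2)
  rw [Nat.card_zpowers, ha', hH]

variable [Finite G]

/-- with a unique Sylow `p`-subgroup of order `p`, all elements of order `p` generate it -/
theorem mem_zpowers_of_card_sylow_eq_one {p : ℕ} [Fact p.Prime] (h1 : Nat.card (Sylow p G) = 1)
    (h2 : ¬ p ^ 2 ∣ Nat.card G) {a b : G} (ha : orderOf a = p) (hb : orderOf b = p) :
    b ∈ zpowers a := by
  haveI : Subsingleton (Sylow p G) := (Nat.card_eq_one_iff_unique.mp h1).1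
  have h : sylowOfOrder a ha h2 = sylowOfOrder b hb h2 := Subsingleton.elim _ _
  have h' : zpowers a = zpowers b := by
    have := congrArg (fun S : Sylow p G => (S : Subgroup G)) h
    simpa using this
  rw [h']; exact mem_zpowers b

/-- a group of order `4` with at most one involution is cyclic -/
theorem isCyclic_of_card_four (h4 : Nat.card G = 4)
    (hu : ∀ a b : G, orderOf a = 2 → orderOf b = 2 → a = b) : IsCyclic G := by
  classical
  by_contra hnc
  have hord : ∀ t : G, t ≠ 1 → orderOf t = 2 := by
    intro t ht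
    have h1 : orderOf t ∣ 4 := h4 ▸ orderOf_dvd_natCard t
    have h2 : orderOf t ≠ 1 := fun h => ht (orderOf_eq_one_iff.1 h)
    have h3 : orderOf t ≠ 4 := fun h => hnc (isCyclic_of_orderOf_eq_card t (by rw [h, h4]))
    have h4' : orderOf t ≤ 4 := Nat.le_of_dvd (by norm_num) h1
    have h5 : 0 < orderOf t := orderOf_pos t
    interval_cases h : orderOf t <;> omega
  haveI : Fintype G := Fintype.ofFinite G
  have h3 : 2 < Fintype.card G := by rw [← Nat.card_eq_fintype_card, h4]; norm_num
  obtain ⟨a, b, c, hab, hac, hbc⟩ := Fintype.two_lt_card_iff.1 h3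
  by_cases ha : a = 1
  · have hb : b ≠ 1 := fun h => hab (ha.trans h.symm)
    have hc : c ≠ 1 := fun h => hac (ha.trans h.symm)
    exact hbc (hu b c (hord b hb) (hord c hc))
  · by_cases hb : b = 1
    · have hc : c ≠ 1 := fun h => hbc (hb.trans h.symm)
      exact hac (hu a c (hord a ha) (hord c hc))
    · exact hab (hu a b (hord a ha) (hord b hb))

/-- a group of order `60` or `30` with at most one involution has a normal subgroup of
order `15` -/
theorem exists_normal_fifteen (hK : Nat.card G = 60 ∨ Nat.card G = 30)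
    (hu : ∀ a b : G, orderOf a = 2 → orderOf b = 2 → a = b) :
    ∃ Y : Subgroup G, Y.Normal ∧ Nat.card Y = 15 := by
  haveI : Fact (Nat.Prime 2) := ⟨Nat.prime_two⟩
  obtain ⟨T⟩ : Nonempty (Sylow 2 G) := inferInstance
  have hu' : ∀ a b : (T : Subgroup G), orderOf a = 2 → orderOf b = 2 → a = b := by
    intro a b ha hb
    exact Subtype.ext (hu a b (by rw [Subgroup.orderOf_coe]; exact ha)
      (by rw [Subgroup.orderOf_coe]; exact hb))
  have hmin : (Nat.card G).minFac = 2 := by
    rw [Nat.minFac_eq_two_iff]
    rcases hK with h | h <;> rw [h] <;> norm_num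
  rcases hK with h | h
  · have hT : Nat.card (T : Subgroup G) = 2 ^ 2 :=
      Cfsg.Agent.Lib.Helper4.Sylow.card_sylow_of_card_eq (p := 2) (a := 2) (m := 15)
        (by rw [h]; norm_num) (by norm_num) T
    have hcyc : IsCyclic (T : Subgroup G) := isCyclic_of_card_four (by rw [hT]; norm_num) hu'
    have hc := IsCyclic.isComplement' hmin hcyc
    refine ⟨(MonoidHom.transferSylow T (hcyc.normalizer_le_centralizer hmin)).ker,
      MonoidHom.normal_ker _, ?_⟩
    have := hc.card_mul_card
    rw [hT, h] at this
    omega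
  · have hT : Nat.card (T : Subgroup G) = 2 ^ 1 :=
      Cfsg.Agent.Lib.Helper4.Sylow.card_sylow_of_card_eq (p := 2) (a := 1) (m := 15)
        (by rw [h]; norm_num) (by norm_num) T
    have hcyc : IsCyclic (T : Subgroup G) := isCyclic_of_prime_card (p := 2) (by rw [hT]; norm_num)
    have hc := IsCyclic.isComplement' hmin hcyc
    refine ⟨(MonoidHom.transferSylow T (hcyc.normalizer_le_centralizer hmin)).ker,
      MonoidHom.normal_ker _, ?_⟩
    have := hc.card_mul_card
    rw [hT, h] at this
    omega

/-- if `H` has `p'`-index and a unique Sylow `p`-subgroup, then `n_p(G)` divides `[G : H]` -/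
theorem card_sylow_dvd_index_of_unique {p : ℕ} [Fact p.Prime] (H : Subgroup G)
    (hidx : ¬ p ∣ H.index) (h1 : Nat.card (Sylow p H) = 1) :
    Nat.card (Sylow p G) ∣ H.index := by
  haveI : Subsingleton (Sylow p H) := (Nat.card_eq_one_iff_unique.mp h1).1
  obtain ⟨QH⟩ : Nonempty (Sylow p H) := inferInstance
  have hQn : (QH : Subgroup H).Normal := QH.normal_of_subsingleton
  set P0 : Subgroup G := (QH : Subgroup H).map H.subtype with hP0
  have hHle : H ≤ normalizer (P0 : Set G) := by
    have := Subgroup.le_normalizer_map (H := (QH : Subgroup H)) H.subtype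
    rw [Subgroup.normalizer_eq_top, ← MonoidHom.range_eq_map, Subgroup.range_subtype] at this
    exact this
  have hfac : (Nat.card H).factorization p = (Nat.card G).factorization p := by
    have := Subgroup.card_mul_index H
    rw [← this, Nat.factorization_mul Nat.card_pos.ne' Subgroup.index_ne_zero_of_finite,
      Finsupp.add_apply, Nat.factorization_eq_zero_of_not_dvd hidx, add_zero]
  have hcardP0 : Nat.card P0 = p ^ (Nat.card G).factorization p := by
    rw [hP0, Subgroup.card_map_of_injective H.subtype_injective, QH.card_eq_multiplicity, hfac]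
  set S : Sylow p G := Sylow.ofCard P0 hcardP0 with hS
  rw [S.card_eq_index_normalizer]
  exact Subgroup.index_dvd_of_le hHle

end gen

section B120
variable {B : Type*} [Group B] [Finite B]

/-- a normal subgroup of order `60` or `30` forces the subgroups of order `3` to be normal -/
theorem zpowers_normal_of_normal_60_30 (hcard : Nat.card B = 120) {z x : B}
    (huniq : ∀ t : B, orderOf t = 2 → t = z) (hx : orderOf x = 3)
    (K : Subgroup B) [K.Normal] (hK : Nat.card K = 60 ∨ Nat.card K = 30) :
    (zpowers x).Normal := by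
  haveI : Fact (Nat.Prime 3) := ⟨by norm_num⟩
  have hidx : K.index = 2 ∨ K.index = 4 := by
    have := Subgroup.card_mul_index K
    rw [hcard] at this
    rcases hK with h | h
    · left; rw [h] at this; omega
    · right; rw [h] at this; omega
  have h3K : ∀ y : B, orderOf y = 3 → y ∈ K := by
    intro y hy
    apply mem_of_normal_of_coprime_index
    rcases hidx with h | h <;> rw [hy, h] <;> decide
  obtain ⟨Y, hYn, hY15⟩ := exists_normal_fifteen (G := K) hK (by
    intro a b ha hb
    apply Subtype.ext
    rw [huniq a (by rw [Subgroup.orderOf_coe]; exact ha),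
      huniq b (by rw [Subgroup.orderOf_coe]; exact hb)])
  haveI := hYn
  have hYidx : Y.index = 4 ∨ Y.index = 2 := by
    have := Subgroup.card_mul_index Y
    rw [hY15] at this
    rcases hK with h | h
    · left; rw [h] at this; omega
    · right; rw [h] at this; omega
  have h3Y : ∀ (y : B) (hy : orderOf y = 3), (⟨y, h3K y hy⟩ : K) ∈ Y := by
    intro y hy
    apply mem_of_normal_of_coprime_index
    rw [Subgroup.orderOf_mk]
    rcases hYidx with h | h <;> rw [hy, h] <;> decide
  have hn3 : Nat.card (Sylow 3 Y) = 1 := by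
    have h1 : Nat.card (Sylow 3 Y) ∣ 5 :=
      Cfsg.Agent.Lib.Helper4.Sylow.card_sylow_dvd_of_card_eq (p := 3) (a := 1) (m := 5)
        (by rw [hY15]; norm_num) (by norm_num)
    have h2 := card_sylow_modEq_one 3 Y
    have h3 : Nat.card (Sylow 3 Y) ≤ 5 := Nat.le_of_dvd (by norm_num) h1
    have h4 : 0 < Nat.card (Sylow 3 Y) := Nat.card_pos
    unfold Nat.ModEq at h2
    interval_cases h : Nat.card (Sylow 3 Y) <;> omega
  have hconj : ∀ g : B, g * x * g⁻¹ ∈ zpowers x := by
    intro g
    have hy : orderOf (g * x * g⁻¹) = 3 := by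
      have := (MulAut.conj g).orderOf_eq x
      rw [MulAut.conj_apply] at this
      rw [this, hx]
    have hm := mem_zpowers_of_card_sylow_eq_one (G := Y) hn3 (by rw [hY15]; norm_num)
      (a := ⟨⟨x, h3K x hx⟩, h3Y x hx⟩) (b := ⟨⟨g * x * g⁻¹, h3K _ hy⟩, h3Y _ hy⟩)
      (by rw [Subgroup.orderOf_mk, Subgroup.orderOf_mk]; exact hx)
      (by rw [Subgroup.orderOf_mk, Subgroup.orderOf_mk]; exact hy)
    obtain ⟨k, hk⟩ := mem_zpowers_iff.1 hm
    rw [mem_zpowers_iff]
    refine ⟨k, ?_⟩
    have := congrArg (fun w : Y => ((w : K) : B)) hk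
    simpa using this
  refine ⟨fun h hh g => ?_⟩
  obtain ⟨k, rfl⟩ := mem_zpowers_iff.1 hh
  have : g * x ^ k * g⁻¹ = (g * x * g⁻¹) ^ k := by rw [conj_zpow]
  rw [this]
  exact zpow_mem (hconj g) k

/-- there is no normal subgroup of order `5` -/
theorem no_normal_five (hcard : Nat.card B = 120) {z x : B}
    (huniq : ∀ t : B, orderOf t = 2 → t = z) (hcen : Nat.card (center B) = 2)
    (hx : orderOf x = 3) (hxn : ¬ (zpowers x).Normal) (R : Subgroup B) [R.Normal]
    (hR : Nat.card R = 5) : False := by
  haveI : Fact (Nat.Prime 5) := ⟨by norm_num⟩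
  haveI : IsCyclic R := isCyclic_of_prime_card (p := 5) hR
  set f : B →* MulAut R := MulAut.conjNormal with hf
  have hfk : f.ker = centralizer (R : Set B) := ker_conjNormal R
  have hcardAut : Nat.card (MulAut R) = 4 := by
    rw [IsCyclic.card_mulAut, hR]
    decide
  have hidx : f.ker.index ∣ 4 := by
    rw [Subgroup.index_ker, ← hcardAut]
    exact Subgroup.card_subgroup_dvd_card _
  haveI : f.ker.Normal := MonoidHom.normal_ker f
  have hmul := Subgroup.card_mul_index f.ker
  rw [hcard] at hmul
  have hle : f.ker.index ≤ 4 := Nat.le_of_dvd (by norm_num) hidx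
  have hpos : 0 < f.ker.index := Nat.pos_of_ne_zero Subgroup.index_ne_zero_of_finite
  have hcases : f.ker.index = 1 ∨ f.ker.index = 2 ∨ f.ker.index = 4 := by
    interval_cases h : f.ker.index <;> omega
  rcases hcases with h | h | h
  · have htop : f.ker = ⊤ := Subgroup.index_eq_one.1 h
    have hRc : R ≤ center B := by
      intro r hr
      rw [mem_center_iff]
      intro g
      have hg : g ∈ centralizer (R : Set B) := by rw [← hfk, htop]; exact mem_top g
      rw [mem_centralizer_iff] at hg
      exact (hg r hr).symm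
    have := Subgroup.card_dvd_of_le hRc
    rw [hR, hcen] at this
    omega
  · rw [h] at hmul
    exact hxn (zpowers_normal_of_normal_60_30 hcard huniq hx f.ker (Or.inl (by omega)))
  · rw [h] at hmul
    exact hxn (zpowers_normal_of_normal_60_30 hcard huniq hx f.ker (Or.inr (by omega)))

/-- `B` is not solvable -/
theorem not_solvable_120 (hcard : Nat.card B = 120) {z x : B}
    (huniq : ∀ t : B, orderOf t = 2 → t = z) (hcen : Nat.card (center B) = 2)
    (hx : orderOf x = 3) (hxn : ¬ (zpowers x).Normal) : ¬ Group.IsSolvable B := by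
  intro hsol
  haveI : Fact (Nat.Prime 5) := ⟨by norm_num⟩
  obtain ⟨H1, hH1⟩ := Cfsg.Agent.H1.hall_exists (G := B) 40 3 (by rw [hcard]) (by norm_num)
  obtain ⟨H2, hH2⟩ := Cfsg.Agent.H1.hall_exists (G := B) 15 8 (by rw [hcard]) (by norm_num)
  have i1 : H1.index = 3 := by
    have := Subgroup.card_mul_index H1
    rw [hH1, hcard] at this
    omega
  have i2 : H2.index = 8 := by
    have := Subgroup.card_mul_index H2
    rw [hH2, hcard] at this
    omega
  have u1 : Nat.card (Sylow 5 H1) = 1 := by
    have h1 : Nat.card (Sylow 5 H1) ∣ 8 :=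
      Cfsg.Agent.Lib.Helper4.Sylow.card_sylow_dvd_of_card_eq (p := 5) (a := 1) (m := 8)
        (by rw [hH1]; norm_num) (by norm_num)
    have h2 := card_sylow_modEq_one 5 H1
    have h3 : Nat.card (Sylow 5 H1) ≤ 8 := Nat.le_of_dvd (by norm_num) h1
    have h4 : 0 < Nat.card (Sylow 5 H1) := Nat.card_pos
    unfold Nat.ModEq at h2
    interval_cases h : Nat.card (Sylow 5 H1) <;> omega
  have u2 : Nat.card (Sylow 5 H2) = 1 := by
    have h1 : Nat.card (Sylow 5 H2) ∣ 3 :=
      Cfsg.Agent.Lib.Helper4.Sylow.card_sylow_dvd_of_card_eq (p := 5) (a := 1) (m := 3)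
        (by rw [hH2]; norm_num) (by norm_num)
    have h2 := card_sylow_modEq_one 5 H2
    have h3 : Nat.card (Sylow 5 H2) ≤ 3 := Nat.le_of_dvd (by norm_num) h1
    have h4 : 0 < Nat.card (Sylow 5 H2) := Nat.card_pos
    unfold Nat.ModEq at h2
    interval_cases h : Nat.card (Sylow 5 H2) <;> omega
  have d1 := card_sylow_dvd_index_of_unique H1 (by rw [i1]; norm_num) u1
  have d2 := card_sylow_dvd_index_of_unique H2 (by rw [i2]; norm_num) u2
  rw [i1] at d1
  rw [i2] at d2
  have h1 : Nat.card (Sylow 5 B) = 1 := by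
    have : Nat.card (Sylow 5 B) ∣ Nat.gcd 3 8 := Nat.dvd_gcd d1 d2
    simpa using this
  haveI : Subsingleton (Sylow 5 B) := (Nat.card_eq_one_iff_unique.mp h1).1
  obtain ⟨R⟩ : Nonempty (Sylow 5 B) := inferInstance
  haveI : (R : Subgroup B).Normal := R.normal_of_subsingleton
  have hR : Nat.card (R : Subgroup B) = 5 := by
    have := Cfsg.Agent.Lib.Helper4.Sylow.card_sylow_of_card_eq (p := 5) (a := 1) (m := 24)
      (by rw [hcard]; norm_num) (by norm_num) R
    simpa using this
  exact no_normal_five hcard huniq hcen hx hxn (R : Subgroup B) hR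

/-- the Sylow `2`-subgroups are quaternion of order `8` -/
theorem sylow_two_quaternion (hcard : Nat.card B = 120) {z : B}
    (huniq : ∀ t : B, orderOf t = 2 → t = z) (hns : ¬ Group.IsSolvable B) (S : Sylow 2 B) :
    Nonempty ((S : Subgroup B) ≃* QuaternionGroup 2) := by
  haveI : Fact (Nat.Prime 2) := ⟨Nat.prime_two⟩
  have hS8 : Nat.card (S : Subgroup B) = 2 ^ 3 :=
    Cfsg.Agent.Lib.Helper4.Sylow.card_sylow_of_card_eq (p := 2) (a := 3) (m := 15)
      (by rw [hcard]; norm_num) (by norm_num) S
  have hmain := Cfsg.Agent.H2.UOP.main (G := (S : Subgroup B)) 2 S.isPGroup' (by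
    intro H K hH hK
    obtain ⟨a, ha, rfl⟩ := exists_zpowers_of_card_two H hH
    obtain ⟨b, hb, rfl⟩ := exists_zpowers_of_card_two K hK
    have hab : a = b := by
      apply Subtype.ext
      rw [huniq a (by rw [Subgroup.orderOf_coe]; exact ha),
        huniq b (by rw [Subgroup.orderOf_coe]; exact hb)]
    rw [hab])
  rcases hmain with hcyc | ⟨-, n, ⟨e⟩⟩
  · exfalso
    apply hns
    have hmin : (Nat.card B).minFac = 2 := by
      rw [Nat.minFac_eq_two_iff, hcard]; norm_num
    have hc := IsCyclic.isComplement' hmin hcyc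
    set Y := (MonoidHom.transferSylow S (hcyc.normalizer_le_centralizer hmin)).ker with hY
    have hY15 : Nat.card Y = 15 := by
      have := hc.card_mul_card
      rw [hS8, hcard] at this
      omega
    haveI hYn : Y.Normal := MonoidHom.normal_ker _
    have hYi : Y.index = 8 := by
      have := Subgroup.card_mul_index Y
      rw [hY15, hcard] at this
      omega
    have s1 : Group.IsSolvable Y :=
      Cfsg.Agent.S3669.solvable_of_card_dvd (by rw [hY15]; norm_num) (by rw [hY15]; norm_num)
    have s2 : Group.IsSolvable (B ⧸ Y) :=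
      Cfsg.Agent.S3378.solvable_of_card_dvd_120 (by rw [← Subgroup.index_eq_card, hYi]; norm_num)
        (by rw [← Subgroup.index_eq_card, hYi]; norm_num)
        (by rw [← Subgroup.index_eq_card, hYi]; norm_num)
    exact Group.isSolvable_of_ker_le_range Y.subtype (QuotientGroup.mk' Y)
      (by rw [QuotientGroup.ker_mk', Subgroup.range_subtype])
  · have hn : n = 1 := by
      have h1 : Nat.card (QuaternionGroup (2 ^ n)) = 4 * 2 ^ n := by
        rw [Nat.card_eq_fintype_card, QuaternionGroup.card]
      have h2 := Nat.card_congr e.toEquiv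
      rw [hS8, h1] at h2
      have h3 : 2 ^ n = 2 ^ 1 := by omega
      exact Nat.pow_right_injective (le_refl 2) h3
    subst hn
    exact ⟨e⟩

/-- `B ≃* SL(2,5)` -/
theorem iso_sl25_of_120 (hcard : Nat.card B = 120) {z x : B}
    (huniq : ∀ t : B, orderOf t = 2 → t = z) (hcen : Nat.card (center B) = 2)
    (hx : orderOf x = 3) (hxn : ¬ (zpowers x).Normal) :
    Nonempty (B ≃* Matrix.SpecialLinearGroup (Fin 2) (ZMod 5)) := by
  have hns := not_solvable_120 hcard huniq hcen hx hxn
  exact Cfsg.Agent.S3378.result.1 B hcard hns (sylow_two_quaternion hcard huniq hns)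

end B120

end Cfsg.Agent.ZassL
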