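import Mathlib
import Cfsg.Agent.Lib.Zass.SmallC

/-!
# Zassenhaus cluster, slice ZD (part D): groups of order 120, element orders and `QSet`

`small_120`: a group `B` of order `120` with a unique involution, centre of order `2` and a
non-normal subgroup `⟨x⟩` of order `3` is isomorphic to `SL(2,5)`, its element orders lie in
`{1,2,3,4,5,6,10}` and `QSet x` has two distinct members.
-/

set_option autoImplicit false
set_option linter.unusedSectionVars false
set_option linter.style.haveILetI false

namespace Cfsg.Agent.ZassL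

open Subgroup

section SL25

/-- Cayley–Hamilton for `2 × 2` matrices of determinant `1` -/
theorem sq_of_det_one {R : Type*} [CommRing R] (A : Matrix (Fin 2) (Fin 2) R) (h : A.det = 1) :
    A * A = A.trace • A - 1 := by
  rw [Matrix.det_fin_two] at h
  ext i j
  fin_cases i <;> fin_cases j
  · simp [Matrix.mul_apply, Fin.sum_univ_two, Matrix.trace_fin_two]
    linear_combination (-1 : R) * h
  · simp [Matrix.mul_apply, Fin.sum_univ_two, Matrix.trace_fin_two]
    ring
  · simp [Matrix.mul_apply, Fin.sum_univ_two, Matrix.trace_fin_two]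
    ring
  · simp [Matrix.mul_apply, Fin.sum_univ_two, Matrix.trace_fin_two]
    linear_combination (-1 : R) * h

/-- coefficients of `A ^ n = α • A + β • 1` when `A * A = t • A - 1` -/
def powCoeff (t : ZMod 5) : ℕ → ZMod 5 × ZMod 5
  | 0 => (0, 1)
  | n + 1 => ((powCoeff t n).1 * t + (powCoeff t n).2, -(powCoeff t n).1)

theorem pow_eq_powCoeff (A : Matrix (Fin 2) (Fin 2) (ZMod 5)) (t : ZMod 5)
    (h : A * A = t • A - 1) (n : ℕ) :
    A ^ n = (powCoeff t n).1 • A + (powCoeff t n).2 • (1 : Matrix (Fin 2) (Fin 2) (ZMod 5)) := by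
  induction n with
  | zero => simp [powCoeff]
  | succ n ih =>
    rw [pow_succ, ih, powCoeff]
    simp only [add_mul, smul_mul_assoc, one_mul, h]
    module

theorem powCoeff_cases : ∀ t : ZMod 5,
    powCoeff t 4 = (0, 1) ∨ powCoeff t 6 = (0, 1) ∨ powCoeff t 10 = (0, 1) := by
  decide

theorem sl25_pow (M : Matrix.SpecialLinearGroup (Fin 2) (ZMod 5)) :
    M ^ 4 = 1 ∨ M ^ 6 = 1 ∨ M ^ 10 = 1 := by
  have h := sq_of_det_one (M : Matrix (Fin 2) (Fin 2) (ZMod 5)) M.det_coe
  have key := pow_eq_powCoeff (M : Matrix (Fin 2) (Fin 2) (ZMod 5)) _ h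
  rcases powCoeff_cases (Matrix.trace (M : Matrix (Fin 2) (Fin 2) (ZMod 5))) with h4 | h6 | h10
  · left
    apply Subtype.ext
    rw [Matrix.SpecialLinearGroup.coe_pow, key 4, h4]
    simp
  · right; left
    apply Subtype.ext
    rw [Matrix.SpecialLinearGroup.coe_pow, key 6, h6]
    simp
  · right; right
    apply Subtype.ext
    rw [Matrix.SpecialLinearGroup.coe_pow, key 10, h10]
    simp

end SL25

section B120
variable {B : Type*} [Group B] [Finite B]

/-- element orders of a group isomorphic to `SL(2,5)` -/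
theorem orderOf_mem_of_iso_sl25 (e : B ≃* Matrix.SpecialLinearGroup (Fin 2) (ZMod 5)) (g : B) :
    orderOf g ∈ ({1, 2, 3, 4, 5, 6, 10} : Finset ℕ) := by
  have hpos : 0 < orderOf g := orderOf_pos g
  have hg : g ^ 4 = 1 ∨ g ^ 6 = 1 ∨ g ^ 10 = 1 := by
    rcases sl25_pow (e g) with h | h | h
    · left; apply e.injective; rw [map_pow, h, map_one]
    · right; left; apply e.injective; rw [map_pow, h, map_one]
    · right; right; apply e.injective; rw [map_pow, h, map_one]
  rcases hg with h | h | h
  · have hd := orderOf_dvd_of_pow_eq_one h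
    have hle := Nat.le_of_dvd (by norm_num) hd
    interval_cases ho : orderOf g <;> decide
  · have hd := orderOf_dvd_of_pow_eq_one h
    have hle := Nat.le_of_dvd (by norm_num) hd
    interval_cases ho : orderOf g <;> decide
  · have hd := orderOf_dvd_of_pow_eq_one h
    have hle := Nat.le_of_dvd (by norm_num) hd
    interval_cases ho : orderOf g <;> first | decide | omega

/-- the normalizer of a Sylow `2`-subgroup of a simple group of order `60` has order `12` -/
theorem card_normalizer_sylow_two_of_simple_60 {A : Type*} [Group A] [Finite A] [IsSimpleGroup A]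
    (hA : Nat.card A = 60) (S : Sylow 2 A) :
    Nat.card (normalizer ((S : Subgroup A) : Set A)) = 12 := by
  haveI : Fact (Nat.Prime 2) := ⟨Nat.prime_two⟩
  have hS4 : Nat.card (S : Subgroup A) = 2 ^ 2 :=
    Cfsg.Agent.Lib.Helper4.Sylow.card_sylow_of_card_eq (p := 2) (a := 2) (m := 15)
      (by rw [hA]; norm_num) (by norm_num) S
  set N := normalizer ((S : Subgroup A) : Set A) with hN
  have hSN : (S : Subgroup A) ≤ N := le_normalizer
  have h4N : 4 ∣ Nat.card N := by
    have := Subgroup.card_dvd_of_le hSN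
    rwa [hS4] at this
  have hmul := Subgroup.card_mul_index N
  rw [hA] at hmul
  have hidx_ne1 : N.index ≠ 1 := by
    intro h
    have := Cfsg.Agent.Lib.Helper4.Sylow.card_sylow_ne_one_of_simple S
      (by rw [hS4]; norm_num) (by rw [hS4, hA]; norm_num)
    apply this
    rw [S.card_eq_index_normalizer]
    exact h
  have hidx_ne3 : N.index ≠ 3 := by
    intro h
    have hne : N ≠ ⊤ := by
      intro ht
      rw [ht, Subgroup.index_top] at h
      omega
    have := Cfsg.Agent.Lib.Helper4.Sylow.card_dvd_factorial_of_simple N hne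
    rw [h, hA] at this
    revert this
    decide
  have hidx_ne15 : N.index ≠ 15 := by
    intro h
    have hN4 : Nat.card N = 4 := by
      rw [h] at hmul
      omega
    have hNS : (S : Subgroup A) = N :=
      Subgroup.eq_of_le_of_card_ge hSN (by rw [hN4, hS4]; norm_num)
    have hcomm := (IsPGroup.isMulCommutative_of_card_eq_prime_sq (p := 2) hS4).is_comm.comm
    have hle : N ≤ centralizer ((S : Subgroup A) : Set A) := by
      rw [← hNS]
      intro a ha
      rw [mem_centralizer_iff]
      intro b hb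
      exact congrArg Subtype.val (hcomm ⟨b, hb⟩ ⟨a, ha⟩)
    exact Cfsg.Agent.Lib.Helper4.Simple.false_of_simple_of_normalizer_le_centralizer S hle
      (by rw [hS4]; norm_num) (by rw [hS4, hA]; norm_num)
  obtain ⟨m, hm⟩ := h4N
  have hm15 : m * N.index = 15 := by
    rw [hm] at hmul
    have : 4 * (m * N.index) = 4 * 15 := by rw [← mul_assoc]; exact hmul
    exact Nat.eq_of_mul_eq_mul_left (by norm_num) this
  have hd : N.index ∣ 15 := ⟨m, by rw [← hm15, mul_comm]⟩
  have hle : N.index ≤ 15 := Nat.le_of_dvd (by norm_num) hd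
  have hpos : 0 < N.index := Nat.pos_of_ne_zero Subgroup.index_ne_zero_of_finite
  have h5 : N.index = 5 := by
    interval_cases h : N.index <;> omega
  rw [h5] at hmul
  omega

/-- two distinct members of `QSet x` -/
theorem two_QSet_120 (hcard : Nat.card B = 120) {z x : B} (hz : orderOf z = 2)
    (huniq : ∀ t : B, orderOf t = 2 → t = z) (hcen : Nat.card (center B) = 2)
    (hx : orderOf x = 3) (hxn : ¬ (zpowers x).Normal) :
    ∃ Q₁ Q₂ : Subgroup B, Q₁ ≠ Q₂ ∧ Q₁ ∈ QSet x ∧ Q₂ ∈ QSet x := by
  classical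
  haveI : Fact (Nat.Prime 2) := ⟨Nat.prime_two⟩
  haveI : Fact (Nat.Prime 3) := ⟨by norm_num⟩
  have hns := not_solvable_120 hcard huniq hcen hx hxn
  have hzc : z ∈ center B := unique_involution_mem_center hz huniq
  haveI hZn : (zpowers z).Normal := by
    refine ⟨fun h hh g => ?_⟩
    obtain ⟨k, rfl⟩ := mem_zpowers_iff.1 hh
    have hc : z ^ k ∈ center B := zpow_mem hzc k
    have : g * z ^ k * g⁻¹ = z ^ k := by
      rw [mem_center_iff.1 hc g, mul_assoc, mul_inv_cancel, mul_one]
    rw [this]
    exact zpow_mem (mem_zpowers z) k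
  obtain ⟨π, hπ⟩ : ∃ π : B →* B ⧸ zpowers z, π = QuotientGroup.mk' (zpowers z) := ⟨_, rfl⟩
  have hπs : Function.Surjective π := by rw [hπ]; exact QuotientGroup.mk'_surjective _
  have hZ2 : Nat.card (zpowers z) = 2 := by rw [Nat.card_zpowers, hz]
  have hA : Nat.card (B ⧸ zpowers z) = 60 := by
    have := Subgroup.card_mul_index (zpowers z)
    rw [hZ2, hcard, Subgroup.index_eq_card] at this
    omega
  have hnsA : ¬ Group.IsSolvable (B ⧸ zpowers z) := by
    intro hs
    apply hns
    exact Group.isSolvable_of_ker_le_range (zpowers z).subtype (QuotientGroup.mk' (zpowers z))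
      (by rw [QuotientGroup.ker_mk', Subgroup.range_subtype])
  haveI hsimple : IsSimpleGroup (B ⧸ zpowers z) :=
    Cfsg.Agent.S3669.simple_of_not_solvable hA hnsA
  -- the number of Sylow `2`-subgroups of the quotient is `5`
  have hn2 : Nat.card (Sylow 2 (B ⧸ zpowers z)) = 5 := by
    obtain ⟨S⟩ : Nonempty (Sylow 2 (B ⧸ zpowers z)) := inferInstance
    have h12 := card_normalizer_sylow_two_of_simple_60 hA S
    have hmul := Subgroup.card_mul_index
      (normalizer ((S : Subgroup (B ⧸ zpowers z)) : Set (B ⧸ zpowers z)))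
    rw [h12, hA] at hmul
    have hi : Nat.card (Sylow 2 (B ⧸ zpowers z)) =
        (normalizer ((S : Subgroup (B ⧸ zpowers z)) : Set (B ⧸ zpowers z))).index :=
      S.card_eq_index_normalizer
    rw [hi]
    omega
  -- fixed points of `π x`
  have hpg : IsPGroup 3 (zpowers (π x)) := by
    have h1 : orderOf (π x) ∣ 3 :=
      orderOf_dvd_of_pow_eq_one (by rw [← map_pow, ← hx, pow_orderOf_eq_one, map_one])
    rcases (Nat.dvd_prime (by norm_num : Nat.Prime 3)).1 h1 with h | h
    · exact IsPGroup.of_card (n := 0) (by rw [Nat.card_zpowers, h, pow_zero])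
    · exact IsPGroup.of_card (n := 1) (by rw [Nat.card_zpowers, h, pow_one])
  have hmod := hpg.card_modEq_card_fixedPoints (Sylow 2 (B ⧸ zpowers z))
  rw [hn2] at hmod
  unfold Nat.ModEq at hmod
  have h2 : 1 < Nat.card (MulAction.fixedPoints (zpowers (π x)) (Sylow 2 (B ⧸ zpowers z))) := by
    by_contra hle
    push Not at hle
    interval_cases h : Nat.card (MulAction.fixedPoints (zpowers (π x)) (Sylow 2 (B ⧸ zpowers z)))
      <;> omega
  haveI : Nontrivial (MulAction.fixedPoints (zpowers (π x)) (Sylow 2 (B ⧸ zpowers z))) :=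
    Finite.one_lt_card_iff_nontrivial.1 h2
  obtain ⟨⟨S₁, h₁⟩, ⟨S₂, h₂⟩, hne⟩ :=
    exists_pair_ne (MulAction.fixedPoints (zpowers (π x)) (Sylow 2 (B ⧸ zpowers z)))
  have hne' : S₁ ≠ S₂ := fun h => hne (Subtype.ext h)
  -- the pull-back of a fixed Sylow subgroup lies in `QSet x`
  have h9 : ¬ 3 ^ 2 ∣ Nat.card B := by rw [hcard]; norm_num
  have hkey : ∀ S : Sylow 2 (B ⧸ zpowers z),
      S ∈ MulAction.fixedPoints (zpowers (π x)) (Sylow 2 (B ⧸ zpowers z)) →
      (S : Subgroup (B ⧸ zpowers z)).comap π ∈ QSet x := by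
    intro S hS
    have hS4 : Nat.card (S : Subgroup (B ⧸ zpowers z)) = 2 ^ 2 :=
      Cfsg.Agent.Lib.Helper4.Sylow.card_sylow_of_card_eq (p := 2) (a := 2) (m := 15)
        (by rw [hA]; norm_num) (by norm_num) S
    have hidx : ((S : Subgroup (B ⧸ zpowers z)).comap π).index = 15 := by
      rw [Subgroup.index_comap_of_surjective _ hπs]
      have := Subgroup.card_mul_index (S : Subgroup (B ⧸ zpowers z))
      rw [hS4, hA] at this
      omega
    have hQ8 : Nat.card ((S : Subgroup (B ⧸ zpowers z)).comap π) = 8 := by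
      have := Subgroup.card_mul_index ((S : Subgroup (B ⧸ zpowers z)).comap π)
      rw [hidx, hcard] at this
      omega
    have hxN : π x ∈ normalizer ((S : Subgroup (B ⧸ zpowers z)) : Set (B ⧸ zpowers z)) := by
      have h := (MulAction.mem_fixedPoints.1 hS) ⟨π x, mem_zpowers _⟩
      exact Sylow.smul_eq_iff_mem_normalizer.1 h
    refine ⟨hQ8, ?_, ?_⟩
    · intro q hq
      rw [Subgroup.mem_comap] at hq ⊢
      rw [map_mul, map_mul, map_inv]
      exact (mem_normalizer_iff.1 hxN (π q)).1 hq
    · by_contra hcon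
      push Not at hcon
      set P : Sylow 3 B := sylowOfOrder x hx h9 with hPdef
      set N := normalizer ((zpowers x : Subgroup B) : Set B) with hNdef
      have hQN : (S : Subgroup (B ⧸ zpowers z)).comap π ≤ N := by
        intro q hq
        exact (centralizer_le_normalizer _) (mem_centralizer_zpowers_of_commute (hcon q hq))
      have h8N : 8 ∣ Nat.card N := by
        have := Subgroup.card_dvd_of_le hQN
        rwa [hQ8] at this
      have h3N : 3 ∣ Nat.card N := by
        have hxN' : x ∈ N := (centralizer_le_normalizer _) (self_mem_centralizer_zpowers x)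
        exact hx ▸ Subgroup.orderOf_dvd_natCard N hxN'
      have h24 : 24 ∣ Nat.card N :=
        Nat.Coprime.mul_dvd_of_dvd_of_dvd (by norm_num : Nat.Coprime 8 3) h8N h3N
      have hmul : Nat.card N * N.index = 120 := by rw [Subgroup.card_mul_index, hcard]
      have hidxN : Nat.card (Sylow 3 B) = N.index := P.card_eq_index_normalizer
      have hmodN : N.index % 3 = 1 := by
        have := card_sylow_modEq_one 3 B
        rw [hidxN] at this
        exact this
      have hne1 : N.index ≠ 1 := by
        intro h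
        apply hxn
        have : N = ⊤ := Subgroup.index_eq_one.1 h
        exact normalizer_eq_top_iff.1 this
      obtain ⟨m, hm⟩ := h24
      have hm5 : m * N.index = 5 := by
        rw [hm] at hmul
        have : 24 * (m * N.index) = 24 * 5 := by rw [← mul_assoc]; exact hmul
        exact Nat.eq_of_mul_eq_mul_left (by norm_num) this
      have hd : N.index ∣ 5 := ⟨m, by rw [← hm5, mul_comm]⟩
      have hle : N.index ≤ 5 := Nat.le_of_dvd (by norm_num) hd
      interval_cases h : N.index <;> omega
  refine ⟨(S₁ : Subgroup (B ⧸ zpowers z)).comap π, (S₂ : Subgroup (B ⧸ zpowers z)).comap π,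
    ?_, hkey S₁ h₁, hkey S₂ h₂⟩
  intro h
  exact hne' (Sylow.ext (Subgroup.comap_injective hπs h))

/-- groups of order `120` -/
theorem small_120 (hcard : Nat.card B = 120) {z x : B} (hz : orderOf z = 2)
    (huniq : ∀ t : B, orderOf t = 2 → t = z) (hcen : Nat.card (center B) = 2)
    (hx : orderOf x = 3) (hxn : ¬ (zpowers x).Normal) :
    Nonempty (B ≃* Matrix.SpecialLinearGroup (Fin 2) (ZMod 5)) ∧
      (∀ g : B, orderOf g ∈ ({1, 2, 3, 4, 5, 6, 10} : Finset ℕ)) ∧
      ∃ Q₁ Q₂ : Subgroup B, Q₁ ≠ Q₂ ∧ Q₁ ∈ QSet x ∧ Q₂ ∈ QSet x := by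
  obtain ⟨e⟩ := iso_sl25_of_120 hcard huniq hcen hx hxn
  exact ⟨⟨e⟩, orderOf_mem_of_iso_sl25 e, two_QSet_120 hcard hz huniq hcen hx hxn⟩

end B120

end Cfsg.Agent.ZassL
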