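import Mathlib
import Cfsg.Agent.Lib.Zass.HIsoLC
import Cfsg.Agent.Lib.Zass.RGroupE
import Cfsg.Agent.Lib.Zass.SmallD
import Cfsg.Agent.Lib.Zass.E4

set_option autoImplicit false
set_option linter.style.haveILetI false
set_option linter.unusedVariables false
set_option linter.unusedSectionVars false

namespace Cfsg.Agent.ZassL

open Cfsg.Agent.S3358L

universe u

local notation "SL25" => Matrix.SpecialLinearGroup (Fin 2) (ZMod 5)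

variable {G : Type u} [Group G] [Finite G] {n : ℕ}
  {ρ : G →* Matrix.GeneralLinearGroup (Fin n) ℂ}

/-- (E1) -/
theorem ZH_iso (hρ : IsFree ρ) (hn : 0 < n) {x : G} (hx : orderOf x = 3)
    {Q₁ Q₂ : Subgroup G} (h₁ : Q₁ ∈ QSet x) (h₂ : Q₂ ∈ QSet x) (hne : Q₁ ≠ Q₂) :
    Nat.card ↥(Q₁ ⊔ Q₂ ⊔ Subgroup.zpowers x) = 120 ∧
      Nonempty (↥(Q₁ ⊔ Q₂ ⊔ Subgroup.zpowers x) ≃* SL25) := by
  obtain ⟨σ, hσ⟩ := free_deg2_of_two hρ hn hx Q₁ Q₂ h₁ h₂ hne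
  refine ZH_iso_aux hρ hn hx h₁ h₂ hne _ rfl σ hσ ?_
  intro z x' hc hz huniq hcen hx' hxn
  exact (small_120 hc hz huniq hcen hx' hxn).1

/-- all black boxes except (P1s), (P2) -/
theorem zax_of_free_aux (hρ : IsFree ρ) (hn : 0 < n)
    (hp1 : ∀ x y : G, orderOf x = 3 → orderOf y = 3 →
      y ∈ Subgroup.zpowers x ∨ (∃ Q ∈ QSet x, y ∈ Q ⊔ Subgroup.zpowers x) ∨
      (Nat.card (Subgroup.closure {x, y}) = 120 ∧ ∃ Q₁ Q₂ : Subgroup G, Q₁ ≠ Q₂ ∧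
        Q₁ ∈ QSet x ∧ Q₂ ∈ QSet x ∧ Q₁ ≤ Subgroup.closure {x, y} ∧ Q₂ ≤ Subgroup.closure {x, y}))
    (hp2 : ∀ x t : G, orderOf x = 3 → orderOf t = 4 →
      t * x * t⁻¹ ∈ Subgroup.zpowers x ∨ (QSet x).Nonempty) : ZAx G where
  pu := hρ.PU hn
  p1 := hp1
  p2 := hp2
  r1 := fun x hx Q₁ Q₂ Q₃ h₁ h₂ h₃ => QSet_le_two hρ hn hx Q₁ Q₂ Q₃ h₁ h₂ h₃
  e1 := fun x hx Q₁ Q₂ h₁ h₂ hne => ZH_iso hρ hn hx h₁ h₂ hne
  f2 := fun x hx Q hQ => ZF_f2_of_PU (hρ.PU hn) hx hQ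

end Cfsg.Agent.ZassL
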