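import Mathlib
import Cfsg.Agent.Lib.Zass.PlanarB
import Cfsg.Agent.Lib.Zass.Deg2

/-! # Zassenhaus cluster: the subgroup generated by an element of order `3` and an element of
order `3` or `4` (helper8)

`pair_cases`: `B = closure {x, y}` is abelian-by-(≤ 2), or `x`, `y` commute, or `|Z(B)| = 2` and
`|B| ∈ {24, 48, 120}`.
-/

set_option autoImplicit false

namespace Cfsg.Agent.ZassL

universe u

open Subgroup

variable {G : Type u} [Group G] {n : ℕ} {ρ : G →* Matrix.GeneralLinearGroup (Fin n) ℂ}

/-- transport of `QSet` from a subgroup to the group -/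
theorem QSet_map {B : Subgroup G} {xB : B} {Q : Subgroup B} (hQ : Q ∈ QSet xB) :
    Q.map B.subtype ∈ QSet (xB : G) := by
  obtain ⟨hcard, hnorm, q, hqQ, hq⟩ := hQ
  refine ⟨?_, ?_, ?_⟩
  · rw [Subgroup.card_map_of_injective B.subtype_injective, hcard]
  · intro g hg
    obtain ⟨q', hq'Q, rfl⟩ := Subgroup.mem_map.mp hg
    exact Subgroup.mem_map.mpr ⟨xB * q' * xB⁻¹, hnorm q' hq'Q, rfl⟩
  · refine ⟨(q : G), Subgroup.mem_map.mpr ⟨q, hqQ, rfl⟩, ?_⟩
    intro h
    apply hq
    exact Subtype.ext h

theorem map_subtype_le' {B : Subgroup G} (Q : Subgroup B) : Q.map B.subtype ≤ B := by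
  intro g hg
  obtain ⟨q, _, rfl⟩ := Subgroup.mem_map.mp hg
  exact q.2

theorem mem_map_sup_zpowers {B : Subgroup G} {xB yB : B} {Q : Subgroup B}
    (h : yB ∈ Q ⊔ zpowers xB) : (yB : G) ∈ Q.map B.subtype ⊔ zpowers (xB : G) := by
  have h1 : (yB : G) ∈ (Q ⊔ zpowers xB).map B.subtype := Subgroup.mem_map.mpr ⟨yB, h, rfl⟩
  rw [Subgroup.map_sup, MonoidHom.map_zpowers] at h1
  exact h1

/-- the structure of `closure {x, y}` for `x` of order `3` and `y` of order `3` or `4` -/
theorem pair_cases [Finite G] (hρ : IsFree ρ) (hn : 0 < n) {x y : G} (hx : orderOf x = 3)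
    (hy : orderOf y = 3 ∨ orderOf y = 4) :
    x * y = y * x ∨
    (∃ A : Subgroup ↥(closure ({x, y} : Set G)), (∀ a ∈ A, ∀ b ∈ A, a * b = b * a) ∧
      (A.index = 1 ∨ A.index = 2)) ∨
    (Nat.card (center ↥(closure ({x, y} : Set G))) = 2 ∧
      (Nat.card ↥(closure ({x, y} : Set G)) = 24 ∨ Nat.card ↥(closure ({x, y} : Set G)) = 48 ∨
        Nat.card ↥(closure ({x, y} : Set G)) = 120)) := by
  classical
  set B := closure ({x, y} : Set G) with hB
  have hxB : x ∈ B := subset_closure (by simp)
  have hyB : y ∈ B := subset_closure (by simp)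
  set xB : B := ⟨x, hxB⟩ with hxBdef
  set yB : B := ⟨y, hyB⟩ with hyBdef
  have hoxB : orderOf xB = 3 := by rw [Subgroup.orderOf_mk, hx]
  have hoyB : orderOf yB = 3 ∨ orderOf yB = 4 := by rw [Subgroup.orderOf_mk]; exact hy
  have hgen : closure ({xB, yB} : Set B) = ⊤ := by
    have h1 : (((↑) : B → G) ⁻¹' ({x, y} : Set G)) = ({xB, yB} : Set B) := by
      ext g
      simp only [Set.mem_preimage, Set.mem_insert_iff, Set.mem_singleton_iff]
      constructor
      · rintro (h | h)
        · left; exact Subtype.ext h
        · right; exact Subtype.ext h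
      · rintro (h | h)
        · left; rw [h]
        · right; rw [h]
    rw [← h1]
    exact closure_closure_coe_preimage
  obtain ⟨p₁, p₀, hqx⟩ := hρ.quad_of_order (Or.inl hx : orderOf x = 3 ∨ orderOf x = 4 ∨ orderOf x = 6)
  obtain ⟨q₁, q₀, hqy⟩ := hρ.quad_of_order
    (hy.elim Or.inl (fun h => Or.inr (Or.inl h)) : orderOf y = 3 ∨ orderOf y = 4 ∨ orderOf y = 6)
  obtain ⟨m, hm, σ, hσ⟩ := exists_free_closure_pair hρ hn hqx hqy
  rcases hm with rfl | rfl
  · left
    have := deg1_comm σ hσ xB yB
    exact congrArg Subtype.val this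
  · rcases deg2_cases σ hσ with hA | hidx
    · right; left; exact hA
    · -- scalar cases
      by_cases hsx : ∃ c : ℂ, mat σ xB = c • (1 : Matrix (Fin 2) (Fin 2) ℂ)
      · left
        obtain ⟨c, hc⟩ := hsx
        have hcen := central_of_scalar (by norm_num) σ hσ hc
        have := (Subgroup.mem_center_iff.mp hcen yB).symm
        exact congrArg Subtype.val this
      by_cases hsy : ∃ c : ℂ, mat σ yB = c • (1 : Matrix (Fin 2) (Fin 2) ℂ)
      · left
        obtain ⟨c, hc⟩ := hsy
        have hcen := central_of_scalar (by norm_num) σ hσ hc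
        have := Subgroup.mem_center_iff.mp hcen xB
        exact congrArg Subtype.val this
      push Not at hsx hsy
      right; right
      have hdx : (mat σ xB).det = 1 :=
        (det_tr_of_order_three _ (hσ.mat_order_three' hoxB) hsx).2
      have hdy : (mat σ yB).det = 1 := by
        rcases hoyB with h | h
        · exact (det_tr_of_order_three _ (hσ.mat_order_three' h) hsy).2
        · exact (det_tr_of_order_four _ (hσ.mat_order_four' h) hsy).2
      have hmul := Subgroup.card_mul_index (center B)
      have hnab : ∃ a b : B, a * b ≠ b * a := by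
        by_contra hcon
        push Not at hcon
        have htop : center B = ⊤ := by
          rw [eq_top_iff]
          intro g _
          rw [Subgroup.mem_center_iff]
          intro h
          exact hcon h g
        rw [htop, Subgroup.index_top] at hidx
        omega
      have hle : Nat.card (center B) ≤ 2 := card_center_le_two σ hσ hnab {xB, yB} hgen (by
        intro s hs
        rcases hs with rfl | rfl
        · exact hdx
        · exact hdy)
      have hpos : 0 < Nat.card (center B) := Nat.card_pos
      have heven : 2 ∣ Nat.card B := by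
        rw [← hmul]
        rcases hidx with h | h | h <;> rw [h] <;> exact Dvd.dvd.mul_left (by norm_num) _
      have : Fact (Nat.Prime 2) := ⟨Nat.prime_two⟩
      obtain ⟨u, hu⟩ := exists_prime_orderOf_dvd_card' 2 heven
      have hu' : orderOf (u : G) = 2 := by rw [Subgroup.orderOf_coe, hu]
      have hucen : u ∈ center B := by
        rw [Subgroup.mem_center_iff]
        intro g
        apply Subtype.ext
        exact hρ.involution_comm hn hu' (g : G)
      have hu1 : u ≠ 1 := by
        rintro rfl
        rw [orderOf_one] at hu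
        norm_num at hu
      have hne1 : Nat.card (center B) ≠ 1 := by
        intro h1
        have hbot : center B = ⊥ := Subgroup.card_eq_one.mp h1
        rw [hbot, Subgroup.mem_bot] at hucen
        exact hu1 hucen
      have h2 : Nat.card (center B) = 2 := by omega
      refine ⟨h2, ?_⟩
      rw [h2] at hmul
      rcases hidx with h | h | h <;> rw [h] at hmul <;> omega

end Cfsg.Agent.ZassL
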