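import Mathlib
import Cfsg.Agent.Lib.Zass.PStruct
import Cfsg.Agent.Lib.Zass.SmallB

/-! # Zassenhaus cluster: `(P1s)` and `(P2)`, modulo the order-`120` recognition (helper8) -/

set_option autoImplicit false

namespace Cfsg.Agent.ZassL

universe u

open Subgroup

variable {G : Type u} [Group G] {n : ℕ} {ρ : G →* Matrix.GeneralLinearGroup (Fin n) ℂ}

/-- the order-`120` input (helper5's `small_120`), as a hypothesis -/
def Small120Hyp : Prop :=
  ∀ (B : Type u) [Group B] [Finite B], Nat.card B = 120 → ∀ z x : B, orderOf z = 2 →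
    (∀ t : B, orderOf t = 2 → t = z) → Nat.card (center B) = 2 → orderOf x = 3 →
    ¬ (zpowers x).Normal → ∃ Q₁ Q₂ : Subgroup B, Q₁ ≠ Q₂ ∧ Q₁ ∈ QSet x ∧ Q₂ ∈ QSet x

/-- an element of odd prime order lies in every subgroup of index at most two -/
theorem mem_of_index_le_two {B : Type u} [Group B] (A : Subgroup B)
    (hA : A.index = 1 ∨ A.index = 2) {x : B} (hx : orderOf x = 3) : x ∈ A := by
  rcases hA with h | h
  · rw [Subgroup.index_eq_one.mp h]; exact Subgroup.mem_top x
  · have h2 : x * x ∈ A := by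
      have := Subgroup.mul_self_mem_of_index_two h x
      exact this
    have h4 : (x * x) * (x * x) ∈ A := A.mul_mem h2 h2
    have h3 : x ^ 3 = 1 := by rw [← hx, pow_orderOf_eq_one]
    have h3' : x * x * x = 1 := by rw [← pow_three']; exact h3
    have : (x * x) * (x * x) = x := by
      calc (x * x) * (x * x) = (x * x * x) * x := by simp only [mul_assoc]
        _ = x := by rw [h3', one_mul]
    rwa [this] at h4

/-- common part: the data in the `|Z(B)| = 2` branch -/
theorem pair_small [Finite G] (hρ : IsFree ρ) (hn : 0 < n) (h120 : Small120Hyp.{u})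
    (B : Subgroup G) (xB : B) (hoxB : orderOf xB = 3)
    (hcen : Nat.card (center B) = 2)
    (hcard : Nat.card B = 24 ∨ Nat.card B = 48 ∨ Nat.card B = 120)
    (hxn : ¬ (zpowers xB).Normal) :
    (∃ Q ∈ QSet (xB : G), Q ≤ B ∧
      ∀ w ∈ B, orderOf w = 3 → w ∈ Q ⊔ zpowers (xB : G)) ∨
    (Nat.card B = 120 ∧ ∃ Q₁ Q₂ : Subgroup G, Q₁ ≠ Q₂ ∧ Q₁ ∈ QSet (xB : G) ∧
      Q₂ ∈ QSet (xB : G) ∧ Q₁ ≤ B ∧ Q₂ ≤ B) := by
  classical
  -- the involution
  have heven : 2 ∣ Nat.card B := by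
    rcases hcard with h | h | h <;> rw [h] <;> norm_num
  have : Fact (Nat.Prime 2) := ⟨Nat.prime_two⟩
  obtain ⟨z, hz⟩ := exists_prime_orderOf_dvd_card' 2 heven
  have hz' : orderOf (z : G) = 2 := by rw [Subgroup.orderOf_coe, hz]
  have huniq : ∀ t : B, orderOf t = 2 → t = z := by
    intro t ht
    apply Subtype.ext
    have ht' : orderOf (t : G) = 2 := by rw [Subgroup.orderOf_coe, ht]
    exact hρ.unique_involution hn ht' hz'
  have hzc : z ∈ center B := unique_involution_mem_center hz huniq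
  rcases hcard with h | h | h
  · left
    obtain ⟨-, -, Q, -, hQ, hsup⟩ := small_24 h hz hzc hoxB hxn
    refine ⟨Q.map B.subtype, QSet_map hQ, map_subtype_le' Q, ?_⟩
    intro w hw _
    have : (⟨w, hw⟩ : B) ∈ Q ⊔ zpowers xB := by rw [hsup]; exact Subgroup.mem_top _
    exact mem_map_sup_zpowers this
  · left
    obtain ⟨Q, -, hQ, -, hall⟩ := small_48 h hz huniq hcen hoxB hxn
    refine ⟨Q.map B.subtype, QSet_map hQ, map_subtype_le' Q, ?_⟩
    intro w hw how
    have h3 : orderOf (⟨w, hw⟩ : B) = 3 := by rw [Subgroup.orderOf_mk, how]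
    exact mem_map_sup_zpowers (hall ⟨w, hw⟩ h3)
  · right
    refine ⟨h, ?_⟩
    obtain ⟨Q₁, Q₂, hne, hQ₁, hQ₂⟩ := h120 B h z xB hz huniq hcen hoxB hxn
    refine ⟨Q₁.map B.subtype, Q₂.map B.subtype, ?_, QSet_map hQ₁, QSet_map hQ₂,
      map_subtype_le' Q₁, map_subtype_le' Q₂⟩
    intro heq
    exact hne (Subgroup.map_injective B.subtype_injective heq)

/-- **(P1s)** -/
theorem P1_struct_of [Finite G] (hρ : IsFree ρ) (hn : 0 < n) (h120 : Small120Hyp.{u})
    (x y : G) (hx : orderOf x = 3) (hy : orderOf y = 3) :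
    y ∈ zpowers x ∨ (∃ Q ∈ QSet x, y ∈ Q ⊔ zpowers x) ∨
    (Nat.card (closure ({x, y} : Set G)) = 120 ∧ ∃ Q₁ Q₂ : Subgroup G, Q₁ ≠ Q₂ ∧ Q₁ ∈ QSet x ∧
      Q₂ ∈ QSet x ∧ Q₁ ≤ closure ({x, y} : Set G) ∧ Q₂ ≤ closure ({x, y} : Set G)) := by
  classical
  have hcomm : x * y = y * x → y ∈ zpowers x := fun h =>
    hρ.PU hn 3 x y Nat.prime_three hx hy h
  have hyB : y ∈ closure ({x, y} : Set G) := subset_closure (by simp)
  rcases pair_cases hρ hn hx (Or.inl hy) with h | ⟨A, hA, hidx⟩ | ⟨hcen, hcard⟩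
  · exact Or.inl (hcomm h)
  · left
    apply hcomm
    have hxB : x ∈ closure ({x, y} : Set G) := subset_closure (by simp)
    have h1 : (⟨x, hxB⟩ : ↥(closure ({x, y} : Set G))) ∈ A :=
      mem_of_index_le_two A hidx (by rw [Subgroup.orderOf_mk, hx])
    have h2 : (⟨y, hyB⟩ : ↥(closure ({x, y} : Set G))) ∈ A :=
      mem_of_index_le_two A hidx (by rw [Subgroup.orderOf_mk, hy])
    exact congrArg Subtype.val (hA _ h1 _ h2)
  · have hxB : x ∈ closure ({x, y} : Set G) := subset_closure (by simp)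
    by_cases hxn : (zpowers (⟨x, hxB⟩ : ↥(closure ({x, y} : Set G)))).Normal
    · -- then `y` normalizes `⟨x⟩`, hence centralizes it
      left
      apply hcomm
      have h1 := hxn.conj_mem _ (Subgroup.mem_zpowers _) (⟨y, hyB⟩ : ↥(closure ({x, y} : Set G)))
      have h2 : y * x * y⁻¹ ∈ zpowers x := by
        obtain ⟨k, hk⟩ := Subgroup.mem_zpowers_iff.mp h1
        rw [Subgroup.mem_zpowers_iff]
        refine ⟨k, ?_⟩
        have := congrArg Subtype.val hk
        simpa using this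
      exact (hρ.comm_of_normalizes hn Nat.prime_three hy h2).symm
    · rcases pair_small hρ hn h120 (closure ({x, y} : Set G)) ⟨x, hxB⟩
        (by rw [Subgroup.orderOf_mk, hx]) hcen hcard hxn with ⟨Q, hQ, -, hall⟩ | h
      · exact Or.inr (Or.inl ⟨Q, hQ, hall y hyB hy⟩)
      · exact Or.inr (Or.inr h)

/-- **(P2)** -/
theorem P2_struct_of [Finite G] (hρ : IsFree ρ) (hn : 0 < n) (h120 : Small120Hyp.{u})
    (x t : G) (hx : orderOf x = 3) (ht : orderOf t = 4) :
    t * x * t⁻¹ ∈ zpowers x ∨ (QSet x).Nonempty := by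
  classical
  have htB : t ∈ closure ({x, t} : Set G) := subset_closure (by simp)
  have hxB : x ∈ closure ({x, t} : Set G) := subset_closure (by simp)
  rcases pair_cases hρ hn hx (Or.inr ht) with h | ⟨A, hA, hidx⟩ | ⟨hcen, hcard⟩
  · left
    have : t * x * t⁻¹ = x := by
      rw [← h]; group
    rw [this]; exact Subgroup.mem_zpowers x
  · left
    -- `x ∈ A`, `A` normal abelian, so `t x t⁻¹ ∈ A` commutes with `x`
    have hAn : A.Normal := by
      rcases hidx with h | h
      · rw [Subgroup.index_eq_one.mp h]; infer_instance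
      · exact Subgroup.normal_of_index_eq_two h
    have h1 : (⟨x, hxB⟩ : ↥(closure ({x, t} : Set G))) ∈ A :=
      mem_of_index_le_two A hidx (by rw [Subgroup.orderOf_mk, hx])
    have h2 := hAn.conj_mem _ h1 (⟨t, htB⟩ : ↥(closure ({x, t} : Set G)))
    have h3 := congrArg Subtype.val (hA _ h1 _ h2)
    have h4 : x * (t * x * t⁻¹) = (t * x * t⁻¹) * x := by simpa using h3
    have h5 : orderOf (t * x * t⁻¹) = 3 := by
      rw [← hx]; exact (MulAut.conj t).orderOf_eq x
    exact hρ.PU hn 3 x _ Nat.prime_three hx h5 h4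
  · by_cases hxn : (zpowers (⟨x, hxB⟩ : ↥(closure ({x, t} : Set G)))).Normal
    · left
      have h1 := hxn.conj_mem _ (Subgroup.mem_zpowers _) (⟨t, htB⟩ : ↥(closure ({x, t} : Set G)))
      obtain ⟨k, hk⟩ := Subgroup.mem_zpowers_iff.mp h1
      rw [Subgroup.mem_zpowers_iff]
      refine ⟨k, ?_⟩
      have := congrArg Subtype.val hk
      simpa using this
    · right
      rcases pair_small hρ hn h120 (closure ({x, t} : Set G)) ⟨x, hxB⟩
        (by rw [Subgroup.orderOf_mk, hx]) hcen hcard hxn with ⟨Q, hQ, -, -⟩ | ⟨-, Q, -, -, hQ, -⟩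
      · exact ⟨Q, hQ⟩
      · exact ⟨Q, hQ⟩

end Cfsg.Agent.ZassL
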