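import Mathlib
import Cfsg.Agent.Lib.Zass.PStructB
import Cfsg.Agent.Lib.Zass.SmallD

/-! # Zassenhaus cluster: `(P1s)` and `(P2)`, unconditional (helper8) -/

set_option autoImplicit false

namespace Cfsg.Agent.ZassL

universe u

open Subgroup

variable {G : Type u} [Group G] {n : ℕ} {ρ : G →* Matrix.GeneralLinearGroup (Fin n) ℂ}

/-- helper5's `small_120` provides the order-`120` input -/
theorem small120Hyp : Small120Hyp.{u} := by
  intro B _ _ hcard z x hz huniq hcen hx hxn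
  exact (small_120 hcard hz huniq hcen hx hxn).2.2

/-- **(P1s)**: two elements of order three -/
theorem P1_struct [Finite G] (hρ : IsFree ρ) (hn : 0 < n) (x y : G) (hx : orderOf x = 3)
    (hy : orderOf y = 3) :
    y ∈ zpowers x ∨ (∃ Q ∈ QSet x, y ∈ Q ⊔ zpowers x) ∨
    (Nat.card (closure ({x, y} : Set G)) = 120 ∧ ∃ Q₁ Q₂ : Subgroup G, Q₁ ≠ Q₂ ∧ Q₁ ∈ QSet x ∧
      Q₂ ∈ QSet x ∧ Q₁ ≤ closure ({x, y} : Set G) ∧ Q₂ ≤ closure ({x, y} : Set G)) :=
  P1_struct_of hρ hn small120Hyp x y hx hy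

/-- **(P2)**: an element of order three and an element of order four -/
theorem P2_struct [Finite G] (hρ : IsFree ρ) (hn : 0 < n) (x t : G) (hx : orderOf x = 3)
    (ht : orderOf t = 4) : t * x * t⁻¹ ∈ zpowers x ∨ (QSet x).Nonempty :=
  P2_struct_of hρ hn small120Hyp x t hx ht

end Cfsg.Agent.ZassL
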