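import Mathlib
import Cfsg.Agent.Lib.Zass.FinalA
import Cfsg.Agent.Lib.Zass.PStructC
import Cfsg.Agent.Lib.Zass.StructE

/-! # Zassenhaus cluster: Theorem Z (a nontrivial perfect finite group with a free complex
representation is `SL(2,5)`) -/

set_option autoImplicit false

namespace Cfsg.Agent.ZassL

universe u

theorem zax_of_free {R : Type u} [Group R] [Finite R] (h : HasFreeRep R) : ZAx R := by
  obtain ⟨n, ρ, hn, hρ⟩ := h
  exact zax_of_free_aux hρ hn (fun x y hx hy => P1_struct hρ hn x y hx hy)
    (fun x t hx ht => P2_struct hρ hn x t hx ht)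

/-- **Theorem Z** -/
theorem theoremZ_holds : TheoremZ.{u} := fun _ _ _ hfree hperf hnt =>
  haveI := hnt
  ZE_theoremZ (zax_of_free hfree) hperf

end Cfsg.Agent.ZassL
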