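import Mathlib
import Cfsg.Agent.Lib.Zass.StructE
import Cfsg.Agent.Lib.S3358.U1
import Cfsg.Agent.Lib.S3358.U3

/-! # Sharply doubly transitive groups, exceptional types (S0686-S0688), part A (helper7):
a minimal non-abelian normal subgroup centralizing a maximal normal abelian subgroup of a group
with a free representation is `Q₈` or `SL(2,5)` -/

set_option autoImplicit false
set_option linter.unusedSectionVars false
set_option linter.unusedVariables false
set_option linter.style.haveILetI false

namespace Cfsg.Agent.ZassL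

open Cfsg.Agent.S3358L
open scoped commutatorElement

universe u

local notation "SL25" => Matrix.SpecialLinearGroup (Fin 2) (ZMod 5)

theorem STU_comm_of_equiv {M N : Type*} [Group M] [Group N] (e : N ≃* M) (h : IsMulCommutative M) :
    IsMulCommutative N :=
  ⟨⟨fun a b => e.injective (by rw [map_mul, map_mul]; exact h.is_comm.comm (e a) (e b))⟩⟩

/-- in `QuaternionGroup m` with `m ≥ 3` some commutator is not central -/
theorem STU_quat_class {m : ℕ} (hm : 3 ≤ m) :
    ∃ x y c z : QuaternionGroup m, x * y = c * (y * x) ∧ c * z ≠ z * c := by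
  refine ⟨QuaternionGroup.a 1, QuaternionGroup.xa 0, QuaternionGroup.a 2, QuaternionGroup.xa 0,
    ?_, ?_⟩
  · simp only [QuaternionGroup.a_mul_xa, QuaternionGroup.xa_mul_a]
    congr 1
    ring
  · have h4 : (4 : ZMod (2 * m)) ≠ 0 := by
      have : ((4 : ℕ) : ZMod (2 * m)) ≠ 0 := by
        rw [Ne, ZMod.natCast_eq_zero_iff]
        intro h
        have := Nat.le_of_dvd (by norm_num) h
        omega
      exact_mod_cast this
    simp only [QuaternionGroup.a_mul_xa, QuaternionGroup.xa_mul_a]
    intro h
    have h' := QuaternionGroup.xa.inj h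
    apply h4
    have : (4 : ZMod (2 * m)) = (0 + 2) - (0 - 2) := by ring
    rw [this]
    exact sub_eq_zero.mpr h'.symm

/-- the perfect core is invariant under automorphisms -/
theorem STU_pcore_map_le {N : Type u} [Group N] (φ : MulAut N) :
    (pcore N).map φ.toMonoidHom ≤ pcore N := by
  apply le_pcore
  rw [← Subgroup.map_commutator, pcore_perfect]

variable {G : Type u} [Group G] [Finite G]

/-- the non-solvable case -/
theorem STU_nonsolvable_case (hZ : TheoremZ.{u}) (hfree : HasFreeRep G) (N : Subgroup G)
    [hNn : N.Normal]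
    (hNmin : ∀ M : Subgroup G, M.Normal → M ≤ N → ¬ IsMulCommutative M → M = N)
    (hns : ¬ Group.IsSolvable N) : Nonempty (N ≃* SL25) := by
  have hPne : pcore ↥N ≠ ⊥ := pcore_ne_bot hns
  have hP'n : ((pcore ↥N).map N.subtype).Normal := by
    constructor
    rintro x ⟨y, hy, rfl⟩ g
    refine ⟨MulAut.conjNormal g y, ?_, ?_⟩
    · exact STU_pcore_map_le (MulAut.conjNormal g) ⟨y, hy, rfl⟩
    · simp [MulAut.conjNormal_apply]
  have hP'le : (pcore ↥N).map N.subtype ≤ N := Subgroup.map_subtype_le _
  have hP'na : ¬ IsMulCommutative ((pcore ↥N).map N.subtype) := by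
    intro hc
    have hc' : IsMulCommutative (pcore ↥N) :=
      STU_comm_of_equiv (Subgroup.equivMapOfInjective _ _ N.subtype_injective) hc
    have := Subgroup.commutator_self_eq_bot_iff.mpr hc'
    rw [pcore_perfect] at this
    exact hPne this
  have hP' := hNmin _ hP'n hP'le hP'na
  have hPtop : pcore ↥N = ⊤ := by
    apply Subgroup.map_injective N.subtype_injective
    rw [hP', ← MonoidHom.range_eq_map, Subgroup.range_subtype]
  have hperf : commutator ↥N = ⊤ := by
    rw [commutator_def]
    have := pcore_perfect (G := ↥N)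
    rwa [hPtop] at this
  haveI : Nontrivial ↥N := by
    by_contra hnt
    rw [not_nontrivial_iff_subsingleton] at hnt
    exact hPne (Subsingleton.elim _ _)
  exact hZ ↥N (ZS_hasFreeRep_subgroup N hfree) hperf inferInstance

/-- a characteristic subgroup of a normal subgroup, pushed to the ambient group, is normal -/
theorem STU_char_normal (N : Subgroup G) [N.Normal] (T : Subgroup ↥N) [hT : T.Characteristic] :
    (T.map N.subtype).Normal := by
  constructor
  rintro x ⟨y, hy, rfl⟩ g
  refine ⟨MulAut.conjNormal g y, ?_, ?_⟩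
  · have := Subgroup.characteristic_iff_map_eq.mp hT (MulAut.conjNormal g)
    rw [← this]
    exact ⟨y, hy, rfl⟩
  · simp [MulAut.conjNormal_apply]

/-- the solvable case -/
theorem STU_solvable_case (hU : PU G) (A : Subgroup G) [hAn : A.Normal]
    (hAc : IsMulCommutative A)
    (hAmax : ∀ B : Subgroup G, B.Normal → IsMulCommutative B → A ≤ B → B = A)
    (N : Subgroup G) [hNn : N.Normal] (hNle : N ≤ Subgroup.centralizer (A : Set G))
    (hNna : ¬ IsMulCommutative N)
    (hNmin : ∀ M : Subgroup G, M.Normal → M ≤ N → ¬ IsMulCommutative M → M = N)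
    (hs : Group.IsSolvable N) : Nonempty (N ≃* QuaternionGroup 2) := by
  have hUN : PU ↥N := (U3_subgroup N).1 hU
  have hDn : (⁅N, N⁆ : Subgroup G).Normal := inferInstance
  have hDle : ⁅N, N⁆ ≤ N := ZS_comm_le_self N
  haveI : Nontrivial ↥N := by
    by_contra hnt
    rw [not_nontrivial_iff_subsingleton] at hnt
    exact hNna ⟨⟨fun a b => Subsingleton.elim _ _⟩⟩
  have hDne : ⁅N, N⁆ ≠ N := by
    intro h
    have hlt := Group.IsSolvable.commutator_lt_top_of_nontrivial (G := ↥N)
    exact hlt.ne (commutator_eq_top_of_perfect h)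
  have hDc : IsMulCommutative (⁅N, N⁆ : Subgroup G) := by
    by_contra hna
    exact hDne (hNmin _ hDn hDle hna)
  have hAN : A ≤ Subgroup.centralizer (N : Set G) := Subgroup.le_centralizer_iff.mp hNle
  -- `D ≤ A`
  have hDA : ⁅N, N⁆ ≤ A := by
    have hsupn : (A ⊔ ⁅N, N⁆).Normal := inferInstance
    have hD_CA : ⁅N, N⁆ ≤ Subgroup.centralizer (A : Set G) := hDle.trans hNle
    have hA_CA : A ≤ Subgroup.centralizer (A : Set G) :=
      Subgroup.le_centralizer_iff_isMulCommutative.mpr hAc
    have hA_CD : A ≤ Subgroup.centralizer ((⁅N, N⁆ : Subgroup G) : Set G) :=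
      Subgroup.le_centralizer_iff.mp hD_CA
    have hD_CD : ⁅N, N⁆ ≤ Subgroup.centralizer ((⁅N, N⁆ : Subgroup G) : Set G) :=
      Subgroup.le_centralizer_iff_isMulCommutative.mpr hDc
    have hsupc : IsMulCommutative ↥(A ⊔ ⁅N, N⁆) := by
      rw [← Subgroup.le_centralizer_iff_isMulCommutative]
      intro x hx
      have hxA : x ∈ Subgroup.centralizer (A : Set G) := (sup_le hA_CA hD_CA) hx
      have hxD : x ∈ Subgroup.centralizer ((⁅N, N⁆ : Subgroup G) : Set G) :=
        (sup_le hA_CD hD_CD) hx
      have hle : A ⊔ ⁅N, N⁆ ≤ Subgroup.centralizer ({x} : Set G) := by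
        refine sup_le ?_ ?_
        · intro a ha
          rw [Subgroup.mem_centralizer_iff]
          intro y hy
          rw [Set.mem_singleton_iff] at hy
          rw [hy]
          exact (Subgroup.mem_centralizer_iff.mp hxA a ha).symm
        · intro a ha
          rw [Subgroup.mem_centralizer_iff]
          intro y hy
          rw [Set.mem_singleton_iff] at hy
          rw [hy]
          exact (Subgroup.mem_centralizer_iff.mp hxD a ha).symm
      rw [Subgroup.mem_centralizer_iff]
      intro y hy
      have := Subgroup.mem_centralizer_iff.mp (hle hy) x rfl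
      exact this.symm
    have := hAmax _ hsupn hsupc le_sup_left
    rw [← this]
    exact le_sup_right
  -- class two
  have hcl : ∀ d ∈ (⁅N, N⁆ : Subgroup G), ∀ n ∈ N, n * d = d * n := fun d hd n hn =>
    Subgroup.mem_centralizer_iff.mp (hAN (hDA hd)) n hn
  -- `N` is nilpotent
  haveI hnil : Group.IsNilpotent ↥N := by
    rw [Subgroup.nilpotent_iff_lowerCentralSeries]
    refine ⟨2, ?_⟩
    apply Subgroup.lowerCentralSeries_succ_eq_bot
    rw [Subgroup.top_lowerCentralSeries_one]
    intro d hd
    rw [Subgroup.mem_center_iff]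
    intro n
    have hd' : (d : G) ∈ (⁅N, N⁆ : Subgroup G) := by
      have h1 : (commutator ↥N).map N.subtype = ⁅N, N⁆ := by
        rw [commutator_def, Subgroup.map_commutator, ← MonoidHom.range_eq_map,
          Subgroup.range_subtype]
      rw [← h1]
      exact ⟨d, hd, rfl⟩
    exact Subtype.ext (hcl d hd' n n.2)
  -- the Sylow 2-subgroup
  haveI : Fact (Nat.Prime 2) := ⟨Nat.prime_two⟩
  obtain ⟨T⟩ : Nonempty (Sylow 2 ↥N) := inferInstance
  haveI hTn : (T : Subgroup ↥N).Normal := inferInstance
  haveI : Subsingleton (Sylow 2 ↥N) := by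
    haveI := Sylow.unique_of_normal T hTn
    infer_instance
  haveI hTc : (T : Subgroup ↥N).Characteristic := Sylow.characteristic_of_subsingleton T
  have hT'n : ((T : Subgroup ↥N).map N.subtype).Normal := STU_char_normal N (T : Subgroup ↥N)
  have hT'le : (T : Subgroup ↥N).map N.subtype ≤ N := Subgroup.map_subtype_le _
  have hTna : ¬ IsMulCommutative (T : Subgroup ↥N) := by
    intro hTc'
    apply hNna
    have e := Sylow.directProductOfNormal (G := ↥N) (fun {p} _ P => inferInstance)
    refine STU_comm_of_equiv e.symm ⟨⟨fun a b => ?_⟩⟩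
    funext q P
    have hq : Fact (Nat.Prime (q : ℕ)) := ⟨Nat.prime_of_mem_primeFactors q.2⟩
    show a q P * b q P = b q P * a q P
    rcases U1_pgroup hUN (q : ℕ) (P : Subgroup ↥N) P.isPGroup' with hc | ⟨h2, -⟩
    · haveI := hc
      haveI : IsMulCommutative (P : Subgroup ↥N) := IsCyclic.isMulCommutative
      exact IsMulCommutative.is_comm.comm _ _
    · -- `q = 2`: `P` is `T`
      have hq2 : (q : ℕ) = 2 := h2
      obtain ⟨q, hqm⟩ := q
      simp only at hq2
      subst hq2
      have hPT : P = T := Subsingleton.elim _ _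
      subst hPT
      exact hTc'.is_comm.comm _ _
  have hT'na : ¬ IsMulCommutative ((T : Subgroup ↥N).map N.subtype) := by
    intro hc
    exact hTna (STU_comm_of_equiv (Subgroup.equivMapOfInjective _ _ N.subtype_injective) hc)
  have hT' := hNmin _ hT'n hT'le hT'na
  have hTtop : (T : Subgroup ↥N) = ⊤ := by
    apply Subgroup.map_injective N.subtype_injective
    rw [hT', ← MonoidHom.range_eq_map, Subgroup.range_subtype]
  -- `N` is generalized quaternion
  have eNT : ↥N ≃* ↥(T : Subgroup ↥N) :=
    (Subgroup.topEquiv.symm).trans (MulEquiv.subgroupCongr hTtop.symm)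
  rcases U1_pgroup hUN 2 (T : Subgroup ↥N) T.isPGroup' with hc | ⟨-, n, ⟨e⟩⟩
  · exfalso
    haveI := hc
    exact hTna IsCyclic.isMulCommutative
  · have e' : ↥N ≃* QuaternionGroup (2 ^ n) := eNT.trans e
    rcases Nat.lt_or_ge n 1 with hn0 | hn1
    · exfalso
      have hn : n = 0 := by omega
      subst hn
      rw [pow_zero] at e'
      haveI : IsCyclic (QuaternionGroup 1) := QuaternionGroup.quaternionGroup_one_isCyclic
      exact hNna (STU_comm_of_equiv e' IsCyclic.isMulCommutative)
    · rcases Nat.lt_or_ge n 2 with hn2 | hn2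
      · have hn : n = 1 := by omega
        subst hn
        rw [pow_one] at e'
        exact ⟨e'⟩
      · exfalso
        have hm : 3 ≤ 2 ^ n := by
          calc 3 ≤ 2 ^ 2 := by norm_num
            _ ≤ 2 ^ n := Nat.pow_le_pow_right (by norm_num) hn2
        obtain ⟨x, y, c, z, hxy, hcz⟩ := STU_quat_class hm
        apply hcz
        have hxy' : e'.symm x * e'.symm y = e'.symm c * (e'.symm y * e'.symm x) := by
          rw [← map_mul, ← map_mul, ← map_mul, hxy]
        have hc : ((e'.symm c : ↥N) : G) ∈ (⁅N, N⁆ : Subgroup G) := by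
          have : ((e'.symm c : ↥N) : G) = ⁅((e'.symm x : ↥N) : G), ((e'.symm y : ↥N) : G)⁆ := by
            rw [commutatorElement_def]
            have h1 := congrArg (fun t : ↥N => (t : G)) hxy'
            simp only [Subgroup.coe_mul] at h1
            rw [h1]; group
          rw [this]
          exact Subgroup.commutator_mem_commutator (e'.symm x).2 (e'.symm y).2
        have h2 := hcl _ hc _ (e'.symm z).2
        have h3 : e'.symm z * e'.symm c = e'.symm c * e'.symm z := Subtype.ext h2
        have h4 := congrArg e' h3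
        rw [map_mul, map_mul, MulEquiv.apply_symm_apply, MulEquiv.apply_symm_apply] at h4
        exact h4.symm

/-- **S0686, abstract form** -/
theorem STU_minimal_nonabelian (hZ : TheoremZ.{u}) (hfree : HasFreeRep G) (hU : PU G)
    (A : Subgroup G) (hAn : A.Normal) (hAc : IsMulCommutative A)
    (hAmax : ∀ B : Subgroup G, B.Normal → IsMulCommutative B → A ≤ B → B = A)
    (N : Subgroup G) (hNn : N.Normal) (hNle : N ≤ Subgroup.centralizer (A : Set G))
    (hNna : ¬ IsMulCommutative N)
    (hNmin : ∀ M : Subgroup G, M.Normal → M ≤ N → ¬ IsMulCommutative M → M = N) :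
    Nonempty (N ≃* QuaternionGroup 2) ∨ Nonempty (N ≃* SL25) := by
  by_cases hs : Group.IsSolvable N
  · left
    exact STU_solvable_case hU A hAc hAmax N hNle hNna hNmin hs
  · right
    exact STU_nonsolvable_case hZ hfree N hNmin hs

end Cfsg.Agent.ZassL
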