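import Mathlib

/-! # Sharply doubly transitive groups of type III (S0689), part A (helper7): a quaternion frame of
linear maps on a finite `ZMod p`-module splits it into two halves -/

set_option autoImplicit false
set_option linter.unusedSectionVars false
set_option linter.unusedVariables false

namespace Cfsg.Agent.ZassL

open Module

variable {p : ℕ} [Fact p.Prime] {V : Type*} [AddCommGroup V] [Module (ZMod p) V]

/-- the half space attached to a quaternion frame `I, J` of linear maps and a solution of
`α² + β² = -1` -/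
def STT_half (I J : V →ₗ[ZMod p] V) (α β : ZMod p) : Submodule (ZMod p) V :=
  LinearMap.ker (α • I + β • J - 1)

theorem STT_mem_half {I J : V →ₗ[ZMod p] V} {α β : ZMod p} {v : V} :
    v ∈ STT_half I J α β ↔ α • I v + β • J v = v := by
  unfold STT_half
  rw [LinearMap.mem_ker]
  simp only [LinearMap.sub_apply, LinearMap.add_apply, LinearMap.smul_apply, Module.End.one_apply]
  exact sub_eq_zero

/-- maps commuting with `I` and `J` preserve the half space -/
theorem STT_half_invariant {I J : V →ₗ[ZMod p] V} {α β : ZMod p} (m : V →ₗ[ZMod p] V)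
    (hI : ∀ v, m (I v) = I (m v)) (hJ : ∀ v, m (J v) = J (m v)) {v : V}
    (hv : v ∈ STT_half I J α β) : m v ∈ STT_half I J α β := by
  rw [STT_mem_half] at hv ⊢
  have : m (α • I v + β • J v) = α • I (m v) + β • J (m v) := by
    rw [map_add, map_smul, map_smul, hI, hJ]
  rw [← this, hv]

/-- `|V| = |U|²` for the half space `U` -/
theorem STT_card_half [Finite V] (hp2 : p ≠ 2) {I J : V →ₗ[ZMod p] V} {α β : ZMod p}
    (hII : ∀ v, I (I v) = -v) (hJJ : ∀ v, J (J v) = -v) (hJI : ∀ v, J (I v) = -(I (J v)))
    (hab : α ^ 2 + β ^ 2 = -1) :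
    Nat.card V = Nat.card (STT_half I J α β) ^ 2 := by
  have h2 : (2 : ZMod p) ≠ 0 := by
    intro h
    have : ((2 : ℕ) : ZMod p) = 0 := by exact_mod_cast h
    rw [ZMod.natCast_eq_zero_iff] at this
    have hp := (Fact.out : p.Prime)
    exact hp2 ((Nat.prime_dvd_prime_iff_eq hp Nat.prime_two).mp this)
  obtain ⟨ε, hε⟩ : ∃ ε : V →ₗ[ZMod p] V, ε = α • I + β • J := ⟨_, rfl⟩
  have hεv : ∀ v, ε v = α • I v + β • J v := by
    intro v; rw [hε]; simp
  have hεε : ∀ v, ε (ε v) = v := by
    intro v
    rw [hεv (ε v), hεv v]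
    simp only [map_add, map_smul, hII, hJJ, hJI]
    have key : α • (α • -v + β • I (J v)) + β • (α • -(I (J v)) + β • -v) =
        (-(α ^ 2 + β ^ 2)) • v := by module
    rw [key, hab, neg_neg, one_smul]
  have hKK : ∀ v, I (J (I (J v))) = -v := by
    intro v
    rw [hJI, map_neg, hII, neg_neg, hJJ]
  have hεK : ∀ v, ε (I (J v)) = -(I (J (ε v))) := by
    intro v
    rw [hεv (I (J v)), hεv v]
    simp only [map_add, map_smul, hII, hJJ, hJI, map_neg, smul_neg, neg_neg]
    abel
  have hU : ∀ v, v ∈ STT_half I J α β ↔ ε v = v := by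
    intro v; rw [STT_mem_half, hεv]
  -- the bijection `U × U → V`
  let f : STT_half I J α β × STT_half I J α β → V := fun x => (x.1 : V) + I (J (x.2 : V))
  have hf : Function.Bijective f := by
    constructor
    · rintro ⟨⟨a, ha⟩, ⟨b, hb⟩⟩ ⟨⟨a', ha'⟩, ⟨b', hb'⟩⟩ h
      simp only [f] at h
      rw [hU] at ha hb ha' hb'
      have h' := congrArg ε h
      rw [map_add, map_add, ha, ha', hεK, hεK, hb, hb'] at h'
      have e1 : (2 : ZMod p) • a = (2 : ZMod p) • a' := by
        rw [two_smul, two_smul]
        calc a + a = (a + I (J b)) + (a + -(I (J b))) := by abel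
          _ = (a' + I (J b')) + (a' + -(I (J b'))) := by rw [h, h']
          _ = a' + a' := by abel
      have e2 : a = a' := by
        have := congrArg (fun x => (2 : ZMod p)⁻¹ • x) e1
        simpa [smul_smul, inv_mul_cancel₀ h2] using this
      have e3 : I (J b) = I (J b') := by
        rw [e2] at h
        exact add_left_cancel h
      have e4 : b = b' := by
        have := congrArg (fun x => I (J x)) e3
        simp only [hKK] at this
        exact neg_injective this
      simp only [e2, e4]
    · intro v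
      have ha : (2 : ZMod p)⁻¹ • (v + ε v) ∈ STT_half I J α β := by
        rw [hU, map_smul, map_add, hεε, add_comm]
      have hb0 : ε ((2 : ZMod p)⁻¹ • (v - ε v)) = -((2 : ZMod p)⁻¹ • (v - ε v)) := by
        rw [map_smul, map_sub, hεε, ← smul_neg, neg_sub]
      have hb : -(I (J ((2 : ZMod p)⁻¹ • (v - ε v)))) ∈ STT_half I J α β := by
        rw [hU, map_neg, hεK, hb0, map_neg, map_neg, neg_neg]
      refine ⟨(⟨_, ha⟩, ⟨_, hb⟩), ?_⟩
      simp only [f]
      rw [map_neg, map_neg, hKK, neg_neg, ← smul_add]
      have : v + ε v + (v - ε v) = (2 : ZMod p) • v := by rw [two_smul]; abel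
      rw [this, smul_smul, inv_mul_cancel₀ h2, one_smul]
  rw [← Nat.card_congr (Equiv.ofBijective f hf), Nat.card_prod, pow_two]

end Cfsg.Agent.ZassL
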