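import Mathlib

/-! # Sharply doubly transitive groups of type III (S0689), part B (helper7): the arithmetic -/

set_option autoImplicit false
set_option linter.unusedSectionVars false
set_option linter.unusedVariables false

namespace Cfsg.Agent.ZassL

theorem STT_not_primePow_119 : ¬ ∃ p k : ℕ, p.Prime ∧ 119 = p ^ k := by
  rintro ⟨p, k, hp, h⟩
  have h7 : 7 ∣ p ^ k := ⟨17, by rw [← h]⟩
  have h17 : 17 ∣ p ^ k := ⟨7, by rw [← h]⟩
  have e7 : 7 = p := (Nat.prime_dvd_prime_iff_eq (by norm_num) hp).mp ((by norm_num : Nat.Prime 7).dvd_of_dvd_pow h7)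
  have e17 : 17 = p := (Nat.prime_dvd_prime_iff_eq (by norm_num) hp).mp ((by norm_num : Nat.Prime 17).dvd_of_dvd_pow h17)
  omega

theorem STT_arith {N m e : ℕ} (hN : 2 ≤ N) (hpp : ∃ p k : ℕ, p.Prime ∧ N = p ^ k) (hm : m ∣ N - 1)
    (hcop : Nat.Coprime m 30) (he : e = 1 ∨ e = 2) (heq : N ^ 2 = 120 * e * m + 1) :
    (N = 11 ∧ m = 1 ∧ e = 1) ∨ (N = 29 ∧ m = 7 ∧ e = 1) ∨ (N = 59 ∧ m = 29 ∧ e = 1) := by
  have hm2 : m % 2 = 1 := by
    by_contra h
    have : 2 ∣ m := by omega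
    have := Nat.eq_one_of_dvd_coprimes hcop this (by norm_num)
    omega
  have hm3 : m % 3 ≠ 0 := by
    intro h
    have : 3 ∣ m := by omega
    have := Nat.eq_one_of_dvd_coprimes hcop this (by norm_num)
    omega
  have hm5 : m % 5 ≠ 0 := by
    intro h
    have : 5 ∣ m := by omega
    have := Nat.eq_one_of_dvd_coprimes hcop this (by norm_num)
    omega
  have hm0 : 0 < m := by omega
  obtain ⟨d, hd⟩ := hm
  have hNd : N = m * d + 1 := by omega
  have hdN : d * (N + 1) = 120 * e := by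
    have h1 : m * (d * (N + 1)) = m * (120 * e) := by
      have : (m * d + 1) ^ 2 = 120 * e * m + 1 := by rw [← hNd]; exact heq
      rw [hNd]
      nlinarith [this]
    exact Nat.eq_of_mul_eq_mul_left hm0 h1
  have hdvd : N + 1 ∣ 240 := by
    rcases he with rfl | rfl
    · exact Dvd.dvd.trans ⟨d, by rw [← hdN]; ring⟩ (by norm_num : 120 * 1 ∣ 240)
    · exact ⟨d, by linarith⟩
  have hmem : N + 1 ∈ Nat.divisors 240 := Nat.mem_divisors.mpr ⟨hdvd, by norm_num⟩
  have hdiv : Nat.divisors 240 = {1, 2, 3, 4, 5, 6, 8, 10, 12, 15, 16, 20, 24, 30, 40, 48, 60, 80,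
      120, 240} := by decide
  rw [hdiv] at hmem
  simp only [Finset.mem_insert, Finset.mem_singleton] at hmem
  have hN' : N = 1 ∨ N = 2 ∨ N = 3 ∨ N = 4 ∨ N = 5 ∨ N = 7 ∨ N = 9 ∨ N = 11 ∨ N = 14 ∨ N = 15 ∨
      N = 19 ∨ N = 23 ∨ N = 29 ∨ N = 39 ∨ N = 47 ∨ N = 59 ∨ N = 79 ∨ N = 119 ∨ N = 239 := by
    omega
  rcases hN' with rfl | rfl | rfl | rfl | rfl | rfl | rfl | rfl | rfl | rfl | rfl | rfl | rfl | rfl |
    rfl | rfl | rfl | rfl | rfl
  all_goals first
    | (exfalso; exact STT_not_primePow_119 hpp)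
    | (rcases he with rfl | rfl <;> omega)

end Cfsg.Agent.ZassL
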