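import Mathlib
import Cfsg.Agent.Lib.S4292.Defs
import Cfsg.Agent.H2.FrobeniusSemidirect
import Cfsg.Agent.H2.FrobeniusLower

set_option autoImplicit false
set_option linter.style.haveILetI false

/-! # Zassenhaus cluster: a fixed-point-free group of automorphisms is a Frobenius complement -/

namespace Cfsg.Agent.ZassL

open Cfsg.Agent.H2 Cfsg.Agent.H2.FrobLower

universe u

/-- A non-trivial group of fixed-point-free automorphisms of a finite group is (isomorphic to)
a Frobenius complement. -/
theorem isFC_of_fpf_mulAut {K : Type u} [Group K] [Finite K] (G : Subgroup (MulAut K))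
    (hfpf : ∀ φ ∈ G, φ ≠ 1 → ∀ k : K, φ k = k → k = 1) (hne : G ≠ ⊥) :
    Cfsg.Agent.S4292L.IsFC G := by
  haveI : Nontrivial G := (Subgroup.nontrivial_iff_ne_bot G).mpr hne
  haveI : Nontrivial K := by
    by_contra hK
    rw [not_nontrivial_iff_subsingleton] at hK
    apply hne
    rw [eq_bot_iff]
    intro φ _
    rw [Subgroup.mem_bot]
    ext k
    exact Subsingleton.elim _ _
  have hfpf' : ∀ u : G, u ≠ 1 → ∀ v : K, G.subtype u v = v → v = 1 := by
    intro u hu v hv
    exact hfpf u u.2 (fun h => hu (Subtype.ext h)) v hv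
  have hF := isFrobeniusComplement_inr_range G.subtype hfpf'
  haveI : Finite (K ⋊[G.subtype] G) := Finite.of_equiv _ SemidirectProduct.equivProd.symm
  obtain ⟨L, hL1, hL2, C, hC, ⟨e⟩⟩ := exists_type_zero _ hF
  refine ⟨L, hL1, hL2, C, hC, ⟨?_⟩⟩
  exact (MonoidHom.ofInjective (f := (SemidirectProduct.inr : G →* K ⋊[G.subtype] G))
    SemidirectProduct.inr_injective).trans e

end Cfsg.Agent.ZassL
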