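import Mathlib
import Cfsg.Agent.Lib.Zass.Bridge
import Cfsg.Agent.Lib.Zass.Basic
import Cfsg.Agent.Lib.Zass.BasicC
import Cfsg.Agent.Lib.Zass.StructA

/-! # Sharply doubly transitive groups of type III (S0689), part C (helper7): a linear group that is
regular on the non-zero vectors has a free complex representation -/

set_option autoImplicit false
set_option linter.unusedSectionVars false
set_option linter.unusedVariables false
set_option linter.style.haveILetI false

namespace Cfsg.Agent.ZassL

universe u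

variable {p : ℕ} [Fact p.Prime] {V : Type u} [AddCommGroup V] [Module (ZMod p) V]
  {H : Subgroup (V ≃ₗ[ZMod p] V)}

/-- a regular linear group acts freely on the non-zero vectors -/
theorem STT_free (hreg : ∀ v w : V, v ≠ 0 → w ≠ 0 → ∃! h : H, (h : V ≃ₗ[ZMod p] V) v = w)
    {h : H} {v : V} (hv : v ≠ 0) (hfix : (h : V ≃ₗ[ZMod p] V) v = v) : h = 1 := by
  obtain ⟨g, -, hg⟩ := hreg v v hv hv
  rw [hg h hfix, hg 1 (by simp)]

/-- `|H| + 1 = |V|` -/
theorem STT_card [Finite V] (hreg : ∀ v w : V, v ≠ 0 → w ≠ 0 → ∃! h : H, (h : V ≃ₗ[ZMod p] V) v = w)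
    {v₀ : V} (hv₀ : v₀ ≠ 0) : Nat.card H + 1 = Nat.card V := by
  classical
  have hbij : Function.Bijective (fun h : H => (⟨(h : V ≃ₗ[ZMod p] V) v₀, by
      intro h0
      exact hv₀ ((LinearEquiv.map_eq_zero_iff _).mp h0)⟩ : {w : V // w ≠ 0})) := by
    constructor
    · intro a b hab
      have hab' : (a : V ≃ₗ[ZMod p] V) v₀ = (b : V ≃ₗ[ZMod p] V) v₀ := congrArg Subtype.val hab
      obtain ⟨g, -, hg⟩ := hreg v₀ ((b : V ≃ₗ[ZMod p] V) v₀) hv₀ (by
        intro h0
        exact hv₀ ((LinearEquiv.map_eq_zero_iff _).mp h0))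
      rw [hg a hab', hg b rfl]
    · rintro ⟨w, hw⟩
      obtain ⟨g, hg, -⟩ := hreg v₀ w hv₀ hw
      exact ⟨g, Subtype.ext hg⟩
  rw [Nat.card_congr (Equiv.ofBijective _ hbij)]
  haveI : Fintype V := Fintype.ofFinite V
  rw [Nat.card_eq_fintype_card, Nat.card_eq_fintype_card, Fintype.card_subtype_compl,
    Fintype.card_subtype_eq]
  have : 0 < Fintype.card V := Fintype.card_pos_iff.mpr ⟨0⟩
  omega

/-- the action on `Multiplicative V` -/
def STT_toAut (H : Subgroup (V ≃ₗ[ZMod p] V)) : H →* MulAut (Multiplicative V) where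
  toFun h := AddEquiv.toMultiplicative ((h : V ≃ₗ[ZMod p] V).toAddEquiv)
  map_one' := by
    ext x
    rfl
  map_mul' a b := by
    ext x
    rfl

theorem STT_toAut_apply (h : H) (v : V) :
    STT_toAut H h (Multiplicative.ofAdd v) = Multiplicative.ofAdd ((h : V ≃ₗ[ZMod p] V) v) := rfl

theorem STT_toAut_injective : Function.Injective (STT_toAut H) := by
  intro a b hab
  apply Subtype.ext
  ext v
  have := congrArg (fun f : MulAut (Multiplicative V) => f (Multiplicative.ofAdd v)) hab
  simp only [STT_toAut_apply] at this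
  exact Multiplicative.ofAdd.injective this

/-- a non-trivial regular linear group has a free complex representation -/
theorem STT_hasFreeRep [Finite V]
    (hreg : ∀ v w : V, v ≠ 0 → w ≠ 0 → ∃! h : H, (h : V ≃ₗ[ZMod p] V) v = w)
    (hne : ∃ h : H, h ≠ 1) : HasFreeRep H := by
  have hfpf : ∀ φ ∈ (STT_toAut H).range, φ ≠ 1 → ∀ k : Multiplicative V, φ k = k → k = 1 := by
    rintro φ ⟨h, rfl⟩ hφ k hk
    by_contra hk1
    have hv : Multiplicative.toAdd k ≠ 0 := fun h0 => hk1 (by
      rw [← ofAdd_toAdd k, h0]; rfl)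
    have hfix : (h : V ≃ₗ[ZMod p] V) (Multiplicative.toAdd k) = Multiplicative.toAdd k := by
      have := STT_toAut_apply h (Multiplicative.toAdd k)
      rw [ofAdd_toAdd, hk] at this
      have := congrArg Multiplicative.toAdd this
      simpa using this.symm
    have h1 : h = 1 := STT_free hreg hv hfix
    exact hφ (by rw [h1, map_one])
  have hne' : (STT_toAut H).range ≠ ⊥ := by
    obtain ⟨h, hh⟩ := hne
    intro hbot
    have : STT_toAut H h ∈ (STT_toAut H).range := ⟨h, rfl⟩
    rw [hbot, Subgroup.mem_bot] at this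
    exact hh (STT_toAut_injective (by rw [this, map_one]))
  have hFC := isFC_of_fpf_mulAut (STT_toAut H).range hfpf hne'
  haveI : Finite (MulAut (Multiplicative V)) := by
    haveI : Finite (Multiplicative V) := inferInstanceAs (Finite V)
    exact Finite.of_injective (fun f : MulAut (Multiplicative V) => (f : Multiplicative V → Multiplicative V))
      (fun f g hfg => MulEquiv.ext (fun x => congrFun hfg x))
  have hfree := exists_free_of_isFC hFC
  exact ZS_hasFreeRep_of_equiv (MonoidHom.ofInjective STT_toAut_injective) hfree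

end Cfsg.Agent.ZassL
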