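import Mathlib
import Cfsg.Agent.Lib.Zass.STTA
import Cfsg.Agent.Lib.Zass.STTB
import Cfsg.Agent.Lib.Zass.STTC
import Cfsg.Agent.Lib.Zass.StructE
import Cfsg.Agent.Lib.Helper7.BG15PA

/-! # Sharply doubly transitive groups of type III (S0689), part D (helper7): assembly, assuming
Theorem Z -/

set_option autoImplicit false
set_option linter.unusedSectionVars false
set_option linter.unusedVariables false
set_option linter.style.haveILetI false

namespace Cfsg.Agent.ZassL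

open Cfsg.Agent.S3358L

universe u

local notation "SL25" => Matrix.SpecialLinearGroup (Fin 2) (ZMod 5)

/-- two quaternion units of `SL(2,5)` -/
def STT_qa : SL25 := ⟨!![2, 0; 0, 3], by decide⟩
/-- two quaternion units of `SL(2,5)` -/
def STT_qb : SL25 := ⟨!![0, 1; 4, 0], by decide⟩

theorem STT_q1 : STT_qa * STT_qa = STT_qb * STT_qb := by decide
theorem STT_q2 : STT_qa * STT_qa ≠ 1 := by decide
theorem STT_q3 : (STT_qa * STT_qa) * (STT_qa * STT_qa) = 1 := by decide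
theorem STT_q4 : STT_qb * STT_qa = (STT_qa * STT_qa) * STT_qa * STT_qb := by decide

variable {p : ℕ} [Fact p.Prime] {V : Type u} [AddCommGroup V] [Module (ZMod p) V]
  {H : Subgroup (V ≃ₗ[ZMod p] V)}

/-- a free involution acts as `-1` -/
theorem STT_neg_of_involution
    (hreg : ∀ v w : V, v ≠ 0 → w ≠ 0 → ∃! h : H, (h : V ≃ₗ[ZMod p] V) v = w) {z : H}
    (hz1 : z ≠ 1) (hzz : z * z = 1) (v : V) : (z : V ≃ₗ[ZMod p] V) v = -v := by
  by_contra hne
  have hw : v + (z : V ≃ₗ[ZMod p] V) v ≠ 0 := by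
    intro h0
    exact hne (eq_neg_of_add_eq_zero_right h0)
  have hfix : (z : V ≃ₗ[ZMod p] V) (v + (z : V ≃ₗ[ZMod p] V) v) = v + (z : V ≃ₗ[ZMod p] V) v := by
    rw [map_add]
    have : (z : V ≃ₗ[ZMod p] V) ((z : V ≃ₗ[ZMod p] V) v) = v := by
      have h1 : ((z * z : H) : V ≃ₗ[ZMod p] V) v = v := by rw [hzz]; rfl
      exact h1
    rw [this, add_comm]
  exact hz1 (STT_free hreg hw hfix)

/-- the main counting statement: the structure `S × M` of index `≤ 2` forces the three cases -/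
theorem STT_count [Finite V]
    (hreg : ∀ v w : V, v ≠ 0 → w ≠ 0 → ∃! h : H, (h : V ≃ₗ[ZMod p] V) v = w)
    {G₀ S M : Subgroup H} (hidx : G₀.index = 1 ∨ G₀.index = 2) (hsup : S ⊔ M = G₀)
    (hinf : S ⊓ M = ⊥) (hcomm : ∀ s ∈ S, ∀ x ∈ M, s * x = x * s) (e : S ≃* SL25)
    (hcop : (Nat.card M).Coprime 30) :
    (Nat.card V = 121 ∧ Nat.card M = 1 ∧ G₀.index = 1) ∨
      (Nat.card V = 841 ∧ Nat.card M = 7 ∧ G₀.index = 1) ∨
      (Nat.card V = 3481 ∧ Nat.card M = 29 ∧ G₀.index = 1) := by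
  haveI : Finite (V ≃ₗ[ZMod p] V) :=
    Finite.of_injective (fun f : V ≃ₗ[ZMod p] V => (f : V → V)) (fun f g hfg =>
      LinearEquiv.ext (fun x => congrFun hfg x))
  -- the quaternion units
  obtain ⟨i₀, hi₀⟩ : ∃ i₀ : H, i₀ = ((e.symm STT_qa : S) : H) := ⟨_, rfl⟩
  obtain ⟨j₀, hj₀⟩ : ∃ j₀ : H, j₀ = ((e.symm STT_qb : S) : H) := ⟨_, rfl⟩
  have hiS : i₀ ∈ S := by rw [hi₀]; exact (e.symm STT_qa).2
  have hjS : j₀ ∈ S := by rw [hj₀]; exact (e.symm STT_qb).2
  have r1 : i₀ * i₀ = j₀ * j₀ := by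
    rw [hi₀, hj₀, ← Subgroup.coe_mul, ← Subgroup.coe_mul, ← map_mul, ← map_mul, STT_q1]
  have r2 : i₀ * i₀ ≠ 1 := by
    rw [hi₀, ← Subgroup.coe_mul, ← map_mul]
    intro h
    have h' : e.symm (STT_qa * STT_qa) = 1 := Subtype.ext h
    rw [map_eq_one_iff e.symm (MulEquiv.injective _)] at h'
    exact STT_q2 h'
  have r3 : (i₀ * i₀) * (i₀ * i₀) = 1 := by
    rw [hi₀, ← Subgroup.coe_mul, ← Subgroup.coe_mul, ← map_mul, ← map_mul, STT_q3, map_one]
    rfl
  have r4 : j₀ * i₀ = (i₀ * i₀) * i₀ * j₀ := by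
    rw [hi₀, hj₀]
    simp only [← Subgroup.coe_mul, ← map_mul]
    rw [STT_q4]
  have hzv := STT_neg_of_involution hreg r2 r3
  -- a non-zero vector
  obtain ⟨v₀, hv₀⟩ : ∃ v₀ : V, v₀ ≠ 0 := by
    by_contra hall0
    have hall : ∀ v : V, v = 0 := fun v => by_contra (fun h => hall0 ⟨v, h⟩)
    apply r2
    apply Subtype.ext
    ext v
    rw [hall v, map_zero]
    exact (hall _).symm
  have hcardH := STT_card hreg hv₀
  -- `p` is odd
  have hp2 : p ≠ 2 := by
    intro hp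
    apply r2
    refine STT_free hreg hv₀ ?_
    rw [hzv v₀]
    have h2 : (2 : ZMod p) • v₀ = 0 := by
      have : (2 : ZMod p) = 0 := by
        have h := ZMod.natCast_self p
        have h' : ((2 : ℕ) : ZMod p) = 0 := by
          rw [← hp]; exact h
        exact_mod_cast h'
      rw [this, zero_smul]
    rw [two_smul] at h2
    exact (eq_neg_of_add_eq_zero_right h2).symm
  -- the frame of linear maps
  have hII : ∀ v, (i₀ : V ≃ₗ[ZMod p] V).toLinearMap ((i₀ : V ≃ₗ[ZMod p] V).toLinearMap v) = -v := by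
    intro v
    have : ((i₀ * i₀ : H) : V ≃ₗ[ZMod p] V) v = -v := hzv v
    exact this
  have hJJ : ∀ v, (j₀ : V ≃ₗ[ZMod p] V).toLinearMap ((j₀ : V ≃ₗ[ZMod p] V).toLinearMap v) = -v := by
    intro v
    have : ((j₀ * j₀ : H) : V ≃ₗ[ZMod p] V) v = -v := by rw [← r1]; exact hzv v
    exact this
  have hJI : ∀ v, (j₀ : V ≃ₗ[ZMod p] V).toLinearMap ((i₀ : V ≃ₗ[ZMod p] V).toLinearMap v) =
      -((i₀ : V ≃ₗ[ZMod p] V).toLinearMap ((j₀ : V ≃ₗ[ZMod p] V).toLinearMap v)) := by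
    intro v
    have h1 : ((j₀ * i₀ : H) : V ≃ₗ[ZMod p] V) v = (((i₀ * i₀) * i₀ * j₀ : H) : V ≃ₗ[ZMod p] V) v := by
      rw [r4]
    have h2 : (((i₀ * i₀) * i₀ * j₀ : H) : V ≃ₗ[ZMod p] V) v =
        ((i₀ * i₀ : H) : V ≃ₗ[ZMod p] V) ((i₀ : V ≃ₗ[ZMod p] V) ((j₀ : V ≃ₗ[ZMod p] V) v)) := rfl
    rw [h2, hzv] at h1
    exact h1
  obtain ⟨α, β, hab⟩ := ZMod.sq_add_sq p (-1)
  obtain ⟨U, hUdef⟩ : ∃ U : Submodule (ZMod p) V, U = STT_half (i₀ : V ≃ₗ[ZMod p] V).toLinearMap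
    (j₀ : V ≃ₗ[ZMod p] V).toLinearMap α β := ⟨_, rfl⟩
  have hVU : Nat.card V = Nat.card U ^ 2 := by
    rw [hUdef]; exact STT_card_half hp2 hII hJJ hJI hab
  -- `|M|` divides `|U| - 1`
  have hMU : Nat.card M ∣ Nat.card U - 1 := by
    have hinv : ∀ (m : M), ∀ x ∈ {v : V | v ∈ U ∧ v ≠ 0}, m • x ∈ {v : V | v ∈ U ∧ v ≠ 0} := by
      rintro ⟨m, hm⟩ x ⟨hxU, hx0⟩
      refine ⟨?_, ?_⟩
      · show (m : V ≃ₗ[ZMod p] V).toLinearMap x ∈ U
        rw [hUdef] at hxU ⊢
        refine STT_half_invariant (m : V ≃ₗ[ZMod p] V).toLinearMap ?_ ?_ hxU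
        · intro v
          have : ((m * i₀ : H) : V ≃ₗ[ZMod p] V) v = ((i₀ * m : H) : V ≃ₗ[ZMod p] V) v := by
            rw [hcomm i₀ hiS m hm]
          exact this
        · intro v
          have : ((m * j₀ : H) : V ≃ₗ[ZMod p] V) v = ((j₀ * m : H) : V ≃ₗ[ZMod p] V) v := by
            rw [hcomm j₀ hjS m hm]
          exact this
      · show (m : V ≃ₗ[ZMod p] V) x ≠ 0
        intro h0
        exact hx0 ((LinearEquiv.map_eq_zero_iff _).mp h0)
    have hfree : ∀ (m : M), ∀ x ∈ {v : V | v ∈ U ∧ v ≠ 0}, m • x = x → m = 1 := by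
      rintro ⟨m, hm⟩ x ⟨-, hx0⟩ hfix
      have : m = 1 := STT_free hreg hx0 hfix
      exact Subtype.ext this
    have h := Cfsg.Agent.Lib.Helper7.BG15P.card_dvd_ncard_of_free (K := M)
      {v : V | v ∈ U ∧ v ≠ 0} (Set.toFinite _) hinv hfree
    have hset : {v : V | v ∈ U ∧ v ≠ 0} = (U : Set V) \ {0} := by
      ext v; simp
    have hU' : ((U : Set V)).ncard = Nat.card U := (Nat.card_coe_set_eq (U : Set V)).symm
    rw [hset, Set.ncard_sdiff_singleton_of_mem (U.zero_mem), hU'] at h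
    exact h
  -- orders
  have hcardS : Nat.card S = 120 := ZS_card_S e
  have hG₀ : Nat.card G₀ = Nat.card S * Nat.card M := by
    have comm : ∀ (s : S) (m : M), Commute (S.subtype s) (M.subtype m) :=
      fun s m => hcomm s.1 s.2 m.1 m.2
    have hinj : Function.Injective (MonoidHom.noncommCoprod S.subtype M.subtype comm) := by
      rw [MonoidHom.noncommCoprod_injective]
      refine ⟨Subgroup.subtype_injective _, Subgroup.subtype_injective _, ?_⟩
      rw [Subgroup.range_subtype, Subgroup.range_subtype, disjoint_iff, hinf]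
    have hrange : (MonoidHom.noncommCoprod S.subtype M.subtype comm).range = G₀ := by
      rw [MonoidHom.noncommCoprod_range, Subgroup.range_subtype, Subgroup.range_subtype, hsup]
    rw [← hrange, ← Nat.card_congr (MonoidHom.ofInjective hinj).toEquiv, Nat.card_prod]
  have hH : Nat.card G₀ * G₀.index = Nat.card H := Subgroup.card_mul_index G₀
  have hpp : ∃ q k : ℕ, q.Prime ∧ Nat.card U = q ^ k := by
    refine ⟨p, Module.finrank (ZMod p) U, Fact.out, ?_⟩
    rw [Module.natCard_eq_pow_finrank (K := ZMod p) (V := U), Nat.card_zmod]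
  have heq : Nat.card U ^ 2 = 120 * G₀.index * Nat.card M + 1 := by
    rw [← hVU, ← hcardH, ← hH, hG₀, hcardS]; ring
  have hN : 2 ≤ Nat.card U := by
    by_contra hlt
    have hle : Nat.card U ≤ 1 := by omega
    have h1 : Nat.card U ^ 2 ≤ 1 := by
      calc Nat.card U ^ 2 ≤ 1 ^ 2 := Nat.pow_le_pow_left hle 2
        _ = 1 := by norm_num
    have hM0 : 0 < Nat.card M := Nat.card_pos
    have hi0 : 0 < G₀.index := by rcases hidx with h | h <;> omega
    have : 0 < 120 * G₀.index * Nat.card M := by positivity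
    omega
  have hfin := STT_arith hN hpp hMU hcop hidx heq
  rcases hfin with ⟨h1, h2, h3⟩ | ⟨h1, h2, h3⟩ | ⟨h1, h2, h3⟩
  · left; exact ⟨by rw [hVU, h1]; norm_num, h2, h3⟩
  · right; left; exact ⟨by rw [hVU, h1]; norm_num, h2, h3⟩
  · right; right; exact ⟨by rw [hVU, h1]; norm_num, h2, h3⟩

/-- internal direct products -/
theorem STT_prod_equiv {G : Type*} [Group G] {S M : Subgroup G} (hsup : S ⊔ M = ⊤)
    (hinf : S ⊓ M = ⊥) (hcomm : ∀ s ∈ S, ∀ x ∈ M, s * x = x * s) : Nonempty (G ≃* S × M) := by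
  have comm : ∀ (s : S) (m : M), Commute (S.subtype s) (M.subtype m) :=
    fun s m => hcomm s.1 s.2 m.1 m.2
  have hinj : Function.Injective (MonoidHom.noncommCoprod S.subtype M.subtype comm) := by
    rw [MonoidHom.noncommCoprod_injective]
    refine ⟨Subgroup.subtype_injective _, Subgroup.subtype_injective _, ?_⟩
    rw [Subgroup.range_subtype, Subgroup.range_subtype, disjoint_iff, hinf]
  have hsurj : Function.Surjective (MonoidHom.noncommCoprod S.subtype M.subtype comm) := by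
    rw [← MonoidHom.range_eq_top, MonoidHom.noncommCoprod_range, Subgroup.range_subtype,
      Subgroup.range_subtype, hsup]
  exact ⟨(MulEquiv.ofBijective _ ⟨hinj, hsurj⟩).symm⟩

/-- **S0689 from Theorem Z** -/
theorem STT_main (hZ : TheoremZ.{u}) [Finite V]
    (hreg : ∀ v w : V, v ≠ 0 → w ≠ 0 → ∃! h : H, (h : V ≃ₗ[ZMod p] V) v = w)
    (hsolv : ¬ Group.IsSolvable H) :
    (Nat.card V = 121 ∧ Nonempty (H ≃* SL25)) ∨
      (Nat.card V = 841 ∧ Nonempty (H ≃* SL25 × Multiplicative (ZMod 7))) ∨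
      (Nat.card V = 3481 ∧ Nonempty (H ≃* SL25 × Multiplicative (ZMod 29))) := by
  haveI : Finite (V ≃ₗ[ZMod p] V) :=
    Finite.of_injective (fun f : V ≃ₗ[ZMod p] V => (f : V → V)) (fun f g hfg =>
      LinearEquiv.ext (fun x => congrFun hfg x))
  have hne : ∃ h : H, h ≠ 1 := by
    by_contra hall0
    have hall : ∀ h : H, h = 1 := fun h => by_contra (fun hh => hall0 ⟨h, hh⟩)
    exact hsolv (Group.isSolvable_of_comm (fun a b => by rw [hall a, hall b]))
  have hfree := STT_hasFreeRep hreg hne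
  obtain ⟨n, ρ, hn, hρ⟩ := hfree
  have hU : PU H := hρ.PU hn
  obtain ⟨G₀, hG₀n, hidx, S, M, hsup, hinf, hcomm, ⟨e⟩, hcyc, hcop⟩ :=
    ZS_structure hZ hU ⟨n, ρ, hn, hρ⟩ hsolv
  have key : ∀ (hi : G₀.index = 1), Nonempty (H ≃* S × M) := by
    intro hi
    rw [Subgroup.index_eq_one] at hi
    rw [hi] at hsup
    exact STT_prod_equiv hsup hinf hcomm
  rcases STT_count hreg hidx hsup hinf hcomm e hcop with ⟨hV, hM, hi⟩ | ⟨hV, hM, hi⟩ | ⟨hV, hM, hi⟩
  · left
    refine ⟨hV, ?_⟩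
    obtain ⟨f⟩ := key hi
    haveI : Unique M := (Nat.card_eq_one_iff_unique.mp hM).2.some |> fun _ =>
      { default := 1, uniq := fun a => (Nat.card_eq_one_iff_unique.mp hM).1.elim a 1 }
    exact ⟨(f.trans MulEquiv.prodUnique).trans e⟩
  · right; left
    refine ⟨hV, ?_⟩
    obtain ⟨f⟩ := key hi
    haveI : Fact (Nat.Prime 7) := ⟨by norm_num⟩
    haveI : IsCyclic M := isCyclic_of_prime_card hM
    have eM : M ≃* Multiplicative (ZMod 7) := mulEquivOfCyclicCardEq (by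
      rw [hM, Nat.card_eq_fintype_card, Fintype.card_multiplicative, ZMod.card])
    exact ⟨f.trans (MulEquiv.prodCongr e eM)⟩
  · right; right
    refine ⟨hV, ?_⟩
    obtain ⟨f⟩ := key hi
    haveI : Fact (Nat.Prime 29) := ⟨by norm_num⟩
    haveI : IsCyclic M := isCyclic_of_prime_card hM
    have eM : M ≃* Multiplicative (ZMod 29) := mulEquivOfCyclicCardEq (by
      rw [hM, Nat.card_eq_fintype_card, Fintype.card_multiplicative, ZMod.card])
    exact ⟨f.trans (MulEquiv.prodCongr e eM)⟩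

end Cfsg.Agent.ZassL
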