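import Mathlib
import Cfsg.Agent.Lib.Zass.STTD
import Cfsg.Agent.Lib.S3358.QXc

/-! # Sharply doubly transitive groups, exceptional types (S0686-S0688), part B (helper7):
the half space of a pair of quaternion units, invariant lines, and `|Aut Q₈| ∣ 24` -/

set_option autoImplicit false
set_option linter.unusedSectionVars false
set_option linter.unusedVariables false
set_option linter.style.haveILetI false

namespace Cfsg.Agent.ZassL

open Cfsg.Agent.S3358L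

universe u

local notation "SL25" => Matrix.SpecialLinearGroup (Fin 2) (ZMod 5)

variable {p : ℕ} [Fact p.Prime] {V : Type u} [AddCommGroup V] [Module (ZMod p) V]
  {H : Subgroup (V ≃ₗ[ZMod p] V)}

/-- quaternion units give a half space preserved by everything commuting with them -/
theorem STU_exists_half [Finite V]
    (hreg : ∀ v w : V, v ≠ 0 → w ≠ 0 → ∃! h : H, (h : V ≃ₗ[ZMod p] V) v = w)
    {i₀ j₀ : H} (r1 : i₀ * i₀ = j₀ * j₀) (r2 : i₀ * i₀ ≠ 1) (r3 : (i₀ * i₀) * (i₀ * i₀) = 1)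
    (r4 : j₀ * i₀ = (i₀ * i₀) * i₀ * j₀) :
    ∃ U : Submodule (ZMod p) V, Nat.card V = Nat.card U ^ 2 ∧
      ∀ c : H, c * i₀ = i₀ * c → c * j₀ = j₀ * c → ∀ u ∈ U, (c : V ≃ₗ[ZMod p] V) u ∈ U := by
  have hzv := STT_neg_of_involution hreg r2 r3
  obtain ⟨v₀, hv₀⟩ : ∃ v₀ : V, v₀ ≠ 0 := by
    by_contra hall0
    have hall : ∀ v : V, v = 0 := fun v => by_contra (fun h => hall0 ⟨v, h⟩)
    apply r2
    apply Subtype.ext
    ext v
    rw [hall v, map_zero]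
    exact (hall _).symm
  have hp2 : p ≠ 2 := by
    intro hp
    apply r2
    refine STT_free hreg hv₀ ?_
    rw [hzv v₀]
    have h2 : (2 : ZMod p) • v₀ = 0 := by
      have : (2 : ZMod p) = 0 := by
        have h := ZMod.natCast_self p
        have h' : ((2 : ℕ) : ZMod p) = 0 := by
          rw [← hp]; exact h
        exact_mod_cast h'
      rw [this, zero_smul]
    rw [two_smul] at h2
    exact (eq_neg_of_add_eq_zero_right h2).symm
  have hII : ∀ v, (i₀ : V ≃ₗ[ZMod p] V).toLinearMap ((i₀ : V ≃ₗ[ZMod p] V).toLinearMap v) = -v := by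
    intro v
    have : ((i₀ * i₀ : H) : V ≃ₗ[ZMod p] V) v = -v := hzv v
    exact this
  have hJJ : ∀ v, (j₀ : V ≃ₗ[ZMod p] V).toLinearMap ((j₀ : V ≃ₗ[ZMod p] V).toLinearMap v) = -v := by
    intro v
    have : ((j₀ * j₀ : H) : V ≃ₗ[ZMod p] V) v = -v := by rw [← r1]; exact hzv v
    exact this
  have hJI : ∀ v, (j₀ : V ≃ₗ[ZMod p] V).toLinearMap ((i₀ : V ≃ₗ[ZMod p] V).toLinearMap v) =
      -((i₀ : V ≃ₗ[ZMod p] V).toLinearMap ((j₀ : V ≃ₗ[ZMod p] V).toLinearMap v)) := by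
    intro v
    have h1 : ((j₀ * i₀ : H) : V ≃ₗ[ZMod p] V) v = (((i₀ * i₀) * i₀ * j₀ : H) : V ≃ₗ[ZMod p] V) v := by
      rw [r4]
    have h2 : (((i₀ * i₀) * i₀ * j₀ : H) : V ≃ₗ[ZMod p] V) v =
        ((i₀ * i₀ : H) : V ≃ₗ[ZMod p] V) ((i₀ : V ≃ₗ[ZMod p] V) ((j₀ : V ≃ₗ[ZMod p] V) v)) := rfl
    rw [h2, hzv] at h1
    exact h1
  obtain ⟨α, β, hab⟩ := ZMod.sq_add_sq p (-1)
  refine ⟨STT_half (i₀ : V ≃ₗ[ZMod p] V).toLinearMap (j₀ : V ≃ₗ[ZMod p] V).toLinearMap α β,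
    STT_card_half hp2 hII hJJ hJI hab, ?_⟩
  intro c hci hcj u hu
  refine STT_half_invariant (c : V ≃ₗ[ZMod p] V).toLinearMap ?_ ?_ hu
  · intro v
    have : ((c * i₀ : H) : V ≃ₗ[ZMod p] V) v = ((i₀ * c : H) : V ≃ₗ[ZMod p] V) v := by rw [hci]
    exact this
  · intro v
    have : ((c * j₀ : H) : V ≃ₗ[ZMod p] V) v = ((j₀ * c : H) : V ≃ₗ[ZMod p] V) v := by rw [hcj]
    exact this

/-- quaternion units in `Q₈` -/
theorem STU_units_q8 : ∃ a b : QuaternionGroup 2, a * a = b * b ∧ a * a ≠ 1 ∧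
    (a * a) * (a * a) = 1 ∧ b * a = (a * a) * a * b :=
  ⟨QuaternionGroup.a 1, QuaternionGroup.xa 0, by decide, by decide, by decide, by decide⟩

/-- quaternion units in a subgroup isomorphic to `Q₈` or `SL(2,5)` -/
theorem STU_units {G : Type*} [Group G] (N : Subgroup G)
    (h : Nonempty (N ≃* QuaternionGroup 2) ∨ Nonempty (N ≃* SL25)) :
    ∃ i₀ j₀ : G, i₀ ∈ N ∧ j₀ ∈ N ∧ i₀ * i₀ = j₀ * j₀ ∧ i₀ * i₀ ≠ 1 ∧
      (i₀ * i₀) * (i₀ * i₀) = 1 ∧ j₀ * i₀ = (i₀ * i₀) * i₀ * j₀ := by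
  have key : ∀ {Q : Type} [Group Q] (e : N ≃* Q) (a b : Q), a * a = b * b → a * a ≠ 1 →
      (a * a) * (a * a) = 1 → b * a = (a * a) * a * b →
      ∃ i₀ j₀ : G, i₀ ∈ N ∧ j₀ ∈ N ∧ i₀ * i₀ = j₀ * j₀ ∧ i₀ * i₀ ≠ 1 ∧
        (i₀ * i₀) * (i₀ * i₀) = 1 ∧ j₀ * i₀ = (i₀ * i₀) * i₀ * j₀ := by
    intro Q _ e a b h1 h2 h3 h4
    refine ⟨(e.symm a : N), (e.symm b : N), (e.symm a).2, (e.symm b).2, ?_, ?_, ?_, ?_⟩
    · rw [← Subgroup.coe_mul, ← Subgroup.coe_mul, ← map_mul, ← map_mul, h1]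
    · rw [← Subgroup.coe_mul, ← map_mul]
      intro h
      have h' : e.symm (a * a) = 1 := Subtype.ext h
      rw [map_eq_one_iff e.symm (MulEquiv.injective _)] at h'
      exact h2 h'
    · rw [← Subgroup.coe_mul, ← Subgroup.coe_mul, ← map_mul, ← map_mul, h3, map_one]
      rfl
    · simp only [← Subgroup.coe_mul, ← map_mul]
      rw [h4]
  rcases h with ⟨⟨e⟩⟩ | ⟨⟨e⟩⟩
  · obtain ⟨a, b, h1, h2, h3, h4⟩ := STU_units_q8
    exact key e a b h1 h2 h3 h4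
  · exact key e STT_qa STT_qb STT_q1 STT_q2 STT_q3 STT_q4

/-- a subgroup preserving a line is commutative -/
theorem STU_comm_of_line
    (hreg : ∀ v w : V, v ≠ 0 → w ≠ 0 → ∃! h : H, (h : V ≃ₗ[ZMod p] V) v = w)
    (K : Subgroup H) (W : Submodule (ZMod p) V) (hW : Nat.card W = p)
    (hinv : ∀ k ∈ K, ∀ w ∈ W, ((k : H) : V ≃ₗ[ZMod p] V) w ∈ W) : IsMulCommutative K := by
  have hp : p.Prime := Fact.out
  haveI : Finite W := Nat.finite_of_card_ne_zero (by rw [hW]; exact hp.ne_zero)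
  have hfr : Module.finrank (ZMod p) W = 1 := by
    have h := Module.natCard_eq_pow_finrank (K := ZMod p) (V := W)
    rw [Nat.card_zmod, hW] at h
    exact (Nat.pow_right_injective hp.two_le (by simpa using h.symm))
  obtain ⟨⟨w₀, hw₀W⟩, hw₀, hgen⟩ := finrank_eq_one_iff'.mp hfr
  have hw₀' : w₀ ≠ 0 := fun h => hw₀ (Subtype.ext h)
  have hsc : ∀ k ∈ K, ∃ c : ZMod p, ((k : H) : V ≃ₗ[ZMod p] V) w₀ = c • w₀ := by
    intro k hk
    obtain ⟨c, hc⟩ := hgen ⟨_, hinv k hk w₀ hw₀W⟩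
    exact ⟨c, (congrArg Subtype.val hc).symm⟩
  refine ⟨⟨fun a b => ?_⟩⟩
  obtain ⟨ca, hca⟩ := hsc a.1 a.2
  obtain ⟨cb, hcb⟩ := hsc b.1 b.2
  have h1 : (((a * b : K) : H) : V ≃ₗ[ZMod p] V) w₀ = (((b * a : K) : H) : V ≃ₗ[ZMod p] V) w₀ := by
    have e1 : (((a * b : K) : H) : V ≃ₗ[ZMod p] V) w₀ =
        ((a : H) : V ≃ₗ[ZMod p] V) (((b : H) : V ≃ₗ[ZMod p] V) w₀) := rfl
    have e2 : (((b * a : K) : H) : V ≃ₗ[ZMod p] V) w₀ =
        ((b : H) : V ≃ₗ[ZMod p] V) (((a : H) : V ≃ₗ[ZMod p] V) w₀) := rfl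
    rw [e1, e2, hcb, hca, map_smul, map_smul, hca, hcb, smul_comm]
  obtain ⟨g, -, hg⟩ := hreg w₀ _ hw₀' (by
    show (((b * a : K) : H) : V ≃ₗ[ZMod p] V) w₀ ≠ 0
    intro h0
    exact hw₀' ((LinearEquiv.map_eq_zero_iff _).mp h0))
  have := (hg ((a * b : K) : H) h1).trans (hg ((b * a : K) : H) rfl).symm
  exact Subtype.ext this

/-- proper non-zero subspaces of a plane are lines -/
theorem STU_card_proper [Finite V] (hV : Nat.card V = p ^ 2) (W : Submodule (ZMod p) V)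
    (h0 : W ≠ ⊥) (h1 : W ≠ ⊤) : Nat.card W = p := by
  have hp : p.Prime := Fact.out
  have hfV : Module.finrank (ZMod p) V = 2 := by
    have h := Module.natCard_eq_pow_finrank (K := ZMod p) (V := V)
    rw [Nat.card_zmod, hV] at h
    exact (Nat.pow_right_injective hp.two_le h).symm
  have hle : Module.finrank (ZMod p) W ≤ 2 := hfV ▸ Submodule.finrank_le W
  have hne0 : Module.finrank (ZMod p) W ≠ 0 := fun h => h0 (Submodule.finrank_eq_zero.mp h)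
  have hne2 : Module.finrank (ZMod p) W ≠ 2 := fun h =>
    h1 (Submodule.eq_top_of_finrank_eq (h.trans hfV.symm))
  have hfW : Module.finrank (ZMod p) W = 1 := by omega
  rw [Module.natCard_eq_pow_finrank (K := ZMod p) (V := W), Nat.card_zmod, hfW, pow_one]

/-- `|Aut Q₈|` divides `24` -/
theorem STU_card_aut_q8 {N : Type*} [Group N] (e : N ≃* QuaternionGroup 2) :
    Nat.card (MulAut N) ∣ 24 := by
  rw [Nat.card_congr (MulAut.congr e).toEquiv,
    Nat.card_congr (MonoidHom.ofInjective QXc_iota_inj).toEquiv]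
  have h := Subgroup.card_subgroup_dvd_card (QXc_iota).range
  have h24 : Nat.card (Equiv.Perm (Fin 4)) = 24 := by
    rw [Nat.card_eq_fintype_card, Fintype.card_perm, Fintype.card_fin]; rfl
  rwa [h24] at h

/-- the arithmetic of the `Q₈` case -/
theorem STU_arith_q8 {u c t : ℕ} (hc : c ∣ u - 1) (ht : t ∣ 24) (h8 : 8 ≤ c * t)
    (heq : u ^ 2 = c * t + 1) : u = 3 ∨ u = 5 ∨ u = 7 ∨ u = 11 ∨ u = 23 := by
  have hu3 : 3 ≤ u := by
    by_contra h
    have : u ≤ 2 := by omega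
    have : u ^ 2 ≤ 2 ^ 2 := Nat.pow_le_pow_left this 2
    omega
  have hc0 : 0 < c := by
    rcases Nat.eq_zero_or_pos c with h | h
    · rw [h] at h8; omega
    · exact h
  obtain ⟨d, hd⟩ := hc
  have hud : u = c * d + 1 := by omega
  have hdt : d * (u + 1) = t := by
    have h1 : c * (d * (u + 1)) = c * t := by
      have : (c * d + 1) ^ 2 = c * t + 1 := by rw [← hud]; exact heq
      rw [hud]
      nlinarith [this]
    exact Nat.eq_of_mul_eq_mul_left hc0 h1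
  have hdvd : u + 1 ∣ 24 := Dvd.dvd.trans ⟨d, by rw [← hdt]; ring⟩ ht
  have hle : u + 1 ≤ 24 := Nat.le_of_dvd (by norm_num) hdvd
  have hu23 : u ≤ 23 := by omega
  interval_cases u <;> omega

end Cfsg.Agent.ZassL
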