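import Mathlib
import Cfsg.Agent.Lib.Zass.STUA
import Cfsg.Agent.Lib.Zass.STUB
import Cfsg.Agent.S3378

/-! # Sharply doubly transitive groups, exceptional types (S0686-S0688), part C (helper7):
a normal `Q₈` or `SL(2,5)` forces `|V| = p²`; irreducibility and the centralizer (S0687) -/

set_option autoImplicit false
set_option linter.unusedSectionVars false
set_option linter.unusedVariables false
set_option linter.style.haveILetI false

namespace Cfsg.Agent.ZassL

open Cfsg.Agent.S3358L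

universe u

local notation "SL25" => Matrix.SpecialLinearGroup (Fin 2) (ZMod 5)

variable {p : ℕ} [Fact p.Prime] {V : Type u} [AddCommGroup V] [Module (ZMod p) V]
  {H : Subgroup (V ≃ₗ[ZMod p] V)}

theorem STU_finite [Finite V] : Finite (V ≃ₗ[ZMod p] V) :=
  Finite.of_injective (fun f : V ≃ₗ[ZMod p] V => (f : V → V)) (fun f g hfg =>
    LinearEquiv.ext (fun x => congrFun hfg x))

/-- a subgroup preserving a subspace `U` has order dividing `|U| - 1` -/
theorem STU_card_dvd_of_invariant [Finite V]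
    (hreg : ∀ v w : V, v ≠ 0 → w ≠ 0 → ∃! h : H, (h : V ≃ₗ[ZMod p] V) v = w)
    (K : Subgroup H) (U : Submodule (ZMod p) V)
    (hinv : ∀ k ∈ K, ∀ u ∈ U, ((k : H) : V ≃ₗ[ZMod p] V) u ∈ U) :
    Nat.card K ∣ Nat.card U - 1 := by
  haveI := STU_finite (p := p) (V := V)
  have hinv' : ∀ (m : K), ∀ x ∈ {v : V | v ∈ U ∧ v ≠ 0}, m • x ∈ {v : V | v ∈ U ∧ v ≠ 0} := by
    rintro ⟨m, hm⟩ x ⟨hxU, hx0⟩
    refine ⟨hinv m hm x hxU, ?_⟩
    show (m : V ≃ₗ[ZMod p] V) x ≠ 0
    intro h0
    exact hx0 ((LinearEquiv.map_eq_zero_iff _).mp h0)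
  have hfree : ∀ (m : K), ∀ x ∈ {v : V | v ∈ U ∧ v ≠ 0}, m • x = x → m = 1 := by
    rintro ⟨m, hm⟩ x ⟨-, hx0⟩ hfix
    have : m = 1 := STT_free hreg hx0 hfix
    exact Subtype.ext this
  have h := Cfsg.Agent.Lib.Helper7.BG15P.card_dvd_ncard_of_free (K := K)
    {v : V | v ∈ U ∧ v ≠ 0} (Set.toFinite _) hinv' hfree
  have hset : {v : V | v ∈ U ∧ v ≠ 0} = (U : Set V) \ {0} := by
    ext v; simp
  have hU' : ((U : Set V)).ncard = Nat.card U := (Nat.card_coe_set_eq (U : Set V)).symm
  rw [hset, Set.ncard_sdiff_singleton_of_mem (U.zero_mem), hU'] at h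
  exact h

/-- a normal `Q₈` or `SL(2,5)`: `|V| = p²`, and the centralizer preserves a line -/
theorem STU_plane (hZ : TheoremZ.{u}) [Finite V]
    (hreg : ∀ v w : V, v ≠ 0 → w ≠ 0 → ∃! h : H, (h : V ≃ₗ[ZMod p] V) v = w)
    (N : Subgroup H) [hNn : N.Normal]
    (hN : Nonempty (N ≃* QuaternionGroup 2) ∨ Nonempty (N ≃* SL25)) :
    ∃ U : Submodule (ZMod p) V, Nat.card U = p ∧ Nat.card V = p ^ 2 ∧
      (Nat.card U = 3 ∨ Nat.card U = 5 ∨ Nat.card U = 7 ∨ Nat.card U = 11 ∨ Nat.card U = 23 ∨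
        Nat.card U = 29 ∨ Nat.card U = 59) ∧
      ∀ c ∈ Subgroup.centralizer (N : Set H), ∀ u ∈ U, ((c : H) : V ≃ₗ[ZMod p] V) u ∈ U := by
  haveI := STU_finite (p := p) (V := V)
  have hp : p.Prime := Fact.out
  obtain ⟨i₀, j₀, hiN, hjN, r1, r2, r3, r4⟩ := STU_units N hN
  obtain ⟨U, hVU, hUinv⟩ := STU_exists_half hreg r1 r2 r3 r4
  have hCinv : ∀ c ∈ Subgroup.centralizer (N : Set H), ∀ u ∈ U,
      ((c : H) : V ≃ₗ[ZMod p] V) u ∈ U := by
    intro c hc u hu
    rw [Subgroup.mem_centralizer_iff] at hc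
    exact hUinv c (hc i₀ hiN).symm (hc j₀ hjN).symm u hu
  -- a non-zero vector and the order of `H`
  obtain ⟨v₀, hv₀⟩ : ∃ v₀ : V, v₀ ≠ 0 := by
    by_contra hall0
    have hall : ∀ v : V, v = 0 := fun v => by_contra (fun h => hall0 ⟨v, h⟩)
    apply r2
    apply Subtype.ext
    ext v
    rw [hall v, map_zero]
    exact (hall _).symm
  have hcardH := STT_card hreg hv₀
  have hUpow : ∃ k : ℕ, Nat.card U = p ^ k :=
    ⟨Module.finrank (ZMod p) U, by
      rw [Module.natCard_eq_pow_finrank (K := ZMod p) (V := U), Nat.card_zmod]⟩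
  -- it suffices to show that `|U|` is one of the seven primes
  suffices hlist : Nat.card U = 3 ∨ Nat.card U = 5 ∨ Nat.card U = 7 ∨ Nat.card U = 11 ∨
      Nat.card U = 23 ∨ Nat.card U = 29 ∨ Nat.card U = 59 by
    have hUprime : (Nat.card U).Prime := by
      rcases hlist with h | h | h | h | h | h | h <;> rw [h] <;> norm_num
    obtain ⟨k, hk⟩ := hUpow
    have hk0 : k ≠ 0 := by
      rintro rfl
      rw [pow_zero] at hk
      exact hUprime.one_lt.ne' hk
    have hpU : p ∣ Nat.card U := by rw [hk]; exact dvd_pow_self p hk0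
    have hpe : p = Nat.card U := (Nat.prime_dvd_prime_iff_eq hp hUprime).mp hpU
    exact ⟨U, hpe.symm, by rw [hVU, ← hpe], hlist, hCinv⟩
  rcases hN with ⟨⟨e⟩⟩ | ⟨⟨e⟩⟩
  · -- `Q₈`
    have hCdvd := STU_card_dvd_of_invariant hreg (Subgroup.centralizer (N : Set H)) U hCinv
    have hker : (MulAut.conjNormal (H := N)).ker = Subgroup.centralizer (N : Set H) := by
      ext c
      rw [MonoidHom.mem_ker, Subgroup.mem_centralizer_iff]
      constructor
      · intro hc n hn
        have := congrArg (fun φ : MulAut N => ((φ ⟨n, hn⟩ : N) : H)) hc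
        simp only [MulAut.conjNormal_apply, MulAut.one_apply] at this
        calc n * c = (c * n * c⁻¹) * c := by rw [this]
          _ = c * n := by group
      · intro hc
        ext n
        simp only [MulAut.conjNormal_apply, MulAut.one_apply]
        rw [← hc n.1 n.2]; group
    have ht : (Subgroup.centralizer (N : Set H)).index ∣ 24 := by
      rw [← hker, Subgroup.index_ker]
      exact (Subgroup.card_subgroup_dvd_card _).trans (STU_card_aut_q8 e)
    have hmul := Subgroup.card_mul_index (Subgroup.centralizer (N : Set H))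
    have h8 : 8 ≤ Nat.card (Subgroup.centralizer (N : Set H)) *
        (Subgroup.centralizer (N : Set H)).index := by
      rw [hmul]
      have h1 : Nat.card N = 8 := by
        rw [Nat.card_congr e.toEquiv, Nat.card_eq_fintype_card, QuaternionGroup.card]
      rw [← h1]
      exact Subgroup.card_le_card_group (H := N)
    have heq : Nat.card U ^ 2 = Nat.card (Subgroup.centralizer (N : Set H)) *
        (Subgroup.centralizer (N : Set H)).index + 1 := by
      rw [hmul, hcardH, hVU]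
    rcases STU_arith_q8 hCdvd ht h8 heq with h | h | h | h | h
    · exact Or.inl h
    · exact Or.inr (Or.inl h)
    · exact Or.inr (Or.inr (Or.inl h))
    · exact Or.inr (Or.inr (Or.inr (Or.inl h)))
    · exact Or.inr (Or.inr (Or.inr (Or.inr (Or.inl h))))
  · -- `SL(2,5)`
    have hns : ¬ Group.IsSolvable H := by
      intro hs
      haveI := hs
      have hsN : Group.IsSolvable N := inferInstance
      haveI : Group.IsSolvable SL25 :=
        Group.isSolvable_of_surjective (f := e.toMonoidHom) e.surjective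
      haveI : Nontrivial SL25 := ⟨⟨STT_qa * STT_qa, 1, STT_q2⟩⟩
      have hlt := Group.IsSolvable.commutator_lt_top_of_nontrivial (G := SL25)
      exact hlt.ne Cfsg.Agent.S3378.sl_perfect
    have hsq : ∀ a : ℕ, Nat.card V = a ^ 2 → Nat.card U = a := by
      intro a ha
      rw [hVU] at ha
      exact Nat.pow_left_injective (by norm_num : 2 ≠ 0) ha
    rcases STT_main hZ hreg hns with ⟨hV, -⟩ | ⟨hV, -⟩ | ⟨hV, -⟩
    · exact Or.inr (Or.inr (Or.inr (Or.inl (hsq 11 (by rw [hV]; norm_num)))))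
    · exact Or.inr (Or.inr (Or.inr (Or.inr (Or.inr (Or.inl (hsq 29 (by rw [hV]; norm_num)))))))
    · exact Or.inr (Or.inr (Or.inr (Or.inr (Or.inr (Or.inr (hsq 59 (by rw [hV]; norm_num)))))))

/-- **S0687, from Theorem Z** -/
theorem STU_irred_centralizer (hZ : TheoremZ.{u}) [Finite V]
    (hreg : ∀ v w : V, v ≠ 0 → w ≠ 0 → ∃! h : H, (h : V ≃ₗ[ZMod p] V) v = w)
    (A : Subgroup H) (hAn : A.Normal) (hAc : IsMulCommutative A)
    (hAmax : ∀ B : Subgroup H, B.Normal → IsMulCommutative B → A ≤ B → B = A)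
    (N : Subgroup H) (hNn : N.Normal) (hNle : N ≤ Subgroup.centralizer (A : Set H))
    (hNna : ¬ IsMulCommutative N)
    (hNmin : ∀ M : Subgroup H, M.Normal → M ≤ N → ¬ IsMulCommutative M → M = N) :
    (∀ W : Submodule (ZMod p) V, (∀ n ∈ N, ∀ v ∈ W, ((n : H) : V ≃ₗ[ZMod p] V) v ∈ W) →
      W = ⊥ ∨ W = ⊤) ∧ Subgroup.centralizer (N : Set H) = A := by
  haveI := STU_finite (p := p) (V := V)
  have hne : ∃ h : H, h ≠ 1 := by
    by_contra hall0
    have hall : ∀ h : H, h = 1 := fun h => by_contra (fun hh => hall0 ⟨h, hh⟩)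
    exact hNna ⟨⟨fun a b => by
      have ha : a = 1 := Subtype.ext (hall a.1)
      have hb : b = 1 := Subtype.ext (hall b.1)
      rw [ha, hb]⟩⟩
  obtain ⟨n, ρ, hn, hρ⟩ := STT_hasFreeRep hreg hne
  have hN := STU_minimal_nonabelian hZ ⟨n, ρ, hn, hρ⟩ (hρ.PU hn) A hAn hAc hAmax N hNn hNle hNna
    hNmin
  obtain ⟨U, hUp, hVp, -, hCinv⟩ := STU_plane hZ hreg N hN
  constructor
  · intro W hW
    by_contra hcon
    rw [not_or] at hcon
    have hWp := STU_card_proper hVp W hcon.1 hcon.2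
    exact hNna (STU_comm_of_line hreg N W hWp hW)
  · have hCc : IsMulCommutative (Subgroup.centralizer (N : Set H)) :=
      STU_comm_of_line hreg _ U hUp hCinv
    have hAN : A ≤ Subgroup.centralizer (N : Set H) := Subgroup.le_centralizer_iff.mp hNle
    exact hAmax _ inferInstance hCc hAN

end Cfsg.Agent.ZassL
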