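import Mathlib
import Cfsg.Agent.Lib.Zass.STUC

/-! # Sharply doubly transitive groups, exceptional types (S0686-S0688), part D (helper7):
a self-centralizing cyclic normal subgroup of a regular linear group is irreducible -/

set_option autoImplicit false
set_option linter.unusedSectionVars false
set_option linter.unusedVariables false
set_option linter.style.haveILetI false

namespace Cfsg.Agent.ZassL

open Cfsg.Agent.S3358L

universe u

/-- an abelian subgroup of a `PU`-group is cyclic -/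
theorem STU_isCyclic_of_comm {G : Type u} [Group G] [Finite G] (hU : PU G) (A : Subgroup G)
    (hAc : IsMulCommutative A) : IsCyclic A := by
  have hUA : PU ↥A := (U3_subgroup A).1 hU
  haveI : IsZGroup ↥A := by
    refine ⟨fun q hq P => ?_⟩
    haveI : Fact q.Prime := ⟨hq⟩
    rcases U1_pgroup hUA q (P : Subgroup ↥A) P.isPGroup' with hc | ⟨-, n, ⟨e⟩⟩
    · exact hc
    · have hPc : IsMulCommutative (P : Subgroup ↥A) :=
        ⟨⟨fun a b => Subtype.ext (hAc.is_comm.comm a.1 b.1)⟩⟩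
      rcases Nat.eq_zero_or_pos n with hn | hn
      · subst hn
        rw [pow_zero] at e
        haveI : IsCyclic (QuaternionGroup 1) := QuaternionGroup.quaternionGroup_one_isCyclic
        exact isCyclic_of_surjective e.symm.toMonoidHom e.symm.surjective
      · exfalso
        -- a quaternion group of order at least `8` is not commutative
        have h1 := hPc.is_comm.comm (e.symm (QuaternionGroup.a 1)) (e.symm (QuaternionGroup.xa 0))
        rw [← map_mul, ← map_mul] at h1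
        have h2 := e.symm.injective h1
        simp only [QuaternionGroup.a_mul_xa, QuaternionGroup.xa_mul_a] at h2
        have h3 := QuaternionGroup.xa.inj h2
        have h4 : (2 : ZMod (2 * 2 ^ n)) = 0 := by
          have : (2 : ZMod (2 * 2 ^ n)) = (0 + 1) - (0 - 1) := by ring
          rw [this]
          exact sub_eq_zero.mpr h3.symm
        have h5 : ((2 : ℕ) : ZMod (2 * 2 ^ n)) = 0 := by exact_mod_cast h4
        rw [ZMod.natCast_eq_zero_iff] at h5
        have h6 := Nat.le_of_dvd (by norm_num) h5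
        have h7 : 2 ≤ 2 ^ n := by
          calc 2 = 2 ^ 1 := by norm_num
            _ ≤ 2 ^ n := Nat.pow_le_pow_right (by norm_num) hn
        omega
  haveI : Group.IsNilpotent ↥A := by
    rw [Subgroup.nilpotent_iff_lowerCentralSeries]
    exact ⟨1, Subgroup.lowerCentralSeries_one_eq_bot_iff.mpr hAc⟩
  infer_instance

/-- a cyclic group has at most `|A|` automorphisms -/
theorem STU_card_aut_le {A : Type*} [Group A] [Finite A] [hA : IsCyclic A] :
    Nat.card (MulAut A) ≤ Nat.card A := by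
  obtain ⟨g, hg⟩ := hA.exists_generator
  apply Nat.card_le_card_of_injective (fun φ : MulAut A => φ g)
  intro φ ψ h
  ext x
  obtain ⟨k, rfl⟩ := Subgroup.mem_zpowers_iff.mp (hg x)
  rw [map_zpow, map_zpow]
  exact congrArg (· ^ k) h

variable {p : ℕ} [Fact p.Prime] {V : Type u} [AddCommGroup V] [Module (ZMod p) V]
  {H : Subgroup (V ≃ₗ[ZMod p] V)}

/-- a self-centralizing cyclic normal subgroup of a regular linear group leaves no proper
non-zero subspace invariant -/
theorem STU_selfcentralizing_false [Finite V]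
    (hreg : ∀ v w : V, v ≠ 0 → w ≠ 0 → ∃! h : H, (h : V ≃ₗ[ZMod p] V) v = w)
    (A : Subgroup H) [hAn : A.Normal] [hAcyc : IsCyclic A]
    (hCA : Subgroup.centralizer (A : Set H) = A)
    (W : Submodule (ZMod p) V) (hW0 : W ≠ ⊥) (hW1 : W ≠ ⊤)
    (hWinv : ∀ a ∈ A, ∀ v ∈ W, ((a : H) : V ≃ₗ[ZMod p] V) v ∈ W) : False := by
  haveI := STU_finite (p := p) (V := V)
  -- a minimal invariant subspace
  obtain ⟨W₀, hW₀le, hW₀min⟩ := Finite.exists_le_minimal
    (p := fun X : Submodule (ZMod p) V => X ≠ ⊥ ∧ ∀ a ∈ A, ∀ v ∈ X,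
      ((a : H) : V ≃ₗ[ZMod p] V) v ∈ X) (a := W) ⟨hW0, hWinv⟩
  obtain ⟨⟨hW₀0, hW₀inv⟩, hmin⟩ := hW₀min
  obtain ⟨w₀, hw₀, hw₀0⟩ := Submodule.exists_mem_ne_zero_of_ne_bot hW₀0
  have hW₀top : W₀ ≠ ⊤ := by
    intro h
    rw [h] at hW₀le
    exact hW1 (top_le_iff.mp hW₀le)
  obtain ⟨v, hv⟩ : ∃ v : V, v ∉ W₀ := by
    by_contra hall
    have hall' : ∀ x : V, x ∈ W₀ := fun x => by_contra (fun hx => hall ⟨x, hx⟩)
    exact hW₀top (eq_top_iff.mpr (fun x _ => hall' x))
  have hv0 : v ≠ 0 := fun h => hv (h ▸ W₀.zero_mem)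
  obtain ⟨h, hh, -⟩ := hreg w₀ v hw₀0 hv0
  -- the translate `h W₀`
  obtain ⟨X, hX⟩ : ∃ X : Submodule (ZMod p) V, X = W₀ ⊓ W₀.map ((h : H) : V ≃ₗ[ZMod p] V).toLinearMap :=
    ⟨_, rfl⟩
  have hXinv : ∀ a ∈ A, ∀ x ∈ X, ((a : H) : V ≃ₗ[ZMod p] V) x ∈ X := by
    intro a ha x hx
    rw [hX] at hx ⊢
    obtain ⟨hx1, y, hy, rfl⟩ := hx
    refine ⟨hW₀inv a ha _ hx1, ?_⟩
    have hconj : h⁻¹ * a * h ∈ A := by
      have := hAn.conj_mem a ha h⁻¹
      rwa [inv_inv] at this
    refine ⟨((h⁻¹ * a * h : H) : V ≃ₗ[ZMod p] V) y, hW₀inv _ hconj y hy, ?_⟩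
    have : ((h * (h⁻¹ * a * h) : H) : V ≃ₗ[ZMod p] V) y = ((a * h : H) : V ≃ₗ[ZMod p] V) y := by
      congr 2
      group
    exact this
  have hXbot : X = ⊥ := by
    by_contra hXne
    have hle : W₀ ≤ X := hmin ⟨hXne, hXinv⟩ (by rw [hX]; exact inf_le_left)
    -- then `h⁻¹` maps `W₀` into itself, hence so does `h`
    have hinv : ∀ w ∈ W₀, ((h⁻¹ : H) : V ≃ₗ[ZMod p] V) w ∈ W₀ := by
      intro w hw
      have := hle hw
      rw [hX] at this
      obtain ⟨-, y, hy, hyw⟩ := this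
      have e1 : ((h⁻¹ : H) : V ≃ₗ[ZMod p] V) w = y := by
        rw [← hyw]
        have : ((h⁻¹ * h : H) : V ≃ₗ[ZMod p] V) y = y := by rw [inv_mul_cancel]; rfl
        exact this
      rw [e1]; exact hy
    let f : W₀ → W₀ := fun w => ⟨((h⁻¹ : H) : V ≃ₗ[ZMod p] V) w, hinv w w.2⟩
    have hfinj : Function.Injective f := by
      intro a b hab
      have := congrArg Subtype.val hab
      exact Subtype.ext ((LinearEquiv.injective _) this)
    have hfsurj : Function.Surjective f := Finite.injective_iff_surjective.mp hfinj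
    obtain ⟨w', hw'⟩ := hfsurj ⟨w₀, hw₀⟩
    have e2 : ((h : H) : V ≃ₗ[ZMod p] V) w₀ = w' := by
      have h1 : ((h⁻¹ : H) : V ≃ₗ[ZMod p] V) w' = w₀ := congrArg Subtype.val hw'
      rw [← h1]
      have : ((h * h⁻¹ : H) : V ≃ₗ[ZMod p] V) w' = w' := by rw [mul_inv_cancel]; rfl
      exact this
    apply hv
    rw [← hh, e2]
    exact w'.2
  -- `|W₀|² ≤ |V|`
  have hsq : Nat.card W₀ * Nat.card W₀ ≤ Nat.card V := by
    rw [← Nat.card_prod]
    apply Nat.card_le_card_of_injective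
      (fun x : W₀ × W₀ => (x.1 : V) + ((h : H) : V ≃ₗ[ZMod p] V) (x.2 : V))
    rintro ⟨⟨a, ha⟩, ⟨b, hb⟩⟩ ⟨⟨a', ha'⟩, ⟨b', hb'⟩⟩ hab
    simp only at hab
    have hmem : a - a' ∈ X := by
      rw [hX]
      refine ⟨W₀.sub_mem ha ha', b' - b, W₀.sub_mem hb' hb, ?_⟩
      show ((h : H) : V ≃ₗ[ZMod p] V) (b' - b) = a - a'
      rw [map_sub]
      calc ((h : H) : V ≃ₗ[ZMod p] V) b' - ((h : H) : V ≃ₗ[ZMod p] V) b
          = (a' + ((h : H) : V ≃ₗ[ZMod p] V) b') - (a' + ((h : H) : V ≃ₗ[ZMod p] V) b) := by abel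
        _ = (a + ((h : H) : V ≃ₗ[ZMod p] V) b) - (a' + ((h : H) : V ≃ₗ[ZMod p] V) b) := by
            rw [hab]
        _ = a - a' := by abel
    rw [hXbot, Submodule.mem_bot, sub_eq_zero] at hmem
    subst hmem
    have hb2 := add_left_cancel hab
    have := (LinearEquiv.injective _) hb2
    subst this
    rfl
  -- orders
  have hAdvd := STU_card_dvd_of_invariant hreg A W₀ hW₀inv
  have hw2 : 2 ≤ Nat.card W₀ := by
    haveI : Nontrivial W₀ := ⟨⟨⟨w₀, hw₀⟩, 0, fun h => hw₀0 (congrArg Subtype.val h)⟩⟩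
    exact Finite.one_lt_card
  have hAle : Nat.card A ≤ Nat.card W₀ - 1 := Nat.le_of_dvd (by omega) hAdvd
  have hker : (MulAut.conjNormal (H := A)).ker = Subgroup.centralizer (A : Set H) := by
    ext c
    rw [MonoidHom.mem_ker, Subgroup.mem_centralizer_iff]
    constructor
    · intro hc n hn
      have := congrArg (fun φ : MulAut A => ((φ ⟨n, hn⟩ : A) : H)) hc
      simp only [MulAut.conjNormal_apply, MulAut.one_apply] at this
      calc n * c = (c * n * c⁻¹) * c := by rw [this]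
        _ = c * n := by group
    · intro hc
      ext n
      simp only [MulAut.conjNormal_apply, MulAut.one_apply]
      rw [← hc n.1 n.2]; group
  have hidx : A.index ≤ Nat.card A := by
    have h1 : A.index = Nat.card (MulAut.conjNormal (H := A)).range := by
      rw [← Subgroup.index_ker, hker, hCA]
    rw [h1]
    exact (Subgroup.card_le_card_group _).trans STU_card_aut_le
  have hmul := Subgroup.card_mul_index A
  obtain ⟨v₀, hv₀⟩ : ∃ v₀ : V, v₀ ≠ 0 := ⟨v, hv0⟩
  have hcardH := STT_card hreg hv₀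
  have hA0 : 0 < Nat.card A := Nat.card_pos
  nlinarith [hsq, hAle, hidx, hmul, hcardH, hw2, Nat.sub_add_cancel (by omega : 1 ≤ Nat.card W₀)]

end Cfsg.Agent.ZassL
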