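import Mathlib
import Cfsg.Agent.Lib.Zass.STUD

/-! # Sharply doubly transitive groups, exceptional types (S0686-S0688), part E (helper7):
the soluble exceptional degrees `5², 7², 11², 23²` (S0688) -/

set_option autoImplicit false
set_option linter.unusedSectionVars false
set_option linter.unusedVariables false
set_option linter.style.haveILetI false

namespace Cfsg.Agent.ZassL

open Cfsg.Agent.S3358L

universe u

local notation "SL25" => Matrix.SpecialLinearGroup (Fin 2) (ZMod 5)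

variable {p : ℕ} [Fact p.Prime] {V : Type u} [AddCommGroup V] [Module (ZMod p) V]
  {H : Subgroup (V ≃ₗ[ZMod p] V)}

/-- existence of the pair `(A, N)` of S0686 when no cyclic normal subgroup is irreducible -/
theorem STU_exists_AN [Finite V]
    (hreg : ∀ v w : V, v ≠ 0 → w ≠ 0 → ∃! h : H, (h : V ≃ₗ[ZMod p] V) v = w)
    (hI : ∀ A : Subgroup H, A.Normal → IsCyclic A → ∃ W : Submodule (ZMod p) V, W ≠ ⊥ ∧ W ≠ ⊤ ∧
      ∀ a ∈ A, ∀ v ∈ W, ((a : H) : V ≃ₗ[ZMod p] V) v ∈ W)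
    (hU : PU H) :
    ∃ A N : Subgroup H, A.Normal ∧ IsMulCommutative A ∧
      (∀ B : Subgroup H, B.Normal → IsMulCommutative B → A ≤ B → B = A) ∧ N.Normal ∧
      N ≤ Subgroup.centralizer (A : Set H) ∧ ¬ IsMulCommutative N ∧
      (∀ M : Subgroup H, M.Normal → M ≤ N → ¬ IsMulCommutative M → M = N) := by
  haveI := STU_finite (p := p) (V := V)
  have hbot : IsMulCommutative (⊥ : Subgroup H) :=
    ⟨⟨fun a b => Subsingleton.elim _ _⟩⟩
  obtain ⟨A, -, ⟨hAn, hAc⟩, hAmax'⟩ := Finite.exists_le_maximal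
    (p := fun B : Subgroup H => B.Normal ∧ IsMulCommutative B) (a := ⊥) ⟨inferInstance, hbot⟩
  have hAmax : ∀ B : Subgroup H, B.Normal → IsMulCommutative B → A ≤ B → B = A :=
    fun B hBn hBc hAB => le_antisymm (hAmax' ⟨hBn, hBc⟩ hAB) hAB
  haveI := hAn
  have hAC : A ≤ Subgroup.centralizer (A : Set H) :=
    Subgroup.le_centralizer_iff_isMulCommutative.mpr hAc
  have hCna : ¬ IsMulCommutative (Subgroup.centralizer (A : Set H)) := by
    intro hCc
    have hCA := hAmax _ inferInstance hCc hAC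
    haveI hAcyc : IsCyclic A := STU_isCyclic_of_comm hU A hAc
    obtain ⟨W, hW0, hW1, hWinv⟩ := hI A hAn hAcyc
    exact STU_selfcentralizing_false hreg A hCA W hW0 hW1 hWinv
  obtain ⟨N, hNle, ⟨hNn, hNna⟩, hNmin'⟩ := Finite.exists_le_minimal
    (p := fun M : Subgroup H => M.Normal ∧ ¬ IsMulCommutative M)
    (a := Subgroup.centralizer (A : Set H)) ⟨inferInstance, hCna⟩
  refine ⟨A, N, hAn, hAc, hAmax, hNn, hNle, hNna, ?_⟩
  intro M hMn hMle hMna
  exact le_antisymm hMle (hNmin' ⟨hMn, hMna⟩ hMle)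

/-- a normal `Q₈` forces `|V| ∈ {3², 5², 7², 11², 23²}` -/
theorem STU_q8_card [Finite V]
    (hreg : ∀ v w : V, v ≠ 0 → w ≠ 0 → ∃! h : H, (h : V ≃ₗ[ZMod p] V) v = w)
    (N : Subgroup H) [hNn : N.Normal] (e : N ≃* QuaternionGroup 2) :
    Nat.card V = 9 ∨ Nat.card V = 25 ∨ Nat.card V = 49 ∨ Nat.card V = 121 ∨ Nat.card V = 529 := by
  haveI := STU_finite (p := p) (V := V)
  obtain ⟨i₀, j₀, hiN, hjN, r1, r2, r3, r4⟩ := STU_units N (Or.inl ⟨e⟩)
  obtain ⟨U, hVU, hUinv⟩ := STU_exists_half hreg r1 r2 r3 r4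
  have hCinv : ∀ c ∈ Subgroup.centralizer (N : Set H), ∀ u ∈ U,
      ((c : H) : V ≃ₗ[ZMod p] V) u ∈ U := by
    intro c hc u hu
    rw [Subgroup.mem_centralizer_iff] at hc
    exact hUinv c (hc i₀ hiN).symm (hc j₀ hjN).symm u hu
  obtain ⟨v₀, hv₀⟩ : ∃ v₀ : V, v₀ ≠ 0 := by
    by_contra hall0
    have hall : ∀ v : V, v = 0 := fun v => by_contra (fun h => hall0 ⟨v, h⟩)
    apply r2
    apply Subtype.ext
    ext v
    rw [hall v, map_zero]
    exact (hall _).symm
  have hcardH := STT_card hreg hv₀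
  have hCdvd := STU_card_dvd_of_invariant hreg (Subgroup.centralizer (N : Set H)) U hCinv
  have hker : (MulAut.conjNormal (H := N)).ker = Subgroup.centralizer (N : Set H) := by
    ext c
    rw [MonoidHom.mem_ker, Subgroup.mem_centralizer_iff]
    constructor
    · intro hc n hn
      have := congrArg (fun φ : MulAut N => ((φ ⟨n, hn⟩ : N) : H)) hc
      simp only [MulAut.conjNormal_apply, MulAut.one_apply] at this
      calc n * c = (c * n * c⁻¹) * c := by rw [this]
        _ = c * n := by group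
    · intro hc
      ext n
      simp only [MulAut.conjNormal_apply, MulAut.one_apply]
      rw [← hc n.1 n.2]; group
  have ht : (Subgroup.centralizer (N : Set H)).index ∣ 24 := by
    rw [← hker, Subgroup.index_ker]
    exact (Subgroup.card_subgroup_dvd_card _).trans (STU_card_aut_q8 e)
  have hmul := Subgroup.card_mul_index (Subgroup.centralizer (N : Set H))
  have h8 : 8 ≤ Nat.card (Subgroup.centralizer (N : Set H)) *
      (Subgroup.centralizer (N : Set H)).index := by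
    rw [hmul]
    have h1 : Nat.card N = 8 := by
      rw [Nat.card_congr e.toEquiv, Nat.card_eq_fintype_card, QuaternionGroup.card]
    rw [← h1]
    exact Subgroup.card_le_card_group (H := N)
  have heq : Nat.card U ^ 2 = Nat.card (Subgroup.centralizer (N : Set H)) *
      (Subgroup.centralizer (N : Set H)).index + 1 := by
    rw [hmul, hcardH, hVU]
  rcases STU_arith_q8 hCdvd ht h8 heq with h | h | h | h | h <;> rw [hVU, h] <;> norm_num

theorem STU_zmod3 : ∀ c : ZMod 3, c * c + 1 ≠ 0 := by decide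

/-- degree `9` is impossible: `Q₈` on `F₃²` has an irreducible cyclic normal subgroup -/
theorem STU_not_nine [Finite V]
    (hreg : ∀ v w : V, v ≠ 0 → w ≠ 0 → ∃! h : H, (h : V ≃ₗ[ZMod p] V) v = w)
    (hI : ∀ A : Subgroup H, A.Normal → IsCyclic A → ∃ W : Submodule (ZMod p) V, W ≠ ⊥ ∧ W ≠ ⊤ ∧
      ∀ a ∈ A, ∀ v ∈ W, ((a : H) : V ≃ₗ[ZMod p] V) v ∈ W)
    (N : Subgroup H) (e : N ≃* QuaternionGroup 2) (h9 : Nat.card V = 9) : False := by
  haveI := STU_finite (p := p) (V := V)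
  have hp : p.Prime := Fact.out
  -- `p = 3`
  have hp3 : p = 3 := by
    have h := Module.natCard_eq_pow_finrank (K := ZMod p) (V := V)
    rw [Nat.card_zmod, h9] at h
    have hk0 : Module.finrank (ZMod p) V ≠ 0 := by
      intro h0
      rw [h0, pow_zero] at h
      omega
    have hdvd : p ∣ 9 := by rw [h]; exact dvd_pow_self p hk0
    have h3 : p ∣ 3 := by
      have : p ∣ 3 ^ 2 := by norm_num; exact hdvd
      exact hp.dvd_of_dvd_pow this
    exact (Nat.prime_dvd_prime_iff_eq hp (by norm_num)).mp h3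
  subst hp3
  obtain ⟨i₀, j₀, hiN, hjN, r1, r2, r3, r4⟩ := STU_units N (Or.inl ⟨e⟩)
  have hzv := STT_neg_of_involution hreg r2 r3
  obtain ⟨v₀, hv₀⟩ : ∃ v₀ : V, v₀ ≠ 0 := by
    by_contra hall0
    have hall : ∀ v : V, v = 0 := fun v => by_contra (fun h => hall0 ⟨v, h⟩)
    apply r2
    apply Subtype.ext
    ext v
    rw [hall v, map_zero]
    exact (hall _).symm
  have hcardH := STT_card hreg hv₀
  have hH8 : Nat.card H = 8 := by omega
  -- `⟨i₀⟩` has order `4`, index `2`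
  have ho : orderOf i₀ = 4 := by
    have : orderOf i₀ = 2 ^ (1 + 1) := by
      apply orderOf_eq_prime_pow
      · rw [pow_one, pow_two]; exact r2
      · have : i₀ ^ 2 ^ (1 + 1) = (i₀ * i₀) * (i₀ * i₀) := by
          norm_num [pow_succ, mul_assoc]
        rw [this, r3]
    simpa using this
  have hidx : (Subgroup.zpowers i₀).index = 2 := by
    have h1 := Subgroup.card_mul_index (Subgroup.zpowers i₀)
    rw [Nat.card_zpowers, ho, hH8] at h1
    omega
  have hn : (Subgroup.zpowers i₀).Normal := Subgroup.normal_of_index_eq_two hidx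
  obtain ⟨W, hW0, hW1, hWinv⟩ := hI (Subgroup.zpowers i₀) hn inferInstance
  have hWp : Nat.card W = 3 := STU_card_proper (by rw [h9]; norm_num) W hW0 hW1
  haveI : Finite W := Nat.finite_of_card_ne_zero (by rw [hWp]; norm_num)
  have hfr : Module.finrank (ZMod 3) W = 1 := by
    have h := Module.natCard_eq_pow_finrank (K := ZMod 3) (V := W)
    rw [Nat.card_zmod, hWp] at h
    exact (Nat.pow_right_injective (by norm_num : 2 ≤ 3) (by simpa using h.symm))
  obtain ⟨⟨w₀, hw₀W⟩, hw₀, hgen⟩ := finrank_eq_one_iff'.mp hfr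
  have hw₀' : w₀ ≠ 0 := fun h => hw₀ (Subtype.ext h)
  obtain ⟨c, hc⟩ := hgen ⟨_, hWinv i₀ (Subgroup.mem_zpowers i₀) w₀ hw₀W⟩
  have hc' : ((i₀ : H) : V ≃ₗ[ZMod 3] V) w₀ = c • w₀ := (congrArg Subtype.val hc).symm
  have h1 : ((i₀ * i₀ : H) : V ≃ₗ[ZMod 3] V) w₀ = (c * c) • w₀ := by
    have e1 : ((i₀ * i₀ : H) : V ≃ₗ[ZMod 3] V) w₀ =
        ((i₀ : H) : V ≃ₗ[ZMod 3] V) (((i₀ : H) : V ≃ₗ[ZMod 3] V) w₀) := rfl
    rw [e1, hc', map_smul, hc', smul_smul]
  rw [hzv] at h1
  have h2 : (c * c + 1) • w₀ = 0 := by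
    rw [add_smul, one_smul, ← h1]; simp
  have h3 : c * c + 1 = 0 := (smul_eq_zero.mp h2).resolve_right hw₀'
  exact STU_zmod3 c h3

/-- **S0688, from Theorem Z** -/
theorem STU_degrees (hZ : TheoremZ.{u}) [Finite V]
    (hreg : ∀ v w : V, v ≠ 0 → w ≠ 0 → ∃! h : H, (h : V ≃ₗ[ZMod p] V) v = w)
    (hI : ∀ A : Subgroup H, A.Normal → IsCyclic A → ∃ W : Submodule (ZMod p) V, W ≠ ⊥ ∧ W ≠ ⊤ ∧
      ∀ a ∈ A, ∀ v ∈ W, ((a : H) : V ≃ₗ[ZMod p] V) v ∈ W)
    (hsolv : Group.IsSolvable H) :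
    Nat.card V = 25 ∨ Nat.card V = 49 ∨ Nat.card V = 121 ∨ Nat.card V = 529 := by
  haveI := STU_finite (p := p) (V := V)
  -- `H` is not trivial: otherwise `⊥` would be an irreducible cyclic normal subgroup
  have hne : ∃ h : H, h ≠ 1 := by
    by_contra hall0
    have hall : ∀ h : H, h = 1 := fun h => by_contra (fun hh => hall0 ⟨h, hh⟩)
    obtain ⟨W, hW0, hW1, -⟩ := hI ⊥ inferInstance inferInstance
    obtain ⟨w, hw, hw0⟩ := Submodule.exists_mem_ne_zero_of_ne_bot hW0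
    obtain ⟨v, hv⟩ : ∃ v : V, v ∉ W := by
      by_contra hall1
      have hall' : ∀ x : V, x ∈ W := fun x => by_contra (fun hx => hall1 ⟨x, hx⟩)
      exact hW1 (eq_top_iff.mpr (fun x _ => hall' x))
    have hv0 : v ≠ 0 := fun h => hv (h ▸ W.zero_mem)
    obtain ⟨h, hh, -⟩ := hreg w v hw0 hv0
    rw [hall h] at hh
    exact hv (hh ▸ hw)
  obtain ⟨n, ρ, hn, hρ⟩ := STT_hasFreeRep hreg hne
  have hU : PU H := hρ.PU hn
  obtain ⟨A, N, hAn, hAc, hAmax, hNn, hNle, hNna, hNmin⟩ := STU_exists_AN hreg hI hU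
  have hN := STU_minimal_nonabelian hZ ⟨n, ρ, hn, hρ⟩ hU A hAn hAc hAmax N hNn hNle hNna hNmin
  rcases hN with ⟨⟨e⟩⟩ | ⟨⟨e⟩⟩
  · haveI := hNn
    rcases STU_q8_card hreg N e with h | h | h | h | h
    · exact absurd h (fun h9 => STU_not_nine hreg hI N e h9)
    · exact Or.inl h
    · exact Or.inr (Or.inl h)
    · exact Or.inr (Or.inr (Or.inl h))
    · exact Or.inr (Or.inr (Or.inr h))
  · exfalso
    haveI := hsolv
    have hsN : Group.IsSolvable N := inferInstance
    haveI : Group.IsSolvable SL25 :=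
      Group.isSolvable_of_surjective (f := e.toMonoidHom) e.surjective
    haveI : Nontrivial SL25 := ⟨⟨STT_qa * STT_qa, 1, STT_q2⟩⟩
    have hlt := Group.IsSolvable.commutator_lt_top_of_nontrivial (G := SL25)
    exact hlt.ne Cfsg.Agent.S3378.sl_perfect

end Cfsg.Agent.ZassL
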