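import Mathlib
import Cfsg.Agent.Lib.Zass.PlanarB
import Cfsg.Agent.Lib.Zass.Deg2
import Cfsg.Agent.Lib.Zass.SmallD

/-!
# Zassenhaus cluster: the interface lemma (P2)

`P2_struct`: in a finite group with a free representation, for `x` of order `3` and `t` of
order `4`, either `t` normalizes `⟨x⟩` or `QSet x` is non-empty.

`P2_core`: a finite group `B` with a free representation of degree `2`, generated by non-central
elements of order `3` or `4`, with an element `x` of order `3` such that `⟨x⟩` is not normal: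
`|B| ∈ {24, 48, 120}`, the centre has order `2`, and `QSet x` is non-empty.
-/

set_option autoImplicit false
set_option linter.unusedSectionVars false
set_option linter.style.haveILetI false

namespace Cfsg.Agent.ZassL

open Subgroup

universe u

section core

variable {B : Type u} [Group B] [Finite B]

/-- conjugates of `x` lying in `zpowers x` make `zpowers x` normal -/
theorem P2_normal_of_conj {x : B} (h : ∀ g : B, g * x * g⁻¹ ∈ zpowers x) :
    (zpowers x).Normal := by
  refine ⟨fun y hy g => ?_⟩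
  obtain ⟨k, rfl⟩ := mem_zpowers_iff.1 hy
  have : g * x ^ k * g⁻¹ = (g * x * g⁻¹) ^ k := by rw [conj_zpow]
  rw [this]
  exact zpow_mem (h g) k

/-- the degree-two analysis -/
theorem P2_core (σ : B →* Matrix.GeneralLinearGroup (Fin 2) ℂ) (hσ : IsFree σ)
    (S : Set B) (hS : closure S = ⊤) (hord : ∀ s ∈ S, orderOf s = 3 ∨ orderOf s = 4)
    (hnc : ∀ s ∈ S, s ∉ center B) {z x : B} (hz : orderOf z = 2) (hx : orderOf x = 3)
    (hxn : ¬ (zpowers x).Normal) :
    (Nat.card B = 24 ∨ Nat.card B = 48 ∨ Nat.card B = 120) ∧ Nat.card (center B) = 2 ∧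
      (∀ t : B, orderOf t = 2 → t = z) := by
  have hU : Cfsg.Agent.S3358L.PU B := hσ.PU (by norm_num)
  have huniq : ∀ t : B, orderOf t = 2 → t = z := fun t ht =>
    hσ.unique_involution (by norm_num) ht hz
  have hzc : z ∈ center B := hσ.involution_central (by norm_num) hz
  -- `B` is not abelian
  have hnab : ∃ a b : B, a * b ≠ b * a := by
    by_contra hcon
    push Not at hcon
    apply hxn
    apply P2_normal_of_conj
    intro g
    have : g * x * g⁻¹ = x := by rw [hcon g x, mul_assoc, mul_inv_cancel, mul_one]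
    rw [this]
    exact mem_zpowers x
  -- generators have determinant one
  have hdet : ∀ s ∈ S, (mat σ s).det = 1 := by
    intro s hs
    have hns : ∀ c : ℂ, mat σ s ≠ c • (1 : Matrix (Fin 2) (Fin 2) ℂ) := by
      intro c hc
      exact hnc s hs (central_of_scalar (by norm_num) σ hσ hc)
    rcases hord s hs with h | h
    · exact (det_tr_of_order_three _ (hσ.mat_order_three' h) hns).2
    · exact (det_tr_of_order_four _ (hσ.mat_order_four' h) hns).2
  have hc2 : Nat.card (center B) ≤ 2 := card_center_le_two σ hσ hnab S hS hdet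
  have hc2' : Nat.card (center B) = 2 := by
    have h1 : 2 ∣ Nat.card (center B) := hz ▸ Subgroup.orderOf_dvd_natCard _ hzc
    have h2 := Nat.le_of_dvd Nat.card_pos h1
    omega
  have hmul := Subgroup.card_mul_index (center B)
  rw [hc2'] at hmul
  refine ⟨?_, hc2', huniq⟩
  rcases deg2_cases σ hσ with ⟨A, hA, hAi⟩ | h | h | h
  · exfalso
    apply hxn
    apply P2_normal_of_conj
    -- `x ∈ A`, and `A` is normal
    have hsq : ∀ g : B, g ^ 2 ∈ A := by
      intro g
      rcases hAi with h1 | h2
      · rw [Subgroup.index_eq_one.1 h1]; exact mem_top _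
      · exact Subgroup.sq_mem_of_index_two h2 g
    have hxA : x ∈ A := by
      have h4 : x = (x ^ 2) ^ 2 := by
        rw [← pow_mul]
        have : x ^ 3 = 1 := by rw [← hx]; exact pow_orderOf_eq_one x
        calc x = x ^ 3 * x := by rw [this, one_mul]
          _ = x ^ (2 * 2) := by rw [← pow_succ]
      rw [h4]
      exact hsq _
    haveI hAn : A.Normal := by
      rcases hAi with h1 | h2
      · rw [Subgroup.index_eq_one.1 h1]; infer_instance
      · exact Subgroup.normal_of_index_eq_two h2
    intro g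
    have hgA : g * x * g⁻¹ ∈ A := hAn.conj_mem x hxA g
    have ho : orderOf (g * x * g⁻¹) = 3 := by
      rw [← hx]
      exact (MulAut.conj g).orderOf_eq x
    exact hU 3 x (g * x * g⁻¹) (by norm_num) hx ho (hA x hxA _ hgA)
  · left; rw [h] at hmul; omega
  · right; left; rw [h] at hmul; omega
  · right; right; rw [h] at hmul; omega

/-- ... and `QSet x` is non-empty -/
theorem P2_core_QSet (σ : B →* Matrix.GeneralLinearGroup (Fin 2) ℂ) (hσ : IsFree σ)
    (S : Set B) (hS : closure S = ⊤) (hord : ∀ s ∈ S, orderOf s = 3 ∨ orderOf s = 4)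
    (hnc : ∀ s ∈ S, s ∉ center B) {z x : B} (hz : orderOf z = 2) (hx : orderOf x = 3)
    (hxn : ¬ (zpowers x).Normal) : (QSet x).Nonempty := by
  obtain ⟨hcard, hcen, huniq⟩ := P2_core σ hσ S hS hord hnc hz hx hxn
  have hzc : z ∈ center B := hσ.involution_central (by norm_num) hz
  rcases hcard with h | h | h
  · obtain ⟨-, -, Q, -, hQ, -⟩ := small_24 h hz hzc hx hxn
    exact ⟨Q, hQ⟩
  · obtain ⟨Q, -, hQ, -⟩ := small_48 h hz huniq hcen hx hxn
    exact ⟨Q, hQ⟩
  · obtain ⟨-, -, Q, -, -, hQ, -⟩ := small_120 h hz huniq hcen hx hxn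
    exact ⟨Q, hQ⟩

end core

section main

variable {G : Type u} [Group G] {n : ℕ} {ρ : G →* Matrix.GeneralLinearGroup (Fin n) ℂ}

/-- transfer of `QSet` from a subgroup -/
theorem P2_QSet_map (H : Subgroup G) {x : H} {Q : Subgroup H} (hQ : Q ∈ QSet x) :
    Q.map H.subtype ∈ QSet (x : G) := by
  obtain ⟨h8, hnorm, q, hq, hqx⟩ := hQ
  refine ⟨?_, ?_, ?_⟩
  · rw [Subgroup.card_map_of_injective H.subtype_injective, h8]
  · rintro _ ⟨q', hq', rfl⟩
    exact ⟨x * q' * x⁻¹, hnorm q' hq', rfl⟩
  · refine ⟨(q : G), ⟨q, hq, rfl⟩, ?_⟩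
    intro h
    apply hqx
    exact Subtype.ext h

/-- **(P2)** (helper5's version; helper8's `P2_struct` is the official one) -/
theorem P2_struct_h5 [Finite G] (hρ : IsFree ρ) (hn : 0 < n) {x t : G} (hx : orderOf x = 3)
    (ht : orderOf t = 4) : t * x * t⁻¹ ∈ zpowers x ∨ (QSet x).Nonempty := by
  by_cases hcon : t * x * t⁻¹ ∈ zpowers x
  · exact Or.inl hcon
  right
  obtain ⟨p₁, p₀, hqx⟩ := hρ.quad_of_order (x := x) (Or.inl hx)
  obtain ⟨q₁, q₀, hqt⟩ := hρ.quad_of_order (x := t) (Or.inr (Or.inl ht))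
  have hxH : x ∈ closure ({x, t} : Set G) := subset_closure (by simp)
  have htH : t ∈ closure ({x, t} : Set G) := subset_closure (by simp)
  have hncomm : ¬ (t * x = x * t) := by
    intro h
    apply hcon
    rw [h, mul_assoc, mul_inv_cancel, mul_one]
    exact mem_zpowers x
  obtain ⟨m, hm, σ, hσ⟩ := exists_free_closure_pair hρ hn hqx hqt
  rcases hm with rfl | rfl
  · exfalso
    apply hncomm
    have := deg1_comm σ hσ ⟨t, htH⟩ ⟨x, hxH⟩
    exact congrArg Subtype.val this
  · have hS : closure ({⟨x, hxH⟩, ⟨t, htH⟩} : Set (closure ({x, t} : Set G))) = ⊤ := by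
      have h1 := Subgroup.closure_closure_coe_preimage (k := ({x, t} : Set G))
      have h2 : ((↑) : closure ({x, t} : Set G) → G) ⁻¹' ({x, t} : Set G) =
          ({⟨x, hxH⟩, ⟨t, htH⟩} : Set (closure ({x, t} : Set G))) := by
        ext ⟨y, hy⟩
        simp only [Set.mem_preimage, Set.mem_insert_iff, Set.mem_singleton_iff, Subtype.mk.injEq]
      rw [h2] at h1
      exact h1
    have hord : ∀ s ∈ ({⟨x, hxH⟩, ⟨t, htH⟩} : Set (closure ({x, t} : Set G))),
        orderOf s = 3 ∨ orderOf s = 4 := by
      intro s hs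
      rcases hs with rfl | rfl
      · left; rw [Subgroup.orderOf_mk]; exact hx
      · right; rw [Subgroup.orderOf_mk]; exact ht
    have hnc : ∀ s ∈ ({⟨x, hxH⟩, ⟨t, htH⟩} : Set (closure ({x, t} : Set G))),
        s ∉ center (closure ({x, t} : Set G)) := by
      intro s hs hc
      rw [mem_center_iff] at hc
      rcases hs with rfl | rfl
      · exact hncomm (congrArg Subtype.val (hc ⟨t, htH⟩))
      · exact hncomm (congrArg Subtype.val (hc ⟨x, hxH⟩)).symm
    have hz : orderOf ((⟨t, htH⟩ : closure ({x, t} : Set G)) ^ 2) = 2 := by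
      have h4 : orderOf (⟨t, htH⟩ : closure ({x, t} : Set G)) = 4 := by
        rw [Subgroup.orderOf_mk]; exact ht
      rw [orderOf_pow' _ (by norm_num), h4]
      norm_num
    have hxn : ¬ (zpowers (⟨x, hxH⟩ : closure ({x, t} : Set G))).Normal := by
      intro hN
      apply hcon
      have := hN.conj_mem _ (mem_zpowers (⟨x, hxH⟩ : closure ({x, t} : Set G))) ⟨t, htH⟩
      obtain ⟨k, hk⟩ := mem_zpowers_iff.1 this
      rw [mem_zpowers_iff]
      refine ⟨k, ?_⟩
      have := congrArg (Subtype.val : closure ({x, t} : Set G) → G) hk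
      simpa using this
    obtain ⟨Q, hQ⟩ := P2_core_QSet σ hσ _ hS hord hnc hz
      (by rw [Subgroup.orderOf_mk]; exact hx) hxn
    exact ⟨Q.map (closure ({x, t} : Set G)).subtype, P2_QSet_map _ hQ⟩

end main

end Cfsg.Agent.ZassL
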