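import Mathlib
import Cfsg.Agent.Lib.Zass.Defs

set_option autoImplicit false

namespace Cfsg.Agent.ZassL

universe u

variable {G : Type u} [Group G]

/-- `QSet` computed in a subgroup maps into `QSet` of the ambient group -/
theorem ZP_QSet_map_subtype (B : Subgroup G) (x : B) (Q : Subgroup B) (hQ : Q ∈ QSet x) :
    Q.map B.subtype ∈ QSet (x : G) := by
  obtain ⟨hcard, hnorm, q₀, hq₀, hne⟩ := hQ
  refine ⟨?_, ?_, ?_⟩
  · rw [Subgroup.card_map_of_injective B.subtype_injective, hcard]
  · rintro _ ⟨q, hq, rfl⟩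
    exact ⟨x * q * x⁻¹, hnorm q hq, by simp⟩
  · refine ⟨(q₀ : G), ⟨q₀, hq₀, rfl⟩, ?_⟩
    intro h
    apply hne
    apply Subtype.ext
    simpa using h

/-- membership in a sup transported along the inclusion -/
theorem ZP_map_sup_zpowers (B : Subgroup G) (x : B) (Q : Subgroup B) :
    (Q ⊔ Subgroup.zpowers x).map B.subtype = Q.map B.subtype ⊔ Subgroup.zpowers (x : G) := by
  rw [Subgroup.map_sup, MonoidHom.map_zpowers]
  rfl

end Cfsg.Agent.ZassL
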